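import Mathlib.RingTheory.Flat.FaithfullyFlat.Algebra
import Mathlib.LinearAlgebra.TensorProduct.Tower
import Mathlib.RingTheory.Nilpotent.GeometricallyReduced
import Mathlib.RingTheory.LocalRing.ResidueField.Fiber

/-!
# Descending flatness and reduced fibres along a faithfully flat map
-/

set_option autoImplicit false

universe u

open TensorProduct

namespace GeomRedFibLib

variable (A B C : Type u) [CommRing A] [CommRing B] [CommRing C] [Algebra A B] [Algebra B C]
  [Algebra A C] [IsScalarTower A B C]

/-- A faithfully flat `B → C` stays injective after base change over `A`. -/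
theorem rTensor_injective [Module.FaithfullyFlat B C] (N : Type u) [AddCommGroup N] [Module A N] :
    Function.Injective (LinearMap.rTensor N (IsScalarTower.toAlgHom A B C).toLinearMap) := by
  let e := (TensorProduct.AlgebraTensorModule.cancelBaseChange A B B C N)
  have h : ∀ z, LinearMap.rTensor N (IsScalarTower.toAlgHom A B C).toLinearMap z =
      e (TensorProduct.mk B C (B ⊗[A] N) 1 z) := by
    intro z
    induction z using TensorProduct.induction_on with
    | zero => simp
    | add x y hx hy => simp only [map_add, hx, hy]
    | tmul b n => simp [e, Algebra.smul_def]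
  intro x y hxy
  rw [h, h] at hxy
  exact Module.FaithfullyFlat.tensorProduct_mk_injective (A := B) (B := C) _ (e.injective hxy)

/-- Flatness descends along a faithfully flat map of the target. -/
theorem flat_of_comp [Module.FaithfullyFlat B C] [Module.Flat A C] : Module.Flat A B := by
  rw [Module.Flat.iff_lTensor_preserves_injective_linearMap]
  intro N N' _ _ _ _ f hf x y hxy
  refine rTensor_injective A B C N (Module.Flat.lTensor_preserves_injective_linearMap (M := C) f hf ?_)
  have h : ∀ z, LinearMap.lTensor C f (LinearMap.rTensor N (IsScalarTower.toAlgHom A B C).toLinearMap z) =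
      LinearMap.rTensor N' (IsScalarTower.toAlgHom A B C).toLinearMap (LinearMap.lTensor B f z) := fun z ↦ by
    rw [← LinearMap.comp_apply, LinearMap.lTensor_comp_rTensor, ← LinearMap.rTensor_comp_lTensor]
    rfl
  rw [h, h, hxy]

/-- Geometric reducedness of a fibre descends along a faithfully flat map of the target. -/
theorem isGeometricallyReduced_fiber_of_comp [Module.FaithfullyFlat B C] (p : Ideal A) [p.IsPrime]
    (h : Algebra.IsGeometricallyReduced p.ResidueField (p.Fiber C)) :
    Algebra.IsGeometricallyReduced p.ResidueField (p.Fiber B) := by
  let f : p.Fiber B →ₐ[p.ResidueField] p.Fiber C :=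
    Algebra.TensorProduct.map (AlgHom.id p.ResidueField p.ResidueField) (IsScalarTower.toAlgHom A B C)
  refine Algebra.IsGeometricallyReduced.of_injective f ?_
  have hf : ∀ z, f z = TensorProduct.comm A C p.ResidueField (LinearMap.rTensor p.ResidueField
      (IsScalarTower.toAlgHom A B C).toLinearMap (TensorProduct.comm A p.ResidueField B z)) := by
    intro z
    induction z using TensorProduct.induction_on with
    | zero => simp
    | add x y hx hy => simp only [map_add, hx, hy]
    | tmul b n => simp [f]
  intro x y hxy
  rw [hf, hf] at hxy
  exact (TensorProduct.comm A _ _).injective (rTensor_injective A B C _ ((TensorProduct.comm A _ _).injective hxy))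

end GeomRedFibLib
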