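import Groth.Agent.AdicRingLib.Completion
import Groth.Agent.CompleteLib.CompletionHom
import Groth.Agent.FlatCrit.Basic
import Groth.Agent.GeomRedFibLib.Cancel
import Mathlib.RingTheory.AdicCompletion.AsTensorProduct
import Mathlib.RingTheory.AdicCompletion.LocalRing
import Mathlib.RingTheory.Flat.FaithfullyFlat.Algebra
import Mathlib.RingTheory.RingHom.Flat

/-!
# Maps of completions of Noetherian local rings
-/

set_option autoImplicit false
set_option synthInstance.maxHeartbeats 80000

universe u

open TensorProduct IsLocalRing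

namespace GeomRedFibLib

noncomputable section

/-- The completion at the maximal ideal. -/
abbrev Hat (A : Type u) [CommRing A] [IsLocalRing A] : Type u := AdicCompletion (maximalIdeal A) A

variable (A B : Type u) [CommRing A] [CommRing B] [IsLocalRing A] [IsLocalRing B] [IsNoetherianRing A]
  [IsNoetherianRing B] [Algebra A B]

omit [IsNoetherianRing B] [Algebra A B] [CommRing B] [IsLocalRing B] in
theorem faithfullyFlat_hat : Module.FaithfullyFlat A (Hat A) :=
  Module.FaithfullyFlat.of_flat_of_isLocalHom

theorem exists_cplMap [IsLocalHom (algebraMap A B)] :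
    ∃ ψ : Hat A →+* Hat B,
      ψ.comp (algebraMap A (Hat A)) = (algebraMap B (Hat B)).comp (algebraMap A B) := by
  haveI := AdicRingLib.isAdicComplete_map (C := B) (K := maximalIdeal B) (IsNoetherian.noetherian _)
  have h : (maximalIdeal A).map ((algebraMap B (Hat B)).comp (algebraMap A B)) ≤
      (maximalIdeal B).map (algebraMap B (Hat B)) := by
    rw [← Ideal.map_map]
    refine Ideal.map_mono (Ideal.map_le_iff_le_comap.mpr fun x hx ↦ ?_)
    simpa using hx
  exact ⟨CompleteLib.completionLift _ _ _ h, RingHom.ext fun a ↦ CompleteLib.completionLift_algebraMap _ _ _ h a⟩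

variable {A B} (ψ : Hat A →+* Hat B)
  (hψ : ψ.comp (algebraMap A (Hat A)) = (algebraMap B (Hat B)).comp (algebraMap A B))

include hψ in
omit [IsNoetherianRing B] in
theorem comp_eq : ψ.comp (algebraMap A (Hat A)) = algebraMap A (Hat B) := by
  rw [hψ, ← IsScalarTower.algebraMap_eq]

include hψ in
theorem isLocalHom_cplMap [IsLocalHom (algebraMap A B)] : IsLocalHom ψ := by
  refine ((IsLocalRing.local_hom_TFAE ψ).out 0 2).mpr ?_
  rw [AdicCompletion.maximalIdeal_eq_map, AdicCompletion.maximalIdeal_eq_map, Ideal.map_map, hψ, ← Ideal.map_map]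
  refine Ideal.map_mono (Ideal.map_le_iff_le_comap.mpr fun x hx ↦ ?_)
  simpa using hx

include hψ in
/-- The map of completions of a flat local map is flat. -/
theorem flat_cplMap [IsLocalHom (algebraMap A B)] [Module.Flat A B] : ψ.Flat := by
  letI := ψ.toAlgebra
  haveI := isLocalHom_cplMap ψ hψ
  haveI : IsScalarTower A (Hat A) (Hat B) := .of_algebraMap_eq fun a ↦ RingHom.congr_fun (comp_eq ψ hψ).symm a
  haveI : Module.Flat A (Hat B) := Module.Flat.trans A B (Hat B)
  haveI := AdicRingLib.isNoetherianRing_adicCompletion (maximalIdeal A)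
  haveI := AdicRingLib.isNoetherianRing_adicCompletion (maximalIdeal B)
  let I : Ideal (Hat A) := maximalIdeal (Hat A)
  have hmem : ∀ x : maximalIdeal A, algebraMap A (Hat A) x ∈ I := fun x ↦ by
    rw [show I = _ from AdicCompletion.maximalIdeal_eq_map]
    exact Ideal.mem_map_of_mem _ x.2
  let c₀ : Hat B →ₗ[A] maximalIdeal A →ₗ[A] Hat B ⊗[Hat A] I :=
    LinearMap.mk₂ A (fun b x ↦ b ⊗ₜ ⟨algebraMap A (Hat A) x, hmem x⟩)
      (fun b b' x ↦ add_tmul b b' _) (fun a b x ↦ (smul_tmul' a b _).symm)
      (fun b x y ↦ by rw [← tmul_add]; congr 1)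
      (fun a b x ↦ by rw [← tmul_smul]; congr 1)
  let c := TensorProduct.lift c₀
  have hsurj : ∀ t, ∃ u, c u = t := by
    intro t
    induction t using TensorProduct.induction_on with
    | zero => exact ⟨0, map_zero c⟩
    | add x y hx hy =>
      obtain ⟨u, rfl⟩ := hx; obtain ⟨v, rfl⟩ := hy
      exact ⟨u + v, map_add c u v⟩
    | tmul b y =>
      obtain ⟨y, hy⟩ := y
      have hy' : y ∈ Submodule.span (Hat A) (algebraMap A (Hat A) '' maximalIdeal A) := by
        have h := hy
        rw [show I = _ from AdicCompletion.maximalIdeal_eq_map] at h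
        exact h
      suffices ∀ z ∈ Submodule.span (Hat A) (algebraMap A (Hat A) '' maximalIdeal A),
          ∀ (hz : z ∈ I) (b : Hat B), ∃ u, c u = b ⊗ₜ (⟨z, hz⟩ : I) from this y hy' hy b
      intro z hz'
      induction hz' using Submodule.span_induction with
      | mem z hz =>
        obtain ⟨x, hx, rfl⟩ := hz
        exact fun _ b ↦ ⟨b ⊗ₜ ⟨x, hx⟩, rfl⟩
      | zero => exact fun _ b ↦ ⟨0, by rw [map_zero, show (⟨0, _⟩ : I) = 0 from rfl, tmul_zero]⟩
      | add v w hv hw ihv ihw =>
        intro _ b
        have hv' : v ∈ I := by rw [show I = _ from AdicCompletion.maximalIdeal_eq_map]; exact hv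
        have hw' : w ∈ I := by rw [show I = _ from AdicCompletion.maximalIdeal_eq_map]; exact hw
        obtain ⟨u₁, h₁⟩ := ihv hv' b
        obtain ⟨u₂, h₂⟩ := ihw hw' b
        exact ⟨u₁ + u₂, by rw [map_add, h₁, h₂, ← tmul_add]; rfl⟩
      | smul r v hv ihv =>
        intro _ b
        have hv' : v ∈ I := by rw [show I = _ from AdicCompletion.maximalIdeal_eq_map]; exact hv
        obtain ⟨u, hu⟩ := ihv hv' (r • b)
        exact ⟨u, by rw [hu, smul_tmul]; rfl⟩
  have hμ : ∀ u, TensorProduct.rid (Hat A) (Hat B) (LinearMap.lTensor (Hat B) I.subtype (c u)) =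
      TensorProduct.rid A (Hat B) (LinearMap.lTensor (Hat B) (maximalIdeal A).subtype u) := by
    intro u
    induction u using TensorProduct.induction_on with
    | zero => simp
    | add x y hx hy => simp only [map_add, hx, hy]
    | tmul b x => simp [c, c₀]
  refine FlatCrit.flat_of_injective_of_flat_quotient (S := Hat B) I ?_ ?_ ?_
  · rw [IsLocalRing.jacobson_eq_maximalIdeal ⊥ bot_ne_top]
    exact ((IsLocalRing.local_hom_TFAE ψ).out 0 2).mp (isLocalHom_cplMap ψ hψ)
  · rw [injective_iff_map_eq_zero]
    intro t ht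
    obtain ⟨u, rfl⟩ := hsurj t
    have h := hμ u
    rw [ht, map_zero] at h
    have hinj : Function.Injective (TensorProduct.rid A (Hat B) ∘
        LinearMap.lTensor (Hat B) (maximalIdeal A).subtype) :=
      (TensorProduct.rid A (Hat B)).injective.comp
        (Module.Flat.lTensor_preserves_injective_linearMap _ (Submodule.subtype_injective _))
    rw [hinj (a₁ := u) (a₂ := 0) (by simpa using h.symm), map_zero]
  · letI := Ideal.Quotient.field I
    infer_instance

include hψ in
/-- A flat map of completions comes from a flat map. -/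
theorem flat_of_flat_cplMap (h : ψ.Flat) : Module.Flat A B := by
  letI := ψ.toAlgebra
  haveI : Module.Flat (Hat A) (Hat B) := h
  haveI : IsScalarTower A (Hat A) (Hat B) := .of_algebraMap_eq fun a ↦ RingHom.congr_fun (comp_eq ψ hψ).symm a
  haveI := faithfullyFlat_hat B
  haveI : Module.Flat A (Hat B) := Module.Flat.trans A (Hat A) (Hat B)
  exact flat_of_comp A B (Hat B)

end

end GeomRedFibLib
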