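import Groth.Agent.GeomRedFibLib.LocalPropInst
import Groth.Agent.GeomRedFibLib.CplMap
import Groth.Agent.CatLib.CM
import Groth.Prelude.Def_EGA4b

/-!
# Formal fibres descend along flat local maps
-/

set_option autoImplicit false
set_option synthInstance.maxHeartbeats 100000

universe u

open TensorProduct IsLocalRing

namespace GeomRedFibLib

noncomputable section

theorem cm_of_regular (R : Type u) [CommRing R] [IsRegularRing R] : RingP CMLoc R := fun q _ ↦
  (CMFlatLib.isCohenMacaulayLocalRing_iff_isCM _).mpr (CommAlgDim.isCM_of_isRegularLocalRing _)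

theorem cm_fiber_of_geometricallyRegular {A B : Type u} [CommRing A] [CommRing B] [Algebra A B] (p : Ideal A) [p.IsPrime]
    (h : CAlg.IsGeometricallyRegular p.ResidueField (p.Fiber B)) : RingP CMLoc (p.Fiber B) := by
  haveI := h p.ResidueField inferInstance
  exact RingP.congr isFlatLocalProp_cm (R := p.ResidueField ⊗[p.ResidueField] (p.Fiber B))
    (Algebra.TensorProduct.lid p.ResidueField (p.Fiber B)).toRingEquiv
    (cm_of_regular _)

theorem isNoetherianRing_cpl (A : Type u) [CommRing A] [IsLocalRing A] [IsNoetherianRing A] :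
    IsNoetherianRing (EGA4.Cpl A) :=
  AdicRingLib.isNoetherianRing_adicCompletion (maximalIdeal A)

/-- The completion of the source maps faithfully flatly to the completion of the target. -/
theorem exists_cplTower (A A' : Type u) [CommRing A] [CommRing A'] [IsNoetherianRing A] [IsNoetherianRing A']
    [IsLocalRing A] [IsLocalRing A'] [Algebra A A'] [IsLocalHom (algebraMap A A')] [Module.Flat A A'] :
    ∃ (_ : Algebra (EGA4.Cpl A) (EGA4.Cpl A')), IsScalarTower A (EGA4.Cpl A) (EGA4.Cpl A') ∧
      Module.FaithfullyFlat (EGA4.Cpl A) (EGA4.Cpl A') := by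
  obtain ⟨ψ, hψ⟩ := exists_cplMap A A'
  letI := ψ.toAlgebra
  haveI : IsScalarTower A (EGA4.Cpl A) (EGA4.Cpl A') :=
    .of_algebraMap_eq fun a ↦ RingHom.congr_fun (comp_eq ψ hψ).symm a
  haveI : Module.Flat (EGA4.Cpl A) (EGA4.Cpl A') := flat_cplMap ψ hψ
  haveI : IsLocalHom (algebraMap (EGA4.Cpl A) (EGA4.Cpl A')) := isLocalHom_cplMap ψ hψ
  exact ⟨ψ.toAlgebra, inferInstance, Module.FaithfullyFlat.of_flat_of_isLocalHom⟩

end

end GeomRedFibLib
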