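import Groth.Agent.GeomRedFibLib.LocalPropSerre
import Groth.Agent.GeomRedFibLib.CplFibres
import Groth.Agent.CatLib.CM

/-!
# Flat-local properties at a prime
-/

set_option autoImplicit false
set_option synthInstance.maxHeartbeats 100000

universe u

open TensorProduct IsLocalRing

namespace GeomRedFibLib

noncomputable section

variable {P : ∀ (R : Type u) [CommRing R], Prop} (hP : IsFlatLocalProp P)

include hP in
/-- The property at every prime of a local ring is the property at every generization. -/
theorem ringP_localization_iff {R : Type u} [CommRing R] (q : Ideal R) [q.IsPrime] :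
    RingP P (Localization.AtPrime q) ↔ ∀ (q' : Ideal R) [q'.IsPrime], q' ≤ q → P (Localization.AtPrime q') := by
  constructor
  · intro h q' _ hle
    have hd : Disjoint (q.primeCompl : Set R) (q' : Set R) := Set.disjoint_left.mpr fun x hx hx' ↦ hx (hle hx')
    haveI : (q'.map (algebraMap R (Localization.AtPrime q))).IsPrime :=
      IsLocalization.isPrime_of_isPrime_disjoint q.primeCompl _ q' ‹_› hd
    let Q := q'.map (algebraMap R (Localization.AtPrime q))
    have hQ : Q.comap (algebraMap R (Localization.AtPrime q)) = q' :=
      IsLocalization.under_map_of_isPrime_disjoint q.primeCompl (Localization.AtPrime q) ‹_› hd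
    haveI : IsLocalization.AtPrime (Localization.AtPrime Q) q' := by
      have h := IsLocalization.isLocalization_isLocalization_atPrime_isLocalization q.primeCompl
        (S := Localization.AtPrime q) (Localization.AtPrime Q) Q
      simpa only [hQ] using h
    exact hP.congr _ _ (IsLocalization.algEquiv q'.primeCompl (Localization.AtPrime q') (Localization.AtPrime Q)).toRingEquiv.symm
      (h Q)
  · intro h Q _
    refine hP.congr _ _ (IsLocalization.localizationLocalizationAtPrimeIsoLocalization q.primeCompl Q).toRingEquiv
      (h _ fun x hx ↦ ?_)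
    by_contra hxq
    exact (inferInstance : Q.IsPrime).ne_top (Ideal.eq_top_of_isUnit_mem _ hx
      (IsLocalization.map_units (Localization.AtPrime q) (⟨x, hxq⟩ : q.primeCompl)))

variable (A B : Type u) [CommRing A] [IsNoetherianRing A] [CommRing B] [IsNoetherianRing B] [Algebra A B]
  [Module.Flat A B] (q : Ideal B) [q.IsPrime]

include hP in
/-- Ascent at a point. -/
theorem asc_at (hA : P (Localization.AtPrime (q.comap (algebraMap A B))))
    (hfib : P (EGA4.FibLocRing A B q)) : P (Localization.AtPrime q) := by
  let p := q.comap (algebraMap A B)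
  haveI : q.LiesOver p := ⟨rfl⟩
  letI := Localization.AtPrime.algebraOfLiesOver p q
  haveI : IsLocalHom (algebraMap (Localization.AtPrime p) (Localization.AtPrime q)) :=
    inferInstanceAs (IsLocalHom (Localization.localRingHom p q (algebraMap A B) rfl))
  haveI : Module.Flat (Localization.AtPrime p) (Localization.AtPrime q) :=
    RingHom.flat_algebraMap_iff.mp <| RingHom.Flat.localRingHom (RingHom.flat_algebraMap_iff.mpr ‹_›) ..
  refine hP.asc (Localization.AtPrime p) (Localization.AtPrime q) hA (hP.congr _ _ (Ideal.quotEquivOfEq ?_) hfib)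
  rw [← IsLocalization.AtPrime.map_eq_maximalIdeal p (Localization.AtPrime p), Ideal.map_map,
    ← IsScalarTower.algebraMap_eq]

include hP in
/-- The local ring of the base inherits the property from the local ring above. -/
theorem ringP_desc_at (hB : RingP P (Localization.AtPrime q)) :
    RingP P (Localization.AtPrime (q.comap (algebraMap A B))) := by
  let p := q.comap (algebraMap A B)
  haveI : q.LiesOver p := ⟨rfl⟩
  letI := Localization.AtPrime.algebraOfLiesOver p q
  haveI : IsLocalHom (algebraMap (Localization.AtPrime p) (Localization.AtPrime q)) :=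
    inferInstanceAs (IsLocalHom (Localization.localRingHom p q (algebraMap A B) rfl))
  haveI : Module.Flat (Localization.AtPrime p) (Localization.AtPrime q) :=
    RingHom.flat_algebraMap_iff.mp <| RingHom.Flat.localRingHom (RingHom.flat_algebraMap_iff.mpr ‹_›) ..
  haveI : Module.FaithfullyFlat (Localization.AtPrime p) (Localization.AtPrime q) :=
    Module.FaithfullyFlat.of_flat_of_isLocalHom
  exact RingP.desc hP (Localization.AtPrime p) (Localization.AtPrime q) hB

include hP in
/-- The local ring above inherits the property from the base and the fibres. -/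
theorem ringP_asc_at (hA : RingP P (Localization.AtPrime (q.comap (algebraMap A B))))
    (hfib : ∀ (q' : Ideal B) [q'.IsPrime], q' ≤ q → P (EGA4.FibLocRing A B q')) :
    RingP P (Localization.AtPrime q) := by
  rw [ringP_localization_iff hP] at hA ⊢
  exact fun q' _ hle ↦ asc_at hP A B q' (hA _ (Ideal.comap_mono hle)) (hfib q' hle)

omit [IsNoetherianRing A] [IsNoetherianRing B] [Algebra A B] [Module.Flat A B] in
theorem normal_local_iff (R : Type u) [CommRing R] [IsLocalRing R] [IsNoetherianRing R] :
    (IsDomain R ∧ IsIntegrallyClosed R) ↔ RingP (RkLoc 1) R ∧ RingP (SkLoc 2) R := by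
  rw [DepthLib.normal_iff_r1_s2, hasRk_iff, hasSk_iff]

omit [IsNoetherianRing A] [IsNoetherianRing B] [Algebra A B] [Module.Flat A B] in
theorem ringP_at_maximalIdeal {R : Type u} [CommRing R] [IsLocalRing R] (hP : IsFlatLocalProp P) (h : RingP P R) :
    P R :=
  hP.congr _ _ (IsLocalization.atUnits R (maximalIdeal R).primeCompl (S := Localization.AtPrime (maximalIdeal R))
    (fun x hx ↦ by simpa [IsUnit.mem_submonoid_iff] using hx)).symm.toRingEquiv (h (maximalIdeal R))

theorem skLoc_of_regular (n : ℕ) (R : Type u) [CommRing R] [IsRegularRing R] : RingP (SkLoc n) R := fun q _ ↦ by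
  refine ⟨inferInstance, inferInstance, ?_⟩
  obtain ⟨d, hd⟩ := CommAlgDim.exists_ringKrullDim_eq (R := Localization.AtPrime q)
  refine (min_le_right _ _).trans ?_
  rw [hd]
  exact WithBot.coe_le_coe.2 (CMFlatLib.le_depth_of_isCM (CommAlgDim.isCM_of_isRegularLocalRing _) hd.ge)

theorem rkLoc_of_regular (k : ℕ) (R : Type u) [CommRing R] [h : IsRegularRing R] : RingP (RkLoc k) R :=
  fun q _ _ ↦ h.isRegularLocalRing_localization q

theorem isNormalRing_finite_bc_iff (k k' F : Type u) [Field k] [Field k'] [CommRing F] [Algebra k k'] [Algebra k F]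
    [Module.Finite k k'] [IsNoetherianRing F] :
    EGA4.IsNormalRing (k' ⊗[k] F) ↔ RingP (RkLoc 1) (k' ⊗[k] F) ∧ RingP (SkLoc 2) (k' ⊗[k] F) :=
  haveI := isNoetherianRing_finite_bc k k' F
  isNormalRing_iff _

theorem ringP_fiber_of_forall_finite {A B : Type u} [CommRing A] [CommRing B] [Algebra A B]
    {P : ∀ (R : Type u) [CommRing R], Prop} (hP : IsFlatLocalProp P) (p : Ideal A) [p.IsPrime]
    (h : RingP P (p.ResidueField ⊗[p.ResidueField] (p.Fiber B))) : RingP P (p.Fiber B) :=
  RingP.congr hP (Algebra.TensorProduct.lid p.ResidueField (p.Fiber B)).toRingEquiv h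

end

end GeomRedFibLib
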