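import Groth.Prelude.Def_EGA4b

/-!
# Normal rings and ring equivalences
-/

set_option autoImplicit false

universe u

open EGA4

namespace GeomRedFibLib

theorem isNormalRing_of_ringEquiv (R S : Type u) [CommRing R] [CommRing S] (e : R ≃+* S) (h : IsNormalRing R) :
    IsNormalRing S := by
  intro p hp
  let q := p.comap e.toRingHom
  obtain ⟨h1, h2⟩ := h q
  have hM : q.primeCompl.map e.toMonoidHom = p.primeCompl := by
    ext y
    refine ⟨?_, fun hy ↦ ⟨e.symm y, fun hc ↦ hy (by simpa [q] using hc), e.apply_symm_apply y⟩⟩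
    rintro ⟨x, hx, rfl⟩ hc
    exact hx hc
  let σ : Localization.AtPrime q ≃+* Localization.AtPrime p :=
    IsLocalization.ringEquivOfRingEquiv (M := q.primeCompl) (T := p.primeCompl) _ _ e hM
  exact ⟨σ.symm.toMulEquiv.isDomain, IsIntegrallyClosed.of_equiv σ⟩

end GeomRedFibLib
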