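import Groth.Agent.GeomRedFibLib.GeomApps
import Groth.Agent.GeomRedFibLib.Normal
import Mathlib.RingTheory.Polynomial.ScaleRoots
import Mathlib.RingTheory.Ideal.Quotient.Operations
import Mathlib.RingTheory.Ideal.MinimalPrime.Noetherian

/-!
# Products of normal domains, without finiteness
-/

set_option autoImplicit false
set_option synthInstance.maxHeartbeats 400000

universe u

open TensorProduct IsLocalRing Polynomial

namespace GeomRedFibLib

/-- The two properties of a finite product of normal domains which pass to localisations and colimits. -/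
def SplitClosed (S : Type u) [CommRing S] : Prop :=
  (∀ x y : S, x * y = 0 → ∃ e, IsIdempotentElem e ∧ e * y = y ∧ e * x = 0) ∧
    ∀ (x y : S) (p : S[X]), p.Monic → (p.scaleRoots y).eval x = 0 →
      ∃ e z, IsIdempotentElem e ∧ e * y = y ∧ e * x = z * y

/-- A Noetherian normal ring is split closed. -/
theorem splitClosed_of_isNormalRing (S : Type u) [CommRing S] [IsNoetherianRing S] (hS : EGA4.IsNormalRing S) :
    SplitClosed S := by
  classical
  have huniq : ∀ (p p' : minimalPrimes S) (m : Ideal S), m.IsPrime → p.1 ≤ m → p'.1 ≤ m → p = p' := by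
    intro p p' m hm hp hp'
    haveI := (hS m).1
    have key : ∀ q : minimalPrimes S, q.1 ≤ m →
        q.1 = RingHom.ker (algebraMap S (Localization.AtPrime m)) := fun q hq ↦ by
      haveI : q.1.IsPrime := q.2.1.1
      have h : RingHom.ker (algebraMap S (Localization.AtPrime m)) ≤ q.1 := fun x hx ↦ by
        obtain ⟨c, hc⟩ := (IsLocalization.map_eq_zero_iff m.primeCompl _ x).mp hx
        exact (Ideal.IsPrime.mem_or_mem ‹_› (hc ▸ q.1.zero_mem)).resolve_left fun h ↦ c.2 (hq h)
      exact (h.antisymm (q.2.2 ⟨RingHom.ker_isPrime _, bot_le⟩ h)).symm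
    exact Subtype.ext ((key p hp).trans (key p' hp').symm)
  have hnil : ∀ x : S, (∀ p : minimalPrimes S, x ∈ p.1) → IsNilpotent x := fun x hx ↦ by
    rw [← mem_nilradical, nilradical_eq_sInf, Ideal.mem_sInf]
    intro Q hQ
    haveI : Q.IsPrime := hQ
    obtain ⟨P, hP, hPQ⟩ := Ideal.exists_minimalPrimes_le (I := ⊥) (J := Q) bot_le
    exact hPQ (hx ⟨P, hP⟩)
  haveI : _root_.IsReduced S := ⟨fun x hx ↦ by
    have : x ∈ (⊥ : Ideal S) := Ideal.mem_of_localization_maximal fun m hm ↦ by
      haveI := (hS m).1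
      simpa using (hx.map (algebraMap S (Localization.AtPrime m))).eq_zero
    simpa using this⟩
  haveI : Finite (minimalPrimes S) := (minimalPrimes.finite_of_isNoetherianRing S).to_subtype
  haveI := Fintype.ofFinite (minimalPrimes S)
  have hzero : ∀ x : S, (∀ p : minimalPrimes S, x ∈ p.1) → x = 0 := fun x hx ↦ (hnil x hx).eq_zero
  have hpair : Pairwise fun p p' : minimalPrimes S ↦ IsCoprime p.1 p'.1 := fun p p' h ↦ by
    show IsCoprime p.1 p'.1
    rw [Ideal.isCoprime_iff_sup_eq]
    by_contra hne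
    obtain ⟨m, hm, hle⟩ := Ideal.exists_le_maximal _ hne
    exact h (huniq p p' m hm.isPrime (le_sup_left.trans hle) (le_sup_right.trans hle))
  -- the support idempotent
  have hsupp : ∀ y : S, ∃ e, IsIdempotentElem e ∧ e * y = y ∧
      ∀ p : minimalPrimes S, y ∈ p.1 → e ∈ p.1 := fun y ↦ by
    obtain ⟨e, he⟩ := Ideal.exists_forall_sub_mem_ideal hpair
      fun p : minimalPrimes S ↦ if y ∈ p.1 then (0 : S) else 1
    have h : ∀ p : minimalPrimes S, (y ∈ p.1 → e ∈ p.1) ∧ (y ∉ p.1 → e - 1 ∈ p.1) := fun p ↦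
      ⟨fun hy ↦ by simpa [hy] using he p, fun hy ↦ by simpa [hy] using he p⟩
    refine ⟨e, sub_eq_zero.mp (hzero _ fun p ↦ ?_), sub_eq_zero.mp (hzero _ fun p ↦ ?_), fun p ↦ (h p).1⟩
    · by_cases hy : y ∈ p.1
      · rw [show e * e - e = (e - 1) * e by ring]
        exact Ideal.mul_mem_left _ _ ((h p).1 hy)
      · rw [show e * e - e = e * (e - 1) by ring]
        exact Ideal.mul_mem_left _ _ ((h p).2 hy)
    · by_cases hy : y ∈ p.1
      · rw [show e * y - y = (e - 1) * y by ring]
        exact Ideal.mul_mem_left _ _ hy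
      · rw [show e * y - y = y * (e - 1) by ring]
        exact Ideal.mul_mem_left _ _ ((h p).2 hy)
  refine ⟨fun x y hxy ↦ ?_, fun x y f hf hfx ↦ ?_⟩
  · obtain ⟨e, he, hey, hep⟩ := hsupp y
    refine ⟨e, he, hey, hzero _ fun p ↦ ?_⟩
    haveI : p.1.IsPrime := p.2.1.1
    rcases Ideal.IsPrime.mem_or_mem ‹_› (hxy ▸ p.1.zero_mem) with h | h
    · exact Ideal.mul_mem_left _ _ h
    · exact Ideal.mul_mem_right _ _ (hep p h)
  · obtain ⟨e, he, hey, hep⟩ := hsupp y
    suffices h : e * x ∈ Ideal.span {y} by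
      obtain ⟨z, hz⟩ := Ideal.mem_span_singleton'.mp h
      exact ⟨e, z, he, hey, hz.symm⟩
    refine Ideal.mem_of_localization_maximal fun m hm ↦ ?_
    let g := algebraMap S (Localization.AtPrime m)
    haveI := (hS m).1
    haveI := (hS m).2
    rw [Ideal.map_span, Set.image_singleton, Ideal.mem_span_singleton']
    by_cases hy : g y = 0
    · obtain ⟨P, hP, hPm⟩ := Ideal.exists_minimalPrimes_le (I := (⊥ : Ideal S)) (J := m) bot_le
      haveI : P.IsPrime := hP.1.1
      obtain ⟨c, hc⟩ := (IsLocalization.map_eq_zero_iff m.primeCompl _ y).mp hy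
      have hyP : y ∈ P := (Ideal.IsPrime.mem_or_mem ‹_› (hc ▸ P.zero_mem)).resolve_left fun h ↦ c.2 (hPm h)
      have hee : g e = 0 := by
        rcases IsIdempotentElem.iff_eq_zero_or_one.mp (he.map g) with h | h
        · exact h
        · exfalso
          have h1 : g (e - 1) = 0 := by rw [map_sub, h, map_one, sub_self]
          obtain ⟨d, hd⟩ := (IsLocalization.map_eq_zero_iff m.primeCompl _ (e - 1)).mp h1
          have h2 : e - 1 ∈ P := (Ideal.IsPrime.mem_or_mem ‹_› (hd ▸ P.zero_mem)).resolve_left fun h ↦ d.2 (hPm h)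
          exact (Ideal.IsPrime.ne_top ‹_›) (P.eq_top_iff_one.mpr (by simpa using P.sub_mem (hep ⟨P, hP⟩ hyP) h2))
      refine ⟨0, ?_⟩
      show 0 * g y = g (e * x)
      rw [map_mul, hee, zero_mul, zero_mul]
    · let K := FractionRing (Localization.AtPrime m)
      let q := algebraMap (Localization.AtPrime m) K
      have hy' : q (g y) ≠ 0 := fun h ↦ hy ((map_eq_zero_iff q (IsFractionRing.injective _ K)).mp h)
      have hint : IsIntegral (Localization.AtPrime m) (q (g x) / q (g y)) := by
        refine ⟨f.map g, hf.map g, ?_⟩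
        have h := congrArg (q.comp g) hfx
        rw [← eval₂_at_apply, map_zero] at h
        have h2 : Polynomial.eval₂ (q.comp g) ((q.comp g) y * (q (g x) / q (g y))) (f.scaleRoots y) = 0 := by
          rwa [RingHom.comp_apply, mul_div_cancel₀ _ hy']
        rw [scaleRoots_eval₂_mul, mul_eq_zero] at h2
        rw [eval₂_map]
        exact h2.resolve_left (pow_ne_zero _ hy')
      obtain ⟨w, hw⟩ := IsIntegrallyClosed.isIntegral_iff.mp hint
      have hw' : g x = w * g y := by
        apply IsFractionRing.injective (Localization.AtPrime m) K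
        rw [map_mul, hw, div_mul_cancel₀ _ hy']
      refine ⟨g e * w, ?_⟩
      rw [map_mul, show algebraMap S _ x = g x from rfl, hw', mul_assoc]

/-- Split closedness passes to a localisation without idempotents: it is a normal domain. -/
theorem SplitClosed.isDomain_and_isIntegrallyClosed {S : Type u} [CommRing S] (hS : SplitClosed S) (W : Submonoid S)
    (R : Type u) [CommRing R] [Algebra S R] [IsLocalization W R] [Nontrivial R]
    (hR : ∀ e : R, IsIdempotentElem e → e = 0 ∨ e = 1) : IsDomain R ∧ IsIntegrallyClosed R := by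
  let g := algebraMap S R
  have hsupp : ∀ {e y : S}, IsIdempotentElem e → e * y = y → g y ≠ 0 → g e = 1 := fun he hey hy ↦
    (hR _ (he.map g)).resolve_left fun h ↦ hy (by rw [← hey, map_mul, h, zero_mul])
  have hdom : IsDomain R := by
    haveI : NoZeroDivisors R := ⟨fun {a b} hab ↦ by
      obtain ⟨⟨x, s⟩, rfl⟩ := IsLocalization.mk'_surjective W a
      obtain ⟨⟨y, t⟩, rfl⟩ := IsLocalization.mk'_surjective W b
      rw [← IsLocalization.mk'_mul, IsLocalization.mk'_eq_zero_iff] at hab
      obtain ⟨c, hc⟩ := hab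
      refine or_iff_not_imp_right.mpr fun hb ↦ ?_
      have hb' : g y ≠ 0 := fun h ↦ hb ((IsLocalization.mk'_eq_mul_mk'_one y t).trans (by rw [show algebraMap S R y = 0 from h, zero_mul]))
      obtain ⟨e, he, hey, hex⟩ := hS.1 (c * x) y (by rw [mul_assoc, hc])
      have h := congrArg g hex
      rw [map_mul, hsupp he hey hb', one_mul, map_mul, map_zero, (IsLocalization.map_units R c).mul_right_eq_zero] at h
      exact (IsLocalization.mk'_eq_mul_mk'_one x s).trans (by rw [h, zero_mul])⟩
    exact NoZeroDivisors.to_isDomain R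
  refine ⟨hdom, ?_⟩
  haveI := hdom
  let K := FractionRing R
  refine (isIntegrallyClosed_iff K).mpr fun {a} ha ↦ ?_
  obtain ⟨r, s, hs, rfl⟩ := IsFractionRing.div_surjective (A := R) a
  obtain ⟨⟨x, u⟩, rfl⟩ := IsLocalization.mk'_surjective W r
  obtain ⟨⟨y, v⟩, rfl⟩ := IsLocalization.mk'_surjective W s
  let q := algebraMap R K
  have hy : g y ≠ 0 := fun h ↦ nonZeroDivisors.ne_zero hs
    ((IsLocalization.mk'_eq_mul_mk'_one y v).trans (by rw [show algebraMap S R y = 0 from h, zero_mul]))
  have hy' : q (g y) ≠ 0 := fun h ↦ hy ((map_eq_zero_iff q (IsFractionRing.injective R K)).mp h)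
  have hu : ∀ w : W, q (g w) ≠ 0 := fun w ↦ ((IsLocalization.map_units R w).map q).ne_zero
  -- it suffices to treat `x v / (y u)`
  have hval : q (IsLocalization.mk' R x u) / q (IsLocalization.mk' R y v) = q (g (x * v)) / q (g (y * u)) := by
    have h1 : q (IsLocalization.mk' R x u) * q (g u) = q (g x) := by rw [← map_mul, IsLocalization.mk'_spec]
    have h2 : q (IsLocalization.mk' R y v) * q (g v) = q (g y) := by rw [← map_mul, IsLocalization.mk'_spec]
    have h3 : q (IsLocalization.mk' R y v) ≠ 0 := fun h ↦ hy' (by rw [← h2, h, zero_mul])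
    have h4 : q (g (y * u)) ≠ 0 := by rw [map_mul, map_mul]; exact mul_ne_zero hy' (hu u)
    rw [div_eq_div_iff h3 h4, map_mul, map_mul, map_mul, map_mul, ← h1, ← h2]
    ring
  rw [hval] at ha ⊢
  have hy2 : q (g (y * u)) ≠ 0 := by rw [map_mul, map_mul]; exact mul_ne_zero hy' (hu u)
  obtain ⟨f, hf, hfa⟩ := ha
  obtain ⟨D, hD⟩ : ∃ D : W, f.scaleRoots (g D) ∈ Polynomial.lifts (algebraMap S R) := ⟨_,
    IsLocalization.scaleRoots_commonDenom_mem_lifts W f (by rw [hf.leadingCoeff]; exact one_mem _)⟩
  obtain ⟨f', hf', -, hf'm⟩ := Polynomial.lifts_and_natDegree_eq_and_monic hD ((Polynomial.monic_scaleRoots_iff _).mpr hf)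
  let x' := x * v * D
  let y' := y * u
  have h0 : (q.comp g) ((f'.scaleRoots y').eval x') = 0 := by
    rw [← eval₂_at_apply]
    have he : (q.comp g) x' = (q.comp g) y' * (q (g D) * (q (g (x * v)) / q (g (y * u)))) := by
      simp only [x', y', RingHom.comp_apply]
      rw [map_mul g (x * v) (D : S), map_mul q, mul_left_comm, mul_div_cancel₀ _ hy2, mul_comm]
    rw [he, scaleRoots_eval₂_mul, ← eval₂_map, hf', scaleRoots_eval₂_eq_zero q hfa, mul_zero]
  rw [RingHom.comp_apply, map_eq_zero_iff q (IsFractionRing.injective R K), IsLocalization.map_eq_zero_iff W] at h0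
  obtain ⟨c, hc⟩ := h0
  have h1 : (f'.scaleRoots ((c : S) * y')).eval ((c : S) * x') = 0 := by
    have key : (f'.scaleRoots ((c : S) * y')).eval ((c : S) * x') =
        (c : S) ^ f'.natDegree * (f'.scaleRoots y').eval x' := by
      rw [mul_comm (c : S) y', scaleRoots_mul]
      have h := scaleRoots_eval₂_mul (p := f'.scaleRoots y') (RingHom.id S) x' (c : S)
      rw [natDegree_scaleRoots, RingHom.id_apply] at h
      exact h
    rw [key]
    rcases Nat.eq_zero_or_pos f'.natDegree with hd | hn
    · exfalso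
      rw [hf'm.natDegree_eq_zero.mp hd] at hc
      have h : (c : S) = 0 := by simpa using hc
      exact hu c (by rw [h, map_zero, map_zero])
    · obtain ⟨n, hn⟩ := Nat.exists_eq_add_of_le' hn
      rw [hn, pow_succ, mul_assoc, hc, mul_zero]
  obtain ⟨e, z, he, hey, hex⟩ := hS.2 _ _ f' hf'm h1
  have hgy : g ((c : S) * y') ≠ 0 := fun h ↦ by
    rw [map_mul, (IsLocalization.map_units R c).mul_right_eq_zero] at h
    exact hy2 (by rw [h, map_zero])
  have h2 := congrArg (fun w ↦ q (g w)) hex
  simp only [map_mul, hsupp he hey hgy, one_mul, x', y'] at h2 hy2 ⊢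
  refine ⟨g z * IsLocalization.mk' R 1 D, ?_⟩
  have h3 : q (IsLocalization.mk' R 1 D) * q (g D) = 1 := by
    rw [← map_mul, IsLocalization.mk'_spec, map_one, map_one]
  have := hu c; have := hu D
  rw [map_mul, eq_div_iff hy2]
  refine mul_left_cancel₀ (hu c) ?_
  linear_combination (q (IsLocalization.mk' R 1 D)) * h2.symm + (q (g c) * q (g x) * q (g v)) * h3

end GeomRedFibLib
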