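import Groth.Agent.GeomRedFibLib.IntClosedMap
import Groth.Agent.GeomRedFibLib.SplitClosed
import Mathlib.RingTheory.Localization.Integral

/-!
# Normality from integral closedness in a split closed ring
-/

set_option autoImplicit false
set_option synthInstance.maxHeartbeats 400000
set_option maxHeartbeats 800000

universe u

open IsLocalRing Polynomial

namespace GeomRedFibLib

/-- A ring integrally closed in a split closed ring has normal domains as local rings. -/
theorem normal_atPrime_of_intClosed {C E : Type u} [CommRing C] [CommRing E] (f : C →+* E)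
    (hfi : Function.Injective f) (hcl : IntClosedMap f) (hE : SplitClosed E) (q : Ideal C) [q.IsPrime] :
    IsDomain (Localization.AtPrime q) ∧ IsIntegrallyClosed (Localization.AtPrime q) := by
  let W := q.primeCompl.map f.toMonoidHom
  suffices hgoal : ∀ (R : Type u) [CommRing R] [Algebra E R] [IsLocalization W R],
      IsDomain (Localization.AtPrime q) ∧ IsIntegrallyClosed (Localization.AtPrime q) from hgoal (Localization W)
  intro R _ _ _
  let g := (algebraMap E R).comp f
  have hgu : ∀ c : q.primeCompl, IsUnit (g c) := fun c ↦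
    IsLocalization.map_units R (⟨f c, c, c.2, rfl⟩ : W)
  let h : Localization.AtPrime q →+* R := IsLocalization.lift (M := q.primeCompl) (S := Localization.AtPrime q) (P := R) (g := g) hgu
  have hhi : Function.Injective h := by
    rw [injective_iff_map_eq_zero]
    intro x hx
    obtain ⟨⟨c, s⟩, rfl⟩ := IsLocalization.mk'_surjective q.primeCompl x
    have h1 : g c = 0 := by
      have := congrArg h (IsLocalization.mk'_spec (Localization.AtPrime q) c s)
      rw [map_mul, hx, zero_mul, IsLocalization.lift_eq] at this
      exact this.symm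
    obtain ⟨⟨_, d, hd, rfl⟩, hdc⟩ := (IsLocalization.map_eq_zero_iff W R (f c)).mp h1
    rw [IsLocalization.mk'_eq_zero_iff]
    refine ⟨⟨d, hd⟩, hfi ?_⟩
    rw [map_mul, map_zero]
    exact hdc
  have hclosed : IntClosedMap h := by
    intro z hz
    obtain ⟨p, hp, hpz⟩ := hz
    letI := h.toAlgebra
    letI : Algebra (C) R := g.toAlgebra
    haveI : IsScalarTower (C) (Localization.AtPrime q) R :=
      .of_algebraMap_eq fun c ↦ (IsLocalization.lift_eq hgu c).symm
    obtain ⟨m, hm⟩ := IsIntegral.exists_multiple_integral_of_isLocalization q.primeCompl z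
      (⟨p, hp, hpz⟩ : IsIntegral (Localization.AtPrime q) z)
    obtain ⟨r, hr⟩ := hm
    obtain ⟨⟨e, w⟩, hew⟩ := IsLocalization.mk'_surjective W ((m : C) • z)
    obtain ⟨d, hd, hdw⟩ := w.2
    have h0 : (algebraMap E R) (((r.map f).scaleRoots (f d)).eval e) = 0 := by
      rw [← eval₂_at_apply]
      have he : algebraMap E R e = algebraMap _ R (f d) * ((m : C) • z) := by
        rw [← hew, show f d = (w : E) from hdw, IsLocalization.mk'_spec']
      rw [he, scaleRoots_eval₂_mul, eval₂_map]
      exact mul_eq_zero_of_right _ hr.2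
    obtain ⟨⟨_, c, hc, rfl⟩, hce⟩ := (IsLocalization.map_eq_zero_iff W R _).mp h0
    by_cases hdeg : r.natDegree = 0
    · have : r = 1 := hr.1.natDegree_eq_zero.mp hdeg
      rw [this, eval₂_one] at hr
      exact ⟨0, by rw [map_zero]; exact (eq_zero_of_zero_eq_one hr.2.symm z).symm⟩
    · obtain ⟨n, hn⟩ := Nat.exists_eq_add_of_le' (Nat.one_le_iff_ne_zero.mpr hdeg)
      have hint : f.IsIntegralElem (f c * e) := by
        refine ⟨r.scaleRoots (d * c), (monic_scaleRoots_iff _).mpr hr.1, ?_⟩
        rw [scaleRoots_mul, scaleRoots_eval₂_mul, natDegree_scaleRoots, hn, pow_succ, mul_assoc]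
        have h2 : eval₂ f e (r.scaleRoots d) = ((r.map f).scaleRoots (f d)).eval e := by
          rcases subsingleton_or_nontrivial E with _ | _
          · exact Subsingleton.elim _ _
          · rw [← eval_map, map_scaleRoots _ _ _ (by rw [hr.1.leadingCoeff, map_one]; exact one_ne_zero)]
        rw [h2]
        exact mul_eq_zero_of_right _ hce
      obtain ⟨v, hv⟩ := hcl _ hint
      refine ⟨IsLocalization.mk' (Localization.AtPrime q) v
        (⟨c, hc⟩ * m * ⟨d, hd⟩ : q.primeCompl), ?_⟩
      refine (IsLocalization.lift_mk'_spec _ _ _ _).mpr ?_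
      have he : algebraMap E R e = algebraMap _ R (f d) * (g m * z) := by
        rw [show g m * z = (m : C) • z from rfl, ← hew, show f d = (w : E) from hdw,
          IsLocalization.mk'_spec']
      show algebraMap _ R (f v) = algebraMap _ R (f (c * (m : C) * d)) * z
      have hv' : f v = f c * e := hv
      rw [hv', map_mul, he, map_mul, map_mul, map_mul, map_mul]
      simp only [g, RingHom.comp_apply]
      ring
  have hconn : ∀ e : R, IsIdempotentElem e → e = 0 ∨ e = 1 := fun e he ↦ by
    obtain ⟨x, hx⟩ := hclosed e ⟨X ^ 2 - X, monic_X_pow_sub (by simp [degree_X]),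
      by rw [eval₂_sub, eval₂_pow, eval₂_X, pow_two, he.eq, sub_self]⟩
    have hxi : IsIdempotentElem x := hhi (by rw [map_mul, hx, he.eq])
    rcases IsLocalRing.isUnit_or_isUnit_one_sub_self x with hu | hu
    · refine .inr ?_
      have h1 : x = 1 := IsUnit.mul_left_cancel hu (by rw [mul_one]; exact hxi.eq)
      rw [← hx, h1, map_one]
    · refine .inl ?_
      have : (1 - x) * x = 0 := by rw [sub_mul, one_mul, hxi.eq, sub_self]
      rw [← hx, hu.mul_right_eq_zero.mp this, map_zero]
  haveI : Nontrivial R := hhi.nontrivial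
  obtain ⟨hRd, hRi⟩ := hE.isDomain_and_isIntegrallyClosed W R hconn
  haveI := hRd; haveI := hRi
  haveI hd : IsDomain (Localization.AtPrime q) := hhi.isDomain h
  refine ⟨hd, (isIntegrallyClosed_iff (FractionRing (Localization.AtPrime q))).mpr fun {x} hx ↦ ?_⟩
  let L := FractionRing R
  let j : FractionRing (Localization.AtPrime q) →+* L :=
    IsFractionRing.lift (g := (algebraMap R L).comp h) ((IsFractionRing.injective R L).comp hhi)
  have hj : ∀ c, j (algebraMap _ _ c) = algebraMap R L (h c) := fun c ↦ IsFractionRing.lift_algebraMap _ c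
  obtain ⟨r, hr⟩ := IsIntegrallyClosed.isIntegral_iff.mp
    (show IsIntegral R (j x) from isIntegralElem_of_comm (g := j) (h := h) (f' := algebraMap R L) hj hx)
  obtain ⟨p, hp, hpx⟩ := hx
  obtain ⟨c, hc⟩ := hclosed r ⟨p, hp, by
    apply IsFractionRing.injective R L
    rw [hom_eval₂, hr, map_zero, ← show j.comp (algebraMap _ _) = (algebraMap R L).comp h from RingHom.ext hj,
      ← hom_eval₂, hpx, map_zero]⟩
  exact ⟨c, j.injective (by rw [hj, hc, hr])⟩

end GeomRedFibLib
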