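import Groth.Agent.GeomRedFibLib.GeomApps
import Groth.Agent.GeomRedFibLib.Normal
import Groth.Agent.CohenLib.FSField
import Mathlib.RingTheory.Etale.Field
import Mathlib.RingTheory.Flat.Localization
import Mathlib.RingTheory.SurjectiveOnStalks

/-!
# Separable algebraic extensions of the base field
-/

set_option autoImplicit false
set_option synthInstance.maxHeartbeats 400000

universe u

open TensorProduct IsLocalRing

namespace GeomRedFibLib

noncomputable section

/-- A flat map surjective on stalks is an isomorphism on local rings. -/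
theorem exists_locEquiv {R S : Type u} [CommRing R] [CommRing S] (f : R →+* S) (hf : f.Flat)
    (hs : f.SurjectiveOnStalks) (q : Ideal S) [q.IsPrime] :
    Nonempty (Localization.AtPrime (q.comap f) ≃+* Localization.AtPrime q) := by
  let g := Localization.localRingHom (q.comap f) q f rfl
  have hg : g.Flat := RingHom.Flat.localRingHom hf ..
  have hgs : Function.Surjective g := hs.localRingHom_surjective (q.comap f) q rfl
  letI := g.toAlgebra
  haveI : Module.Flat (Localization.AtPrime (q.comap f)) (Localization.AtPrime q) := hg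
  haveI : IsLocalHom (algebraMap (Localization.AtPrime (q.comap f)) (Localization.AtPrime q)) :=
    inferInstanceAs (IsLocalHom g)
  haveI : Module.FaithfullyFlat (Localization.AtPrime (q.comap f)) (Localization.AtPrime q) :=
    Module.FaithfullyFlat.of_flat_of_isLocalHom
  exact ⟨RingEquiv.ofBijective g ⟨FaithfulSMul.algebraMap_injective _ _, hgs⟩⟩

/-- Every module over a reduced zero-dimensional ring is flat. -/
theorem flat_of_reduced_dim_zero (R : Type u) [CommRing R] [IsReduced R] [Ring.KrullDimLE 0 R] (M : Type u)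
    [AddCommGroup M] [Module R M] : Module.Flat R M := by
  refine Module.flat_of_localized_maximal M fun m hm ↦ ?_
  have hprime : ∀ Q : Ideal (Localization.AtPrime m), Q.IsPrime → Q = maximalIdeal (Localization.AtPrime m) := by
    intro Q hQ
    have h1 : Q.comap (algebraMap R (Localization.AtPrime m)) = m := by
      refine (Ideal.IsPrime.isMaximal' (Ideal.IsPrime.comap _ (hK := hQ))).eq_of_le (Ideal.IsMaximal.ne_top hm) fun x hx ↦ ?_
      by_contra hxm
      exact hQ.ne_top (Ideal.eq_top_of_isUnit_mem _ hx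
        (IsLocalization.map_units (Localization.AtPrime m) (⟨x, hxm⟩ : m.primeCompl)))
    rw [← IsLocalization.map_under m.primeCompl (Localization.AtPrime m) Q,
      ← IsLocalization.AtPrime.map_eq_maximalIdeal m (Localization.AtPrime m)]
    exact congrArg _ h1
  have hfield : IsField (Localization.AtPrime m) := by
    rw [IsLocalRing.isField_iff_maximalIdeal_eq, eq_bot_iff]
    intro x hx
    have h1 : x ∈ nilradical (Localization.AtPrime m) := by
      rw [nilradical_eq_sInf, Ideal.mem_sInf]
      intro Q hQ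
      rwa [hprime Q hQ]
    simpa using h1
  letI := hfield.toField
  exact Module.Flat.trans R (Localization.AtPrime m) _

/-- A base change of a flat map is flat. -/
theorem flat_map_tensor (k E F A : Type u) [CommRing k] [CommRing E] [CommRing F] [CommRing A] [Algebra k E]
    [Algebra k F] [Algebra k A] (g : E →ₐ[k] F) (hg : g.toRingHom.Flat) :
    (Algebra.TensorProduct.map g (AlgHom.id k A)).toRingHom.Flat := by
  letI := g.toRingHom.toAlgebra
  haveI : IsScalarTower k E F := .of_algebraMap_eq fun c ↦ (g.commutes c).symm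
  haveI : Module.Flat E F := hg
  let e : (E ⊗[k] A) ⊗[E] F ≃+* F ⊗[k] A := (Algebra.TensorProduct.comm E (E ⊗[k] A) F).toRingEquiv.trans
    (Algebra.TensorProduct.cancelBaseChange k E E F A).toRingEquiv
  have h : (Algebra.TensorProduct.map g (AlgHom.id k A)).toRingHom =
      e.toRingHom.comp (algebraMap (E ⊗[k] A) ((E ⊗[k] A) ⊗[E] F)) := by
    refine RingHom.ext fun z ↦ ?_
    induction z using TensorProduct.induction_on with
    | zero => simp
    | add x y hx hy => rw [map_add, map_add, hx, hy]
    | tmul c a =>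
      simp [e, Algebra.smul_def]
      rfl
  rw [h]
  exact RingHom.Flat.comp (RingHom.flat_algebraMap_iff.mpr inferInstance) (RingHom.Flat.of_bijective e.bijective)

/-- `k' ⊗ L` is reduced of dimension zero for a separable algebraic `k'` and an algebraic `L`. -/
theorem flat_tensor_sep (k k' L : Type u) [Field k] [Field k'] [Field L] [Algebra k k'] [Algebra k L]
    [Algebra.IsSeparable k k'] [Algebra.IsAlgebraic k L] (M : Type u) [AddCommGroup M] [Module (k' ⊗[k] L) M] :
    Module.Flat (k' ⊗[k] L) M := by
  haveI : Algebra.FormallyEtale k k' := Algebra.FormallyEtale.of_isSeparable k k'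
  haveI : Algebra.IsGeometricallyReduced k k' := CohenLib.isGeometricallyReduced_of_formallySmooth
  haveI : _root_.IsReduced (k' ⊗[k] L) :=
    isReduced_of_injective (Algebra.TensorProduct.comm k k' L) (AlgEquiv.injective _)
  haveI : Ring.KrullDimLE 0 (k' ⊗[k] L) := Ring.KrullDimLE.mk₀ fun Q hQ ↦
    Ideal.Quotient.maximal_of_isField _ (isField_of_isIntegral_of_isField' (R := k') (Semifield.toIsField _))
  exact flat_of_reduced_dim_zero _ M

variable {P : ∀ (R : Type u) [CommRing R], Prop}
  (hP : ∀ (R S : Type u) [CommRing R] [CommRing S], (R ≃+* S) → P R → P S)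

include hP in
/-- Passing to a separable algebraic base field, downwards. -/
theorem ringP_of_sep_up (k k' A : Type u) [Field k] [Field k'] [Algebra k k'] [Algebra.IsSeparable k k'] [CommRing A]
    [Algebra k' A] [Algebra k A] [IsScalarTower k k' A]
    (h : ∀ (L : Type u) [Field L] [Algebra k' L], Module.Finite k' L → RingP P (L ⊗[k'] A))
    (L : Type u) [Field L] [Algebra k L] [Module.Finite k L] : RingP P (L ⊗[k] A) := by
  intro Q _
  let e : (k' ⊗[k] L) ⊗[k'] A ≃+* L ⊗[k] A := ((Algebra.TensorProduct.comm k' (k' ⊗[k] L) A).toRingEquiv.trans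
    (Algebra.TensorProduct.cancelBaseChange k k' k' A L).toRingEquiv).trans
    (Algebra.TensorProduct.comm k A L).toRingEquiv
  let Q' := Q.comap e.toRingHom
  let m := Q'.comap (Algebra.TensorProduct.includeLeft : (k' ⊗[k] L) →ₐ[k'] (k' ⊗[k] L) ⊗[k'] A).toRingHom
  haveI : m.IsMaximal := Ideal.Quotient.maximal_of_isField _
    (isField_of_isIntegral_of_isField' (R := k') (Semifield.toIsField _))
  letI : Field ((k' ⊗[k] L) ⧸ m) := Ideal.Quotient.field m
  let g : (k' ⊗[k] L) →ₐ[k'] (k' ⊗[k] L) ⧸ m := Ideal.Quotient.mkₐ k' m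
  let f := Algebra.TensorProduct.map g (AlgHom.id k' A)
  have hfs : Function.Surjective f.toRingHom :=
    TensorProduct.map_surjective Ideal.Quotient.mk_surjective Function.surjective_id
  have hfl : f.toRingHom.Flat := flat_map_tensor k' _ _ A g (by
    letI := g.toRingHom.toAlgebra
    exact flat_tensor_sep k k' L _)
  have hker : RingHom.ker f.toRingHom ≤ Q' := by
    refine le_of_eq_of_le (Algebra.TensorProduct.rTensor_ker (C := A) g Ideal.Quotient.mk_surjective) ?_
    refine Ideal.map_le_iff_le_comap.mpr fun x hx ↦ ?_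
    have hx' : x ∈ m := Ideal.Quotient.eq_zero_iff_mem.mp hx
    exact hx'
  haveI : (Q'.map f.toRingHom).IsPrime := Ideal.map_isPrime_of_surjective hfs hker
  obtain ⟨σ⟩ := exists_locEquiv f.toRingHom hfl (RingHom.surjectiveOnStalks_of_surjective hfs) (Q'.map f.toRingHom)
  have hQ' : (Q'.map f.toRingHom).comap f.toRingHom = Q' := by
    rw [Ideal.comap_map_of_surjective _ hfs]
    exact sup_eq_left.mpr hker
  have h1 := hP _ _ σ.symm (h ((k' ⊗[k] L) ⧸ m) inferInstance (Q'.map f.toRingHom))
  have hM : ((Q'.map f.toRingHom).comap f.toRingHom).primeCompl.map e.toMonoidHom = Q.primeCompl := by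
    ext y
    constructor
    · rintro ⟨x, hx, rfl⟩ hc
      exact hx (hQ'.ge hc)
    · refine fun hy ↦ ⟨e.symm y, fun hc ↦ hy ?_, e.apply_symm_apply y⟩
      have h2 : e.toRingHom (e.symm y) ∈ Q := hQ'.le hc
      simpa using h2
  exact hP _ _ (IsLocalization.ringEquivOfRingEquiv (M := ((Q'.map f.toRingHom).comap f.toRingHom).primeCompl)
    (T := Q.primeCompl) _ (Localization.AtPrime Q) e hM) h1

include hP in
/-- Passing to a separable algebraic base field, upwards. -/
theorem ringP_of_sep_down (k k' A : Type u) [Field k] [Field k'] [Algebra k k'] [Algebra.IsSeparable k k'] [CommRing A]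
    [Algebra k' A] [Algebra k A] [IsScalarTower k k' A]
    (h : ∀ (L : Type u) [Field L] [Algebra k L], Module.Finite k L → RingP P (L ⊗[k] A))
    (L : Type u) [Field L] [Algebra k' L] [Module.Finite k' L] : RingP P (L ⊗[k'] A) := by
  classical
  letI : Algebra k L := ((algebraMap k' L).comp (algebraMap k k')).toAlgebra
  haveI : IsScalarTower k k' L := .of_algebraMap_eq fun _ ↦ rfl
  haveI : Algebra.IsAlgebraic k L := Algebra.IsAlgebraic.trans k k' L
  obtain ⟨s, hs⟩ := Module.Finite.fg_top (R := k') (M := L)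
  let L₁ := IntermediateField.adjoin k (s : Set L)
  haveI : FiniteDimensional k L₁ := IntermediateField.finiteDimensional_adjoin fun x _ ↦ Algebra.IsIntegral.isIntegral x
  let e : (k' ⊗[k] L) ⊗[k'] A ≃+* L ⊗[k] A := ((Algebra.TensorProduct.comm k' (k' ⊗[k] L) A).toRingEquiv.trans
    (Algebra.TensorProduct.cancelBaseChange k k' k' A L).toRingEquiv).trans
    (Algebra.TensorProduct.comm k A L).toRingEquiv
  let g : (k' ⊗[k] L) →ₐ[k'] L :=
    Algebra.TensorProduct.lift (Algebra.ofId k' L) (AlgHom.id k L) fun _ _ ↦ .all _ _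
  let f₂ : (k' ⊗[k] L) ⊗[k'] A →+* L ⊗[k'] A := (Algebra.TensorProduct.map g (AlgHom.id k' A)).toRingHom
  have hf₂ : f₂.Flat := flat_map_tensor k' _ _ A g (by
    letI := g.toRingHom.toAlgebra
    exact flat_tensor_sep k k' L L)
  let f₁ : L₁ ⊗[k] A →+* L ⊗[k] A :=
    ((Algebra.TensorProduct.map L₁.val (AlgHom.id k A) : L₁ ⊗[k] A →ₐ[k] L ⊗[k] A)).toRingHom
  have hL₁ : L₁.val.toRingHom.Flat := by
    letI := L₁.val.toRingHom.toAlgebra
    show Module.Flat L₁ L
    infer_instance
  have hf₁ := flat_map_tensor k L₁ L A L₁.val hL₁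
  let f : L₁ ⊗[k] A →+* L ⊗[k'] A := f₂.comp (e.symm.toRingHom.comp f₁)
  have hf : RingHom.Flat (R := L₁ ⊗[k] A) (S := L ⊗[k'] A) f :=
    RingHom.Flat.comp (RingHom.Flat.comp hf₁ (RingHom.Flat.of_bijective e.symm.bijective)) hf₂
  have hval : ∀ (x : L₁) (a : A), f (x ⊗ₜ a) = (x : L) ⊗ₜ a := fun x a ↦ by
    simp [f, f₁, f₂, e, g]
  have hsurj : Function.Surjective f := by
    intro z
    induction z using TensorProduct.induction_on with
    | zero => exact ⟨0, map_zero _⟩
    | add x y hx hy =>
      obtain ⟨u, rfl⟩ := hx; obtain ⟨v, rfl⟩ := hy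
      exact ⟨u + v, map_add _ _ _⟩
    | tmul l a =>
      have hl : l ∈ Submodule.span k' (s : Set L) := hs.symm ▸ Submodule.mem_top
      induction hl using Submodule.span_induction generalizing a with
      | mem z hz => exact ⟨⟨z, IntermediateField.subset_adjoin k _ hz⟩ ⊗ₜ a, hval _ _⟩
      | zero => exact ⟨0, by rw [map_zero, zero_tmul]⟩
      | add x y _ _ hx hy =>
        obtain ⟨u, hu⟩ := hx a
        obtain ⟨v, hv⟩ := hy a
        exact ⟨u + v, by rw [map_add, hu, hv, add_tmul]⟩
      | smul c x _ hx =>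
        obtain ⟨u, hu⟩ := hx (c • a)
        exact ⟨u, by rw [hu, smul_tmul]⟩
  intro q _
  obtain ⟨σ⟩ := exists_locEquiv (R := L₁ ⊗[k] A) (S := L ⊗[k'] A) f hf (RingHom.surjectiveOnStalks_of_surjective hsurj) q
  exact hP _ _ σ (h L₁ inferInstance (q.comap f))

end

end GeomRedFibLib
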