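import Groth.Agent.GeomRedFibLib.CplFibres
import Groth.Agent.GeomRedFibLib.SepAlg
import Mathlib.RingTheory.Localization.BaseChange
import Mathlib.RingTheory.SurjectiveOnStalks

/-!
# Formal fibres along an ideal
-/

set_option autoImplicit false
set_option synthInstance.maxHeartbeats 400000
set_option maxHeartbeats 800000

universe u

open TensorProduct IsLocalRing

namespace GeomRedFibLib

/-- The local rings of an adic completion map faithfully flatly to the completions of the local rings. -/
theorem exists_localizedCplTower (A : Type u) [CommRing A] [IsNoetherianRing A] (I : Ideal A)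
    (M : Ideal (AdicCompletion I A)) [M.IsMaximal] :
    ∃ (m : Ideal A) (_ : m.IsPrime) (_ : Algebra (Localization.AtPrime M) (EGA4.Cpl (Localization.AtPrime m))),
      IsScalarTower A (Localization.AtPrime M) (EGA4.Cpl (Localization.AtPrime m)) ∧
        Module.FaithfullyFlat (Localization.AtPrime M) (EGA4.Cpl (Localization.AtPrime m)) := by
  let Ah := AdicCompletion I A
  have hI : I.FG := IsNoetherian.noetherian _
  haveI : IsNoetherianRing Ah := AdicRingLib.isNoetherianRing_adicCompletion I
  haveI := AdicRingLib.isAdicComplete_map (C := A) (K := I) hI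
  have hIM : I.map (algebraMap A Ah) ≤ M := by
    refine le_trans (IsAdicComplete.le_jacobson_bot _) ?_
    exact sInf_le ⟨bot_le, ‹M.IsMaximal›⟩
  let m := M.comap (algebraMap A Ah)
  haveI : m.IsPrime := Ideal.IsPrime.comap _
  let R := Localization.AtPrime m
  let S := Localization.AtPrime M
  let C := EGA4.Cpl R
  haveI := AdicRingLib.isAdicComplete_map (C := R) (K := maximalIdeal R) (IsNoetherian.noetherian _)
  haveI : IsNoetherianRing C := isNoetherianRing_cpl R
  let jA : A →+* C := (algebraMap R C).comp (algebraMap A R)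
  have hmax : (maximalIdeal R).map (algebraMap R C) = maximalIdeal C := (AdicCompletion.maximalIdeal_eq_map).symm
  have hjm : m.map jA ≤ maximalIdeal C := by
    rw [← Ideal.map_map, IsLocalization.AtPrime.map_eq_maximalIdeal m R, hmax]
  have hIm : I ≤ m := Ideal.map_le_iff_le_comap.mp hIM
  have hjI : I.map jA ≤ (maximalIdeal R).map (algebraMap R C) := by
    rw [hmax]; exact (Ideal.map_mono hIm).trans hjm
  let θ₀ : Ah →+* C := CompleteLib.completionLift I _ jA hjI
  have hθ₀ : ∀ a, θ₀ (algebraMap A Ah a) = jA a := CompleteLib.completionLift_algebraMap _ _ _ hjI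
  have hθI : I.map (algebraMap A Ah) ≤ (maximalIdeal C).comap θ₀ := Ideal.map_le_iff_le_comap.mpr fun a ha ↦ by
    show θ₀ (algebraMap A Ah a) ∈ maximalIdeal C
    rw [hθ₀]
    exact hjm (Ideal.mem_map_of_mem _ (hIm ha))
  have hM : (maximalIdeal C).comap θ₀ = M := by
    have key : ∀ (N : Ideal Ah), I.map (algebraMap A Ah) ≤ N → ∀ x : Ah, ∃ a, x - algebraMap A Ah a ∈ I.map (algebraMap A Ah) ∧
        (x ∈ N ↔ algebraMap A Ah a ∈ N) := fun N hN x ↦ by
      obtain ⟨a, ha⟩ := AdicRingLib.exists_sub_mem_map_pow (K := I) hI 1 x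
      rw [pow_one] at ha
      exact ⟨a, ha, ⟨fun h ↦ by simpa using N.sub_mem h (hN ha), fun h ↦ sub_add_cancel x (algebraMap A Ah a) ▸ N.add_mem (hN ha) h⟩⟩
    have hcomap : ∀ a : A, jA a ∈ maximalIdeal C ↔ a ∈ m := fun a ↦ by
      refine ⟨fun h ↦ ?_, fun h ↦ hjm (Ideal.mem_map_of_mem _ h)⟩
      by_contra hc
      exact h (((IsLocalization.map_units R (⟨a, hc⟩ : m.primeCompl))).map (algebraMap R C))
    ext x
    obtain ⟨a, ha, h1⟩ := key M hIM x
    have h2 : x ∈ (maximalIdeal C).comap θ₀ ↔ algebraMap A Ah a ∈ (maximalIdeal C).comap θ₀ :=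
      ⟨fun h ↦ by simpa using Ideal.sub_mem _ h (hθI ha), fun h ↦ sub_add_cancel x (algebraMap A Ah a) ▸ Ideal.add_mem _ (hθI ha) h⟩
    rw [h1, h2, Ideal.mem_comap, hθ₀, hcomap]
    rfl
  have hu : ∀ y : M.primeCompl, IsUnit (θ₀ y) := fun y ↦ by
    by_contra hc
    exact y.2 (hM.le hc)
  let θ : S →+* C := IsLocalization.lift (M := M.primeCompl) hu
  have hθ : ∀ a, θ (algebraMap Ah S a) = θ₀ a := IsLocalization.lift_eq hu
  letI : Algebra R S := (Localization.localRingHom m M (algebraMap A Ah) rfl).toAlgebra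
  haveI : IsLocalHom (algebraMap R S) := inferInstanceAs (IsLocalHom (Localization.localRingHom m M (algebraMap A Ah) rfl))
  have hRS : ∀ a, algebraMap R S (algebraMap A R a) = algebraMap Ah S (algebraMap A Ah a) :=
    fun a ↦ Localization.localRingHom_to_map m M _ rfl a
  obtain ⟨ψ, hψ⟩ := exists_cplMap R S
  let D := EGA4.Cpl S
  haveI := AdicRingLib.isAdicComplete_map (C := S) (K := maximalIdeal S) (IsNoetherian.noetherian _)
  have hD : (maximalIdeal S).map (algebraMap S D) = maximalIdeal D := (AdicCompletion.maximalIdeal_eq_map).symm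
  have hψA : ∀ a, ψ (jA a) = algebraMap S D (algebraMap Ah S (algebraMap A Ah a)) := fun a ↦ by
    show ψ (algebraMap R C (algebraMap A R a)) = _
    rw [← RingHom.comp_apply ψ, hψ, RingHom.comp_apply, hRS]
  -- `ψ ∘ θ` is the completion map
  have hψθ₀ : ψ.comp θ₀ = (algebraMap S D).comp (algebraMap Ah S) := by
    refine CompleteLib.completion_hom_ext I ((maximalIdeal S).map (algebraMap S D)) hI _ _ ?_ fun a ↦ ?_
    · rw [Ideal.map_le_iff_le_comap]
      intro a ha
      rw [Ideal.mem_comap, RingHom.comp_apply, RingHom.comp_apply]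
      rw [hθ₀, hψA]
      refine Ideal.mem_map_of_mem _ ?_
      rw [← IsLocalization.AtPrime.map_eq_maximalIdeal M S]
      exact Ideal.mem_map_of_mem _ (hIM (Ideal.mem_map_of_mem _ ha))
    · show ψ (θ₀ _) = algebraMap S D (algebraMap Ah S _)
      rw [hθ₀, hψA]
  have hψθ : ψ.comp θ = algebraMap S D := by
    refine IsLocalization.ringHom_ext M.primeCompl (RingHom.ext fun a ↦ ?_)
    show ψ (θ (algebraMap Ah S a)) = _
    rw [hθ]
    exact RingHom.congr_fun hψθ₀ a
  haveI : IsLocalHom θ := ⟨fun x hx ↦ by
    obtain ⟨⟨y, s⟩, rfl⟩ := IsLocalization.mk'_surjective M.primeCompl x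
    refine (IsLocalization.AtPrime.isUnit_mk'_iff S M y s).mpr fun hy ↦ ?_
    have h1 : θ₀ y ∈ maximalIdeal C := hM.ge hy
    have h2 : θ₀ y = θ (IsLocalization.mk' S y s) * θ₀ s := by
      rw [← hθ s, ← map_mul, IsLocalization.mk'_spec, hθ]
    exact h1 (h2 ▸ hx.mul (hu s))⟩
  -- the inverse
  have hθmax : (maximalIdeal S).map θ ≤ (maximalIdeal R).map (algebraMap R C) := by
    rw [hmax]
    exact ((IsLocalRing.local_hom_TFAE θ).out 0 2).mp ‹_›
  let τ : D →+* C := CompleteLib.completionLift (maximalIdeal S) _ θ hθmax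
  have hτ : ∀ s, τ (algebraMap S D s) = θ s := CompleteLib.completionLift_algebraMap _ _ _ hθmax
  have hθR : θ.comp (algebraMap R S) = algebraMap R C := by
    refine IsLocalization.ringHom_ext m.primeCompl (RingHom.ext fun a ↦ ?_)
    show θ (algebraMap R S (algebraMap A R a)) = _
    rw [hRS, hθ, hθ₀]
  have hτψ : τ.comp ψ = RingHom.id C := by
    refine CompleteLib.completion_hom_ext (maximalIdeal R) ((maximalIdeal R).map (algebraMap R C))
      (IsNoetherian.noetherian _) _ _ ?_ fun r ↦ ?_
    · rw [Ideal.map_le_iff_le_comap]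
      intro r hr
      rw [Ideal.mem_comap, RingHom.comp_apply, RingHom.comp_apply]
      rw [← RingHom.comp_apply ψ, hψ, RingHom.comp_apply, hτ, ← RingHom.comp_apply θ, hθR]
      exact Ideal.mem_map_of_mem _ hr
    · show τ (ψ (algebraMap R C r)) = _
      rw [← RingHom.comp_apply ψ, hψ, RingHom.comp_apply, hτ, ← RingHom.comp_apply θ, hθR]
      rfl
  have hψτ : ψ.comp τ = RingHom.id D := by
    refine CompleteLib.completion_hom_ext (maximalIdeal S) ((maximalIdeal S).map (algebraMap S D))
      (IsNoetherian.noetherian _) _ _ ?_ fun s ↦ ?_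
    · rw [Ideal.map_le_iff_le_comap]
      intro s hs
      rw [Ideal.mem_comap, RingHom.comp_apply, RingHom.comp_apply]
      rw [hτ, ← RingHom.comp_apply ψ, hψθ]
      exact Ideal.mem_map_of_mem _ hs
    · show ψ (τ (algebraMap S D s)) = _
      rw [hτ, ← RingHom.comp_apply ψ, hψθ]
      rfl
  have hθflat : θ.Flat := by
    have h1 : θ = τ.comp (algebraMap S D) := RingHom.ext fun s ↦ (hτ s).symm
    rw [h1]
    haveI := faithfullyFlat_hat S
    refine RingHom.Flat.comp (RingHom.flat_algebraMap_iff.mpr (inferInstance : Module.Flat S D)) (RingHom.Flat.of_bijective ?_)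
    exact Function.bijective_iff_has_inverse.mpr ⟨ψ, fun x ↦ RingHom.congr_fun hψτ x, fun x ↦ RingHom.congr_fun hτψ x⟩
  letI : Algebra S C := θ.toAlgebra
  haveI : Module.Flat S C := hθflat
  haveI : IsLocalHom (algebraMap S C) := ‹IsLocalHom θ›
  refine ⟨m, inferInstance, θ.toAlgebra, .of_algebraMap_eq fun a ↦ ?_, Module.FaithfullyFlat.of_flat_of_isLocalHom⟩
  show _ = θ (algebraMap A S a)
  rw [IsScalarTower.algebraMap_apply A Ah S, hθ, hθ₀, IsScalarTower.algebraMap_apply A R C]
  rfl

variable {P : ∀ (R : Type u) [CommRing R], Prop}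
  (hP : ∀ (R S : Type u) [CommRing R] [CommRing S], (R ≃+* S) → P R → P S)

include hP in
/-- A property of local rings after base change can be checked at the maximal ideals. -/
theorem ringP_bc_of_forall_maximal (A B k' : Type u) [CommRing A] [CommRing B] [Algebra A B] [CommRing k']
    [Algebra A k'] (h : ∀ (M : Ideal B) [M.IsMaximal], RingP P (k' ⊗[A] Localization.AtPrime M)) :
    RingP P (k' ⊗[A] B) := by
  intro Q _
  obtain ⟨M, hMmax, hQM⟩ := Ideal.exists_le_maximal
    (Q.comap (Algebra.TensorProduct.includeRight : B →ₐ[A] k' ⊗[A] B).toRingHom) (Ideal.IsPrime.ne_top inferInstance)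
  haveI := hMmax
  let S := Localization.AtPrime M
  let a := IsScalarTower.toAlgHom A B S
  let f : k' ⊗[A] B →ₐ[A] k' ⊗[A] S := Algebra.TensorProduct.map (AlgHom.id A k') a
  have hid : (AlgHom.id A k').toRingHom.SurjectiveOnStalks :=
    RingHom.surjectiveOnStalks_of_surjective Function.surjective_id
  have hs : f.toRingHom.SurjectiveOnStalks :=
    RingHom.SurjectiveOnStalks.tensorProductMap (f := AlgHom.id A k') (g := a) hid
      (RingHom.surjectiveOnStalks_of_isLocalization M.primeCompl S)
  have hfl : f.toRingHom.Flat := by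
    let f₁ := Algebra.TensorProduct.map a (AlgHom.id A k')
    let c₁ := (Algebra.TensorProduct.comm A k' B).toRingEquiv
    let c₂ := (Algebra.TensorProduct.comm A S k').toRingEquiv
    have h1 : f₁.toRingHom.Flat := flat_map_tensor A B S k' a
      (RingHom.flat_algebraMap_iff.mpr (IsLocalization.flat S M.primeCompl))
    have he : f.toRingHom = c₂.toRingHom.comp (f₁.toRingHom.comp c₁.toRingHom) := by
      refine RingHom.ext fun w ↦ ?_
      induction w using TensorProduct.induction_on with
      | zero => simp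
      | add x y hx hy => simp only [map_add, hx, hy]
      | tmul x y => simp [f, f₁, c₁, c₂]
    rw [he]
    exact ((RingHom.Flat.of_bijective c₁.bijective).comp h1).comp (RingHom.Flat.of_bijective c₂.bijective)
  let φ : k' ⊗[A] B →ₐ[A] Q.ResidueField := IsScalarTower.toAlgHom A (k' ⊗[A] B) Q.ResidueField
  let φB : B →ₐ[A] Q.ResidueField := φ.comp Algebra.TensorProduct.includeRight
  have hB' : ∀ y : M.primeCompl, IsUnit (φB y) := fun y ↦
    isUnit_iff_ne_zero.mpr fun h ↦ y.2 (hQM ((Ideal.algebraMap_residueField_eq_zero (I := Q)).mp h))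
  let ψ : k' ⊗[A] S →ₐ[A] Q.ResidueField :=
    Algebra.TensorProduct.lift (φ.comp Algebra.TensorProduct.includeLeft)
      (IsLocalization.liftAlgHom (S := S) (f := φB) hB') fun _ _ ↦ .all _ _
  have hψ : ∀ w, ψ (f w) = φ w := fun w ↦ by
    induction w using TensorProduct.induction_on with
    | zero => simp
    | add x y hx hy => simp only [map_add, hx, hy]
    | tmul x y =>
      simp only [ψ, f, Algebra.TensorProduct.map_tmul, Algebra.TensorProduct.lift_tmul, a, AlgHom.id_apply,
        IsScalarTower.toAlgHom_apply, IsLocalization.liftAlgHom_apply, IsLocalization.lift_eq]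
      show φ (x ⊗ₜ 1) * φ (1 ⊗ₜ y) = _
      rw [← map_mul, Algebra.TensorProduct.tmul_mul_tmul, mul_one, one_mul]
  let q := RingHom.ker ψ.toRingHom
  haveI : q.IsPrime := RingHom.ker_isPrime _
  have hQ : q.comap f.toRingHom = Q := by
    ext w
    show ψ (f w) = 0 ↔ w ∈ Q
    rw [hψ]
    exact Ideal.algebraMap_residueField_eq_zero
  obtain ⟨σ⟩ := exists_locEquiv f.toRingHom hfl hs q
  have key := hP _ _ σ.symm (h M q)
  have aux : ∀ (Q₁ : Ideal (k' ⊗[A] B)) [Q₁.IsPrime], Q₁ = Q → P (Localization.AtPrime Q₁) → P (Localization.AtPrime Q) := by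
    rintro Q₁ _ rfl h'
    exact h'
  exact aux _ hQ key

include hP in
/-- The fibres of a completion along an ideal from the fibres at the maximal ideals. -/
theorem ringP_fiber_adicCompletion (A : Type u) [CommRing A] (B : Type u) [CommRing B] [Algebra A B] (p : Ideal A)
    [p.IsPrime] (k' : Type u) [Field k'] [Algebra p.ResidueField k']
    (h : ∀ (M : Ideal B) [M.IsMaximal], RingP P (k' ⊗[p.ResidueField] (p.Fiber (Localization.AtPrime M)))) :
    RingP P (k' ⊗[p.ResidueField] (p.Fiber B)) := by
  letI : Algebra A k' := ((algebraMap p.ResidueField k').comp (algebraMap A p.ResidueField)).toAlgebra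
  haveI : IsScalarTower A p.ResidueField k' := .of_algebraMap_eq fun _ ↦ rfl
  have hc : ∀ (R S : Type u) [CommRing R] [CommRing S], (R ≃+* S) → RingP P R → RingP P S := by
    intro R S _ _ e hR Q _
    refine hP _ _ (IsLocalization.ringEquivOfRingEquiv (M := (Q.comap e.toRingHom).primeCompl) (T := Q.primeCompl)
      (Localization.AtPrime (Q.comap e.toRingHom)) (Localization.AtPrime Q) e ?_) (hR (Q.comap e.toRingHom))
    ext y
    constructor
    · rintro ⟨x, hx, rfl⟩ hy
      exact hx hy
    · exact fun hy ↦ ⟨e.symm y, fun hm ↦ hy (by simpa using hm), e.apply_symm_apply y⟩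
  refine hc _ _ (Algebra.TensorProduct.cancelBaseChange A p.ResidueField p.ResidueField k' B).toRingEquiv.symm
    (ringP_bc_of_forall_maximal hP A B k' fun M _ ↦ ?_)
  exact hc _ _ (Algebra.TensorProduct.cancelBaseChange A p.ResidueField p.ResidueField k' (Localization.AtPrime M)).toRingEquiv (h M)

include hP in
/-- Finite extensions of a fibre over a localisation give those over the ring. -/
theorem forall_finite_fiber_of_localization (A : Type u) [CommRing A] (m : Ideal A) [m.IsPrime] (C : Type u)
    [CommRing C] [Algebra (Localization.AtPrime m) C] [Algebra A C] [IsScalarTower A (Localization.AtPrime m) C]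
    (p : Ideal A) [p.IsPrime] (hp : p ≤ m)
    (h : ∀ (p' : Ideal (Localization.AtPrime m)) [p'.IsPrime] (L : Type u) [Field L] [Algebra p'.ResidueField L],
      Module.Finite p'.ResidueField L → P (L ⊗[p'.ResidueField] (p'.Fiber C)))
    (k' : Type u) [Field k'] [Algebra p.ResidueField k'] (hk : Module.Finite p.ResidueField k') :
    P (k' ⊗[p.ResidueField] (p.Fiber C)) := by
  haveI := hk
  let R := Localization.AtPrime m
  let e : R ⊗[A] C ≃ₐ[R] C := IsLocalization.algebraLid m.primeCompl R C
  have hd : Disjoint (m.primeCompl : Set A) (p : Set A) := Set.disjoint_left.mpr fun x hx hx' ↦ hx (hp hx')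
  let p' := p.map (algebraMap A R)
  haveI : p'.IsPrime := IsLocalization.isPrime_of_isPrime_disjoint m.primeCompl _ p ‹_› hd
  have hpp : p = p'.comap (algebraMap A R) :=
    (IsLocalization.under_map_of_isPrime_disjoint m.primeCompl R ‹_› hd).symm
  have hs : (algebraMap A R).SurjectiveOnStalks := RingHom.surjectiveOnStalks_of_isLocalization m.primeCompl R
  let σ := RingEquiv.ofBijective (resMap p p' hpp) (hs.residueFieldMap_bijective p p' hpp)
  letI := (resMap p p' hpp).toAlgebra
  letI : Algebra p'.ResidueField k' := ((algebraMap p.ResidueField k').comp σ.symm.toRingHom).toAlgebra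
  have hc : algebraMap p.ResidueField k' = (algebraMap p'.ResidueField k').comp (resMap p p' hpp) := by
    refine RingHom.ext fun x ↦ ?_
    show _ = algebraMap p.ResidueField k' (σ.symm (σ x))
    rw [σ.symm_apply_apply]
  haveI : IsScalarTower p.ResidueField p'.ResidueField k' := .of_algebraMap_eq' hc
  exact hP _ _ (fiberEquiv e p p' hpp k' hc)
    (h p' k' (Module.Finite.of_restrictScalars_finite p.ResidueField p'.ResidueField k'))

/-- A fibre over a prime outside the local ring is empty. -/
theorem subsingleton_fiber_of_not_le (A : Type u) [CommRing A] (m : Ideal A) [m.IsPrime] (C : Type u)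
    [CommRing C] [Algebra (Localization.AtPrime m) C] [Algebra A C] [IsScalarTower A (Localization.AtPrime m) C]
    (p : Ideal A) [p.IsPrime] (hp : ¬ p ≤ m) : Subsingleton (p.Fiber C) := by
  obtain ⟨x, hxp, hxm⟩ := SetLike.not_le_iff_exists.mp hp
  have h1 : IsUnit (algebraMap A (p.Fiber C) x) := by
    have h : IsUnit (algebraMap A C x) := by
      rw [IsScalarTower.algebraMap_apply A (Localization.AtPrime m) C]
      exact (IsLocalization.map_units (Localization.AtPrime m) (⟨x, hxm⟩ : m.primeCompl)).map _
    have h2 := h.map (Algebra.TensorProduct.includeRight : C →ₐ[A] p.Fiber C)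
    rwa [AlgHom.commutes] at h2
  have h0 : algebraMap A (p.Fiber C) x = 0 := by
    rw [IsScalarTower.algebraMap_apply A p.ResidueField (p.Fiber C), Ideal.algebraMap_residueField_eq_zero.mpr hxp,
      map_zero]
  rw [h0, isUnit_zero_iff] at h1
  exact subsingleton_of_zero_eq_one h1

end GeomRedFibLib
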