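import Groth.Agent.GeomRedFibLib.IntClosedMap
import Groth.Agent.GeomRedFibLib.ClosedNormal
import Groth.Agent.GeomRedFibLib.SplitClosed
import Groth.Agent.GeomRedFibLib.SepAlg
import Mathlib.RingTheory.SurjectiveOnStalks

/-!
# Tensor products of normal rings
-/

set_option autoImplicit false
set_option synthInstance.maxHeartbeats 400000
set_option maxHeartbeats 800000

universe u

open TensorProduct IsLocalRing Polynomial

namespace GeomRedFibLib

variable {k : Type u} [Field k]

theorem isNormalRing_tensor_fields (K F : Type u) [Field K] [Field F] [Algebra k K] [Algebra k F]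
    [Algebra.IsGeometricallyReduced k F] [Algebra.EssFiniteType k F] :
    IsNoetherianRing (K ⊗[k] F) ∧ EGA4.IsNormalRing (K ⊗[k] F) := by
  haveI := isNoetherianRing_fieldBC k K F
  haveI : IsNoetherianRing (K ⊗[k] F) :=
    isNoetherianRing_of_ringEquiv _ (Algebra.TensorProduct.comm k F K).toRingEquiv
  haveI := isRegularRing_bc_separable k K F
  exact ⟨inferInstance, (isNormalRing_iff _).mpr ⟨rkLoc_of_regular 1 _, skLoc_of_regular 2 _⟩⟩

/-- Split closedness passes to the union of the finitely generated extensions. -/
theorem splitClosed_tensor (K F : Type u) [CommRing K] [Field F] [Algebra k K] [Algebra k F]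
    (hfg : ∀ F₀ : IntermediateField k F, Algebra.EssFiniteType k F₀ →
      IsNoetherianRing (K ⊗[k] F₀) ∧ EGA4.IsNormalRing (K ⊗[k] F₀)) : SplitClosed (K ⊗[k] F) := by
  classical
  -- every finite family descends to a finitely generated subfield
  have key : ∀ s : Finset (K ⊗[k] F), ∃ F₀ : IntermediateField k F, Algebra.EssFiniteType k F₀ ∧
      ∀ z ∈ s, z ∈ Set.range (Algebra.TensorProduct.map (AlgHom.id k K) F₀.val) := by
    intro s
    obtain ⟨N, hN, hsN⟩ := TensorProduct.exists_finite_submodule_right_of_setFinite (s : Set (K ⊗[k] F)) s.finite_toSet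
    obtain ⟨t, ht⟩ := Module.Finite.iff_fg.mp hN
    let F₀ := IntermediateField.adjoin k (t : Set F)
    refine ⟨F₀, IntermediateField.essFiniteType_iff.mpr (IntermediateField.fg_adjoin_finset t), fun z hz ↦ ?_⟩
    obtain ⟨w, rfl⟩ := hsN hz
    clear hz
    induction w using TensorProduct.induction_on with
    | zero => exact ⟨0, by rw [map_zero, map_zero]⟩
    | add x y hx hy =>
      obtain ⟨a, ha⟩ := hx
      obtain ⟨b, hb⟩ := hy
      exact ⟨a + b, by rw [map_add, map_add, ha, hb]⟩
    | tmul c n =>
      have hn : (n : F) ∈ F₀ := by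
        have h : Submodule.span k (t : Set F) ≤ F₀.toSubalgebra.toSubmodule :=
          Submodule.span_le.mpr (IntermediateField.subset_adjoin k _)
        exact h (ht ▸ n.2)
      exact ⟨c ⊗ₜ ⟨n, hn⟩, by simp⟩
  have base : ∀ F₀ : IntermediateField k F, Algebra.EssFiniteType k F₀ →
      SplitClosed (K ⊗[k] F₀) ∧ Function.Injective (Algebra.TensorProduct.map (AlgHom.id k K) F₀.val) := by
    intro F₀ h
    obtain ⟨hn, hN⟩ := hfg F₀ h
    haveI := hn
    exact ⟨splitClosed_of_isNormalRing _ hN,
      Module.Flat.lTensor_preserves_injective_linearMap F₀.val.toLinearMap Subtype.val_injective⟩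
  refine ⟨fun x y hxy ↦ ?_, fun x y p hp hpx ↦ ?_⟩
  · obtain ⟨F₀, hF₀, hs⟩ := key {x, y}
    obtain ⟨hS, hi⟩ := base F₀ hF₀
    obtain ⟨x₀, rfl⟩ := hs x (Finset.mem_insert_self _ _)
    obtain ⟨y₀, rfl⟩ := hs y (Finset.mem_insert_of_mem (Finset.mem_singleton_self _))
    obtain ⟨e, he, hey, hex⟩ := hS.1 x₀ y₀ (hi (by rw [map_mul, map_zero, hxy]))
    exact ⟨_, he.map (Algebra.TensorProduct.map (AlgHom.id k K) F₀.val), by rw [← map_mul, hey],
      by rw [← map_mul, hex, map_zero]⟩
  · obtain ⟨F₀, hF₀, hs⟩ := key ({x, y} ∪ p.coeffs)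
    obtain ⟨hS, hi⟩ := base F₀ hF₀
    obtain ⟨x₀, rfl⟩ := hs x (Finset.mem_union_left _ (Finset.mem_insert_self _ _))
    obtain ⟨y₀, rfl⟩ := hs y (Finset.mem_union_left _ (Finset.mem_insert_of_mem (Finset.mem_singleton_self _)))
    let j := Algebra.TensorProduct.map (AlgHom.id k K) F₀.val
    have hp₀ : p ∈ Polynomial.lifts j.toRingHom := (Polynomial.lifts_iff_coeff_lifts p).mpr fun n ↦ by
      by_cases hn : p.coeff n = 0
      · exact ⟨0, by rw [hn, map_zero]⟩
      · exact hs _ (Finset.mem_union_right _ (coeff_mem_coeffs hn))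
    obtain ⟨p₀, hp₀p, hdeg, hp₀m⟩ := Polynomial.lifts_and_natDegree_eq_and_monic hp₀ hp
    have hp0 : (p₀.scaleRoots y₀).eval x₀ = 0 := hi (by
      rw [map_zero, ← hpx, ← hp₀p]
      by_cases hnt : Nontrivial (K ⊗[k] F)
      · rw [show ((p₀.map j.toRingHom).scaleRoots (Algebra.TensorProduct.map (AlgHom.id k K) F₀.val y₀)) =
          (p₀.scaleRoots y₀).map j.toRingHom from (map_scaleRoots p₀ y₀ j.toRingHom (by
            rw [hp₀m.leadingCoeff, map_one]; exact one_ne_zero)).symm, eval_map]
        exact (eval₂_at_apply j.toRingHom x₀).symm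
      · haveI := not_nontrivial_iff_subsingleton.mp hnt
        exact Subsingleton.elim _ _)
    obtain ⟨e, z, he, hey, hex⟩ := hS.2 x₀ y₀ p₀ hp₀m hp0
    exact ⟨_, j z, he.map j, by rw [← map_mul, hey], by rw [← map_mul, hex, map_mul]⟩

/-- The tensor product of a field and a separable field extension is split closed. -/
theorem splitClosed_tensor_fields (K F : Type u) [Field K] [Field F] [Algebra k K] [Algebra k F]
    [Algebra.IsGeometricallyReduced k F] : SplitClosed (K ⊗[k] F) :=
  splitClosed_tensor K F fun F₀ h ↦ by
    haveI := h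
    haveI : Algebra.IsGeometricallyReduced k F₀ := .of_injective F₀.val Subtype.val_injective
    exact isNormalRing_tensor_fields (k := k) K F₀

section Main

variable (A B : Type u) [CommRing A] [CommRing B] [Algebra k A] [Algebra k B] [IsDomain A] [IsDomain B]
  [IsIntegrallyClosed A] [IsIntegrallyClosed B]

theorem geomRed_of_isGeomNormal (S : Type u) [CommRing S] [Algebra k S] (hS : EGA4.IsGeomNormal k S) :
    Algebra.IsGeometricallyReduced k S := by
  refine ((Groth.Agent.S9634.result (k := k) (S := S)).out 0 1).mp ?_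
  intro k' _ _ _ _
  have hN := hS k' inferInstance
  exact ⟨fun x hx ↦ by
    have : x ∈ (⊥ : Ideal (k' ⊗[k] S)) := Ideal.mem_of_localization_maximal fun m hm ↦ by
      haveI := (hN m).1
      simpa using (hx.map (algebraMap (k' ⊗[k] S) (Localization.AtPrime m))).eq_zero
    simpa using this⟩

/-- Normal domains: `B ⊗ A` is integrally closed in `K ⊗ F`. -/
theorem intClosedMap_total (hA : EGA4.IsGeomNormal k A) (F K : Type u) [Field F] [Field K] [Algebra k F]
    [Algebra k K] [Algebra A F] [IsScalarTower k A F] [IsFractionRing A F] [Algebra B K] [IsScalarTower k B K]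
    [IsFractionRing B K] :
    IntClosedMap (Algebra.TensorProduct.map (IsScalarTower.toAlgHom k B K) (IsScalarTower.toAlgHom k A F)).toRingHom := by
  haveI := geomRed_of_isGeomNormal A hA
  haveI : Algebra.IsGeometricallyReduced k F :=
    GeomRedFieldLib.isGeometricallyReduced_localization (k := k) (nonZeroDivisors A) F
  let ι := IsScalarTower.toAlgHom k A F
  let β := IsScalarTower.toAlgHom k B K
  have h1 : IntClosedMap (Algebra.TensorProduct.map β (AlgHom.id k A)).toRingHom := fun z hz ↦
    mem_range_of_isIntegralElem B K A β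
      (fun x hx ↦ by
        obtain ⟨y, hy⟩ := (isIntegrallyClosed_iff K).mp ‹IsIntegrallyClosed B› hx
        exact ⟨y, hy⟩) z hz
  have h := h1.comp (intClosedMap_bcMap hA K)
    (bcMap_injective (IsFractionRing.injective A F) K)
  have he : ((bcMap ι K).toRingHom.comp (Algebra.TensorProduct.map β (AlgHom.id k A)).toRingHom) =
      (Algebra.TensorProduct.map β ι).toRingHom := by
    refine RingHom.ext fun w ↦ ?_
    induction w using TensorProduct.induction_on with
    | zero => simp
    | add x y hx hy => simp only [map_add, hx, hy]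
    | tmul b a => simp [ι, β]
  rwa [he] at h

/-- A local ring of `B ⊗ A` is a normal domain once `B ⊗ A` is integrally closed in `K ⊗ F`. -/
theorem normal_localization_of_intClosed [Algebra.IsGeometricallyReduced k (FractionRing A)]
    (hcl : IntClosedMap (Algebra.TensorProduct.map (IsScalarTower.toAlgHom k B (FractionRing B))
      (IsScalarTower.toAlgHom k A (FractionRing A))).toRingHom)
    (q : Ideal (B ⊗[k] A)) [q.IsPrime] :
    IsDomain (Localization.AtPrime q) ∧ IsIntegrallyClosed (Localization.AtPrime q) := by
  let F := FractionRing A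
  let K := FractionRing B
  let ι := IsScalarTower.toAlgHom k A F
  let β := IsScalarTower.toAlgHom k B K
  let f := (Algebra.TensorProduct.map β ι).toRingHom
  have hfi : Function.Injective f := by
    have h1 : Function.Injective (Algebra.TensorProduct.map β (AlgHom.id k A)) :=
      Module.Flat.rTensor_preserves_injective_linearMap β.toLinearMap (IsFractionRing.injective B K)
    have h2 := bcMap_injective (ι := ι) (IsFractionRing.injective A F) K
    intro x y hxy
    refine h1 (h2 ?_)
    have he : ∀ w, bcMap ι K (Algebra.TensorProduct.map β (AlgHom.id k A) w) = f w := fun w ↦ by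
      induction w using TensorProduct.induction_on with
      | zero => simp
      | add x y hx hy => simp only [map_add, hx, hy]
      | tmul b a => simp [f, bcMap]
    rw [he, he, hxy]
  exact normal_atPrime_of_intClosed f hfi hcl (splitClosed_tensor_fields (k := k) K F) q

/-- A local ring of `B ⊗ A` is a normal domain when `A` is geometrically normal. -/
theorem normal_localization (hA : EGA4.IsGeomNormal k A) (q : Ideal (B ⊗[k] A)) [q.IsPrime] :
    IsDomain (Localization.AtPrime q) ∧ IsIntegrallyClosed (Localization.AtPrime q) := by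
  haveI := geomRed_of_isGeomNormal A hA
  haveI : Algebra.IsGeometricallyReduced k (FractionRing A) :=
    GeomRedFieldLib.isGeometricallyReduced_localization (k := k) (nonZeroDivisors A) (FractionRing A)
  exact normal_localization_of_intClosed A B (intClosedMap_total A B hA (FractionRing A) (FractionRing B)) q

/-- A tensor product of normal domains with separable fraction fields is normal. -/
theorem isNormalRing_tensor_domains [Algebra.IsGeometricallyReduced k (FractionRing A)]
    [Algebra.IsGeometricallyReduced k (FractionRing B)] : EGA4.IsNormalRing (B ⊗[k] A) := by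
  intro q _
  let F := FractionRing A
  let K := FractionRing B
  let ι := IsScalarTower.toAlgHom k A F
  let β := IsScalarTower.toAlgHom k B K
  haveI : Algebra.IsGeometricallyReduced k A := .of_injective ι (IsFractionRing.injective A F)
  refine normal_localization_of_intClosed A B ?_ q
  let fA := Algebra.TensorProduct.map β (AlgHom.id k A)
  let fK := Algebra.TensorProduct.map ι (AlgHom.id k K)
  let cA := (Algebra.TensorProduct.comm k A K).toRingEquiv
  let cF := (Algebra.TensorProduct.comm k F K).toRingEquiv
  have h1 : IntClosedMap fA.toRingHom := fun z hz ↦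
    mem_range_of_isIntegralElem B K A β
      (fun x hx ↦ by
        obtain ⟨y, hy⟩ := (isIntegrallyClosed_iff K).mp ‹IsIntegrallyClosed B› hx
        exact ⟨y, hy⟩) z hz
  have h2 : IntClosedMap (bcMap ι K).toRingHom := by
    intro z hz
    have hcomm : ∀ w, cF (fK w) = bcMap ι K (cA w) := fun w ↦ by
      induction w using TensorProduct.induction_on with
      | zero => simp
      | add x y hx hy => simp only [map_add, hx, hy]
      | tmul a c => simp [fK, cA, cF, bcMap]
    obtain ⟨y, hy⟩ := mem_range_of_isIntegralElem A F K ι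
      (fun x hx ↦ by
        obtain ⟨y, hy⟩ := (isIntegrallyClosed_iff F).mp ‹IsIntegrallyClosed A› hx
        exact ⟨y, hy⟩) (cF.symm z)
      (isIntegralElem_of_comm (f := (bcMap ι K).toRingHom) (f' := fK.toRingHom) (g := cF.symm.toRingHom)
        (h := cA.symm.toRingHom) (fun c ↦ cF.injective (by simpa using (hcomm (cA.symm c)).symm)) hz)
    exact ⟨cA y, (hcomm y).symm.trans ((congrArg cF hy).trans (cF.apply_symm_apply z))⟩
  have h := h1.comp h2 (bcMap_injective (IsFractionRing.injective A F) K)
  have he : ((bcMap ι K).toRingHom.comp fA.toRingHom) = (Algebra.TensorProduct.map β ι).toRingHom := by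
    refine RingHom.ext fun w ↦ ?_
    induction w using TensorProduct.induction_on with
    | zero => simp
    | add x y hx hy => simp only [map_add, hx, hy]
    | tmul b a => simp [fA, ι, β]
  rw [he] at h
  exact h

end Main

theorem normal_at_congr {R : Type u} [CommRing R] {P Q : Ideal R} [P.IsPrime] [Q.IsPrime] (h : P = Q)
    (hP : IsDomain (Localization.AtPrime P) ∧ IsIntegrallyClosed (Localization.AtPrime P)) :
    IsDomain (Localization.AtPrime Q) ∧ IsIntegrallyClosed (Localization.AtPrime Q) := by
  subst h
  exact hP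

/-- A tensor product of a geometrically normal algebra and a normal ring is normal. -/
theorem isNormalRing_tensor {A B : Type u} [CommRing A] [CommRing B] [Algebra k A] [Algebra k B]
    (hA : EGA4.IsGeomNormal k A) (hB : EGA4.IsNormalRing B)
    (hloc : ∀ p : Ideal A, ∀ (_ : p.IsPrime), EGA4.IsGeomNormal k (Localization.AtPrime p))
    (hnA : EGA4.IsNormalRing A) : EGA4.IsNormalRing (B ⊗[k] A) := by
  intro Q _
  let p := Q.comap (Algebra.TensorProduct.includeRight : A →ₐ[k] B ⊗[k] A).toRingHom
  let r := Q.comap (Algebra.TensorProduct.includeLeft : B →ₐ[k] B ⊗[k] A).toRingHom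
  let A' := Localization.AtPrime p
  let B' := Localization.AtPrime r
  let a := IsScalarTower.toAlgHom k A A'
  let b := IsScalarTower.toAlgHom k B B'
  let f : B ⊗[k] A →ₐ[k] B' ⊗[k] A' := Algebra.TensorProduct.map b a
  have hs : f.toRingHom.SurjectiveOnStalks :=
    RingHom.SurjectiveOnStalks.tensorProductMap (f := b) (g := a)
      (RingHom.surjectiveOnStalks_of_isLocalization r.primeCompl B')
      (RingHom.surjectiveOnStalks_of_isLocalization p.primeCompl A')
  have hfl : f.toRingHom.Flat := by
    let f₁ := Algebra.TensorProduct.map b (AlgHom.id k A)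
    let f₂ := Algebra.TensorProduct.map a (AlgHom.id k B')
    let c₁ := (Algebra.TensorProduct.comm k B' A).toRingEquiv
    let c₂ := (Algebra.TensorProduct.comm k A' B').toRingEquiv
    have h1 : f₁.toRingHom.Flat := flat_map_tensor k B B' A b
      (RingHom.flat_algebraMap_iff.mpr (IsLocalization.flat B' r.primeCompl))
    have h2 : f₂.toRingHom.Flat := flat_map_tensor k A A' B' a
      (RingHom.flat_algebraMap_iff.mpr (IsLocalization.flat A' p.primeCompl))
    have he : f.toRingHom = c₂.toRingHom.comp (f₂.toRingHom.comp (c₁.toRingHom.comp f₁.toRingHom)) := by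
      refine RingHom.ext fun w ↦ ?_
      induction w using TensorProduct.induction_on with
      | zero => simp
      | add x y hx hy => simp only [map_add, hx, hy]
      | tmul x y => simp [f, f₁, f₂, c₁, c₂]
    rw [he]
    exact (((h1.comp (RingHom.Flat.of_bijective c₁.bijective)).comp h2).comp (RingHom.Flat.of_bijective c₂.bijective))
  let φ : B ⊗[k] A →ₐ[k] Q.ResidueField := IsScalarTower.toAlgHom k (B ⊗[k] A) Q.ResidueField
  let φB : B →ₐ[k] Q.ResidueField := φ.comp Algebra.TensorProduct.includeLeft
  let φA : A →ₐ[k] Q.ResidueField := φ.comp Algebra.TensorProduct.includeRight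
  have hB' : ∀ y : r.primeCompl, IsUnit (φB y) := fun y ↦
    isUnit_iff_ne_zero.mpr fun h ↦ y.2 ((Ideal.algebraMap_residueField_eq_zero (I := Q)).mp h)
  have hA' : ∀ y : p.primeCompl, IsUnit (φA y) := fun y ↦
    isUnit_iff_ne_zero.mpr fun h ↦ y.2 ((Ideal.algebraMap_residueField_eq_zero (I := Q)).mp h)
  let ψ : B' ⊗[k] A' →ₐ[k] Q.ResidueField :=
    Algebra.TensorProduct.lift (IsLocalization.liftAlgHom (S := B') (f := φB) hB')
      (IsLocalization.liftAlgHom (S := A') (f := φA) hA') fun _ _ ↦ .all _ _
  have hψ : ∀ w, ψ (f w) = φ w := fun w ↦ by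
    induction w using TensorProduct.induction_on with
    | zero => simp
    | add x y hx hy => simp only [map_add, hx, hy]
    | tmul x y =>
      simp only [ψ, f, Algebra.TensorProduct.map_tmul, Algebra.TensorProduct.lift_tmul, a, b,
        IsScalarTower.toAlgHom_apply, IsLocalization.liftAlgHom_apply, IsLocalization.lift_eq]
      show φ (x ⊗ₜ 1) * φ (1 ⊗ₜ y) = _
      rw [← map_mul, Algebra.TensorProduct.tmul_mul_tmul, mul_one, one_mul]
  let q := RingHom.ker ψ.toRingHom
  haveI : q.IsPrime := RingHom.ker_isPrime _
  have hQ : q.comap f.toRingHom = Q := by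
    ext w
    show ψ (f w) = 0 ↔ w ∈ Q
    rw [hψ]
    exact Ideal.algebraMap_residueField_eq_zero
  haveI := (hB r).1; haveI := (hB r).2
  haveI := (hnA p).1; haveI := (hnA p).2
  obtain ⟨h1, h2⟩ := normal_localization (k := k) A' B' (hloc p inferInstance) q
  obtain ⟨σ⟩ := exists_locEquiv f.toRingHom hfl hs q
  exact normal_at_congr hQ ⟨σ.toMulEquiv.isDomain _, IsIntegrallyClosed.of_equiv σ.symm⟩

end GeomRedFibLib
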