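import Groth.Agent.GeomRedFibLib.NormalBCClosed
import Groth.Agent.GeomRedFibLib.ClosedNormal
import Groth.Agent.GeomRedFibLib.TensorNormal
import Groth.Agent.GeomRedFibLib.CplLocal
import Groth.Agent.S9413

/-!
# Base change along normal homomorphisms preserves normality
-/

set_option autoImplicit false
set_option synthInstance.maxHeartbeats 400000
set_option maxHeartbeats 800000

universe u

open TensorProduct IsLocalRing Polynomial

namespace GeomRedFibLib

theorem SplitClosed.congr {R S : Type u} [CommRing R] [CommRing S] (e : R ≃+* S) (h : SplitClosed R) : SplitClosed S := by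
  refine ⟨fun x y hxy ↦ ?_, fun x y p hp hpx ↦ ?_⟩
  · obtain ⟨ε, hε, h1, h2⟩ := h.1 (e.symm x) (e.symm y) (by rw [← map_mul, hxy, map_zero])
    exact ⟨e ε, hε.map e, by rw [← e.apply_symm_apply y, ← map_mul, h1],
      by rw [← e.apply_symm_apply x, ← map_mul, h2, map_zero]⟩
  · have hp' : ((p.map e.symm.toRingHom).scaleRoots (e.symm y)).eval (e.symm x) = 0 := by
      rcases subsingleton_or_nontrivial R with _ | _
      · exact Subsingleton.elim _ _
      · rw [show e.symm y = e.symm.toRingHom y from rfl, ← map_scaleRoots _ _ _ (by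
          rw [hp.leadingCoeff, map_one]; exact one_ne_zero), eval_map, show e.symm x = e.symm.toRingHom x from rfl,
          eval₂_at_apply, hpx, map_zero]
    obtain ⟨ε, z, hε, h1, h2⟩ := h.2 _ _ _ (hp.map _) hp'
    exact ⟨e ε, e z, hε.map e, by rw [← e.apply_symm_apply y, ← map_mul, h1],
      by rw [← e.apply_symm_apply x, ← map_mul, h2, map_mul, e.apply_symm_apply]⟩

theorem isNormalRing_field (K : Type u) [Field K] : EGA4.IsNormalRing K := fun p _ ↦ by
  haveI : IsDomain (Localization.AtPrime p) := IsLocalization.isDomain_localization p.primeCompl_le_nonZeroDivisors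
  exact ⟨inferInstance, isIntegrallyClosed_of_isLocalization _ p.primeCompl p.primeCompl_le_nonZeroDivisors⟩

/-- The base change of a field along a normal homomorphism is split closed. -/
theorem splitClosed_bc_field (A A' : Type u) [CommRing A] [CommRing A'] [IsNoetherianRing A']
    [Algebra A A'] (h : EGA4.IsNormalHom A A') (K : Type u) [Field K] [Algebra A K] : SplitClosed (A' ⊗[A] K) := by
  let p := RingHom.ker (algebraMap A K)
  haveI : p.IsPrime := RingHom.ker_isPrime _
  letI : Algebra p.ResidueField K := (Ideal.ResidueField.lift p (algebraMap A K) le_rfl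
    fun x hx ↦ isUnit_iff_ne_zero.mpr fun h0 ↦ hx h0).toAlgebra
  haveI : IsScalarTower A p.ResidueField K :=
    .of_algebraMap_eq fun a ↦ (Ideal.ResidueField.lift_algebraMap p _ _ _ a).symm
  haveI := isNoetherianRing_fiber A A' p
  have h1 : SplitClosed ((p.Fiber A') ⊗[p.ResidueField] K) := splitClosed_tensor (p.Fiber A') K fun F₀ hF₀ ↦ by
    haveI := hF₀
    haveI := isNoetherianRing_fieldBC p.ResidueField (p.Fiber A') F₀
    exact ⟨isNoetherianRing_of_ringEquiv _ (Algebra.TensorProduct.comm p.ResidueField F₀ (p.Fiber A')).toRingEquiv,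
      Groth.Agent.S9413.result p.ResidueField (p.Fiber A') F₀ (h.2 p) (isNormalRing_field F₀)⟩
  exact h1.congr (((Algebra.TensorProduct.comm p.ResidueField (p.Fiber A') K).toRingEquiv.trans
    (Algebra.TensorProduct.cancelBaseChange A p.ResidueField p.ResidueField K A').toRingEquiv).trans
    (Algebra.TensorProduct.comm A K A').toRingEquiv)

/-- The base change of a normal local domain along a normal homomorphism is normal. -/
theorem isNormalRing_bc_local (A A' : Type u) [CommRing A] [CommRing A'] [IsNoetherianRing A] [IsNoetherianRing A']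
    [Algebra A A'] (h : EGA4.IsNormalHom A A') (B : Type u) [CommRing B] [IsDomain B] [IsLocalRing B]
    [IsIntegrallyClosed B] [Algebra A B] : EGA4.IsNormalRing (A' ⊗[A] B) := by
  haveI := h.1
  obtain ⟨K, _, _, _⟩ := exists_fractionField B
  letI : Algebra A K := ((algebraMap B K).comp (algebraMap A B)).toAlgebra
  haveI : IsScalarTower A B K := .of_algebraMap_eq fun _ ↦ rfl
  intro q _
  exact normal_atPrime_of_intClosed _ (bc_injective _ (IsFractionRing.injective B K))
    (intClosedMap_bc_normal (fun p _ ↦ geomRed_of_isGeomNormal _ (h.2 p)) B K) (splitClosed_bc_field A A' h K) q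

/-- The base change of a normal ring along a normal homomorphism is normal. -/
theorem isNormalRing_bc (A A' : Type u) [CommRing A] [CommRing A'] [IsNoetherianRing A] [IsNoetherianRing A']
    [Algebra A A'] (h : EGA4.IsNormalHom A A') (B : Type u) [CommRing B] [Algebra A B] (hB : EGA4.IsNormalRing B) :
    EGA4.IsNormalRing (A' ⊗[A] B) := by
  refine ringP_bc_of_forall_maximal (P := fun R _ ↦ IsDomain R ∧ IsIntegrallyClosed R) ?_ A B A' fun M _ ↦ ?_
  · intro R S _ _ e hR
    haveI := hR.1
    haveI := hR.2
    exact ⟨e.symm.toMulEquiv.isDomain R, IsIntegrallyClosed.of_equiv e⟩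
  · haveI := (hB M).1
    haveI := (hB M).2
    exact isNormalRing_bc_local A A' h (Localization.AtPrime M)

end GeomRedFibLib
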