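import Groth.Agent.GeomRedFibLib.LocalPropComp
import Groth.Agent.CMFlatLib.Basic
import Groth.Agent.SMTLib.CMQuot
import Groth.Agent.CohenLib.RegularField
import Groth.Agent.S0565
import Groth.Prelude.Def_Found

/-!
# Cohen–Macaulay and regular rings as flat-local properties
-/

set_option autoImplicit false
set_option synthInstance.maxHeartbeats 100000

universe u

open TensorProduct IsLocalRing

namespace GeomRedFibLib

noncomputable section

/-- Cohen–Macaulay local rings. -/
abbrev CMLoc (R : Type u) [CommRing R] : Prop := LocCoh.IsCohenMacaulayLocalRing R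

/-- Regular local rings. -/
abbrev RegLoc (R : Type u) [CommRing R] : Prop := IsRegularLocalRing R

theorem isFlatLocalProp_cm : IsFlatLocalProp CMLoc.{u} where
  congr R S _ _ e h := by
    haveI : LocCoh.IsCohenMacaulayLocalRing R := h
    exact SMTLib.isCohenMacaulayLocalRing_of_ringEquiv e
  asc A B _ _ _ _ _ _ _ _ _ hA hF :=
    (CMFlatLib.isCohenMacaulayLocalRing_iff_isCM B).mpr <| (CMFlatLib.isCM_flat_iff A B).mpr
      ⟨(CMFlatLib.isCohenMacaulayLocalRing_iff_isCM A).mp hA,
        (by haveI : LocCoh.IsCohenMacaulayLocalRing (GorLib.Fib A B) := hF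
            exact SMTLib.isCM_of_isCohenMacaulayLocalRing (GorLib.Fib A B))⟩
  desc A B _ _ _ _ _ _ _ _ _ _ hB :=
    (CMFlatLib.isCohenMacaulayLocalRing_iff_isCM A).mpr
      ((CMFlatLib.isCM_flat_iff A B).mp ((CMFlatLib.isCohenMacaulayLocalRing_iff_isCM B).mp hB)).1

theorem isFlatLocalProp_regular : IsFlatLocalProp RegLoc.{u} where
  congr R S _ _ e h := by
    haveI : IsRegularLocalRing R := h
    exact IsRegularLocalRing.of_ringEquiv e
  asc A B _ _ _ _ _ _ _ _ _ hA hF := by
    haveI : IsRegularLocalRing A := hA
    haveI : IsRegularLocalRing (B ⧸ (maximalIdeal A).map (algebraMap A B)) := hF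
    exact CohenLib.isRegularLocalRing_of_flat_of_regular_fibre A B
  desc A B _ _ _ _ _ _ _ _ _ _ hB := by
    haveI : IsRegularLocalRing B := hB
    exact Groth.Agent.S0565.result A B

theorem isCohenMacaulayRing_iff (R : Type u) [CommRing R] [IsNoetherianRing R] :
    LocCoh.IsCohenMacaulayRing R ↔ RingP CMLoc R :=
  ⟨fun h q _ ↦ h.isCohenMacaulayLocalRing_localization q, fun h ↦ ⟨fun q _ ↦ h q⟩⟩

theorem isRegularRing_iff (R : Type u) [CommRing R] [IsNoetherianRing R] :
    IsRegularRing R ↔ RingP RegLoc R :=
  ⟨fun h q _ ↦ h.isRegularLocalRing_localization q, fun h ↦ { isRegularLocalRing_localization := fun q _ ↦ h q }⟩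

variable {P : ∀ (R : Type u) [CommRing R], Prop} (hP : IsFlatLocalProp P)
  (A B C : Type u) [CommRing A] [CommRing B] [CommRing C] [Algebra A B] [Algebra B C] [Algebra A C]
  [IsScalarTower A B C] [IsNoetherianRing B] [IsNoetherianRing C] (p : Ideal A) [p.IsPrime]

include hP in
/-- Composition, for fibres having the property after finite extensions. -/
theorem geomRingP_comp [Module.Flat B C]
    (hBC : ∀ (q : Ideal B) [q.IsPrime] (L : Type u) [Field L] [Algebra q.ResidueField L],
      Module.Finite q.ResidueField L → RingP P (L ⊗[q.ResidueField] (q.Fiber C)))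
    (k' : Type u) [Field k'] [Algebra p.ResidueField k'] [Module.Finite p.ResidueField k']
    (hAB : RingP P (k' ⊗[p.ResidueField] (p.Fiber B))) : RingP P (k' ⊗[p.ResidueField] (p.Fiber C)) := by
  letI : Algebra A k' := ((algebraMap p.ResidueField k').comp (algebraMap A p.ResidueField)).toAlgebra
  haveI : IsScalarTower A p.ResidueField k' := .of_algebraMap_eq fun _ ↦ rfl
  refine RingP.congr hP (Algebra.TensorProduct.cancelBaseChange A p.ResidueField p.ResidueField k' C).toRingEquiv.symm
    (ringP_comp hP A B C p k'
      (RingP.congr hP (Algebra.TensorProduct.cancelBaseChange A p.ResidueField p.ResidueField k' B).toRingEquiv hAB)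
      fun Q _ ↦ ?_)
  let q := Q.comap (algebraMap B (B ⊗[A] k'))
  letI : Algebra q.ResidueField Q.ResidueField :=
    (Ideal.ResidueField.map q Q (algebraMap B (B ⊗[A] k')) rfl).toAlgebra
  haveI : IsScalarTower B q.ResidueField Q.ResidueField := .of_algebraMap_eq fun b ↦
    (Ideal.ResidueField.map_algebraMap q Q _ rfl b).symm
  obtain ⟨_, ψ, hψ⟩ := exists_surjective_residueField A B p k' Q q
  exact RingP.congr hP (Algebra.TensorProduct.cancelBaseChange B q.ResidueField q.ResidueField Q.ResidueField C).toRingEquiv
    (hBC q Q.ResidueField (Module.Finite.of_surjective ψ.toLinearMap hψ))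

include hP in
/-- Composition, for fibres having the property. -/
theorem fibreRingP_comp [Module.Flat B C] (hBC : ∀ (q : Ideal B) [q.IsPrime], RingP P (q.Fiber C))
    (hAB : RingP P (p.Fiber B)) : RingP P (p.Fiber C) := by
  refine ringP_comp hP A B C p p.ResidueField hAB fun Q _ ↦ ?_
  let q := Q.comap (algebraMap B (B ⊗[A] p.ResidueField))
  letI : Algebra q.ResidueField Q.ResidueField :=
    (Ideal.ResidueField.map q Q (algebraMap B (B ⊗[A] p.ResidueField)) rfl).toAlgebra
  haveI : IsScalarTower B q.ResidueField Q.ResidueField := .of_algebraMap_eq fun b ↦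
    (Ideal.ResidueField.map_algebraMap q Q _ rfl b).symm
  obtain ⟨_, ψ, hψ⟩ := exists_surjective_residueField A B p p.ResidueField Q q
  have hs : Function.Surjective (Algebra.ofId q.ResidueField Q.ResidueField) := fun z ↦ by
    obtain ⟨t, rfl⟩ := hψ z
    refine ⟨Algebra.TensorProduct.rid p.ResidueField q.ResidueField q.ResidueField t, ?_⟩
    let r := Algebra.TensorProduct.rid p.ResidueField q.ResidueField q.ResidueField
    have h : t = algebraMap q.ResidueField _ (r t) := by
      conv_lhs => rw [← r.symm_apply_apply t]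
      rfl
    exact (ψ.commutes (r t)).symm.trans (congrArg ψ h.symm)
  let σ : q.ResidueField ≃ₐ[q.ResidueField] Q.ResidueField :=
    AlgEquiv.ofBijective (Algebra.ofId q.ResidueField Q.ResidueField) ⟨(algebraMap q.ResidueField Q.ResidueField).injective, hs⟩
  exact RingP.congr hP (Algebra.TensorProduct.congr (σ.restrictScalars B) AlgEquiv.refl).toRingEquiv (hBC q)

include hP in
/-- Cancellation, for fibres having the property after finite extensions. -/
theorem geomRingP_cancel [Module.FaithfullyFlat B C] (k' : Type u) [Field k'] [Algebra p.ResidueField k']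
    [Module.Finite p.ResidueField k'] (hAC : RingP P (k' ⊗[p.ResidueField] (p.Fiber C))) :
    RingP P (k' ⊗[p.ResidueField] (p.Fiber B)) := by
  letI : Algebra A k' := ((algebraMap p.ResidueField k').comp (algebraMap A p.ResidueField)).toAlgebra
  haveI : IsScalarTower A p.ResidueField k' := .of_algebraMap_eq fun _ ↦ rfl
  exact RingP.congr hP (Algebra.TensorProduct.cancelBaseChange A p.ResidueField p.ResidueField k' B).toRingEquiv.symm
    (ringP_cancel hP A B C p k'
      (RingP.congr hP (Algebra.TensorProduct.cancelBaseChange A p.ResidueField p.ResidueField k' C).toRingEquiv hAC))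

include hP in
/-- Cancellation, for fibres having the property. -/
theorem fibreRingP_cancel [Module.FaithfullyFlat B C] (hAC : RingP P (p.Fiber C)) : RingP P (p.Fiber B) :=
  ringP_cancel hP A B C p p.ResidueField hAC

theorem isNoetherianRing_fiber (A B : Type u) [CommRing A] [CommRing B] [Algebra A B] [IsNoetherianRing B]
    (p : Ideal A) [p.IsPrime] : IsNoetherianRing (p.Fiber B) :=
  haveI := Algebra.EssFiniteType.isNoetherianRing B (B ⊗[A] p.ResidueField)
  isNoetherianRing_of_ringEquiv _ (Algebra.TensorProduct.comm A B p.ResidueField).toRingEquiv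

theorem isNoetherianRing_finite_bc (k k' F : Type u) [Field k] [Field k'] [CommRing F] [Algebra k k'] [Algebra k F]
    [Module.Finite k k'] [IsNoetherianRing F] : IsNoetherianRing (k' ⊗[k] F) :=
  haveI := IsNoetherianRing.of_finite F (F ⊗[k] k')
  isNoetherianRing_of_ringEquiv _ (Algebra.TensorProduct.comm k F k').toRingEquiv

theorem isRegularRing_finite_bc_iff (k k' F : Type u) [Field k] [Field k'] [CommRing F] [Algebra k k'] [Algebra k F]
    [Module.Finite k k'] [IsNoetherianRing F] : IsRegularRing (k' ⊗[k] F) ↔ RingP RegLoc (k' ⊗[k] F) :=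
  haveI := isNoetherianRing_finite_bc k k' F
  isRegularRing_iff _

end

end GeomRedFibLib
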