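import Groth.Agent.NormalLib.CompletionTensor
import Groth.Prelude.Def_EGA4b

/-!
# The completion of a quotient of a local ring
-/

set_option autoImplicit false

universe u

open TensorProduct EGA4

namespace GeomRedFibLib

theorem exists_cplQuotEquiv (A : Type u) [CommRing A] [IsNoetherianRing A] [IsLocalRing A] (I : Ideal A)
    [Nontrivial (A ⧸ I)] : Nonempty ((A ⧸ I) ⊗[A] Cpl A ≃ₐ[A ⧸ I] Cpl (A ⧸ I)) := by
  haveI : IsLocalRing (A ⧸ I) := inferInstance
  have h : (IsLocalRing.maximalIdeal A).map (algebraMap A (A ⧸ I)) = IsLocalRing.maximalIdeal (A ⧸ I) := by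
    have hs : Function.Surjective (algebraMap A (A ⧸ I)) := Ideal.Quotient.mk_surjective
    have hne : (IsLocalRing.maximalIdeal A).map (algebraMap A (A ⧸ I)) ≠ ⊤ := fun hc ↦ by
      have := congrArg (Ideal.comap (algebraMap A (A ⧸ I))) hc
      rw [Ideal.comap_map_of_surjective _ hs, Ideal.comap_top] at this
      refine (IsLocalRing.maximalIdeal.isMaximal A).ne_top (top_le_iff.mp (this.ge.trans (sup_le le_rfl ?_)))
      refine IsLocalRing.le_maximalIdeal fun ht ↦ ?_
      have h1 : (1 : A) ∈ Ideal.comap (algebraMap A (A ⧸ I)) ⊥ := by rw [ht]; trivial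
      exact one_ne_zero (show (1 : A ⧸ I) = 0 by simpa using h1)
    exact IsLocalRing.eq_maximalIdeal
      ((Ideal.map_eq_top_or_isMaximal_of_surjective _ hs (IsLocalRing.maximalIdeal.isMaximal A)).resolve_left hne)
  obtain ⟨e, he⟩ := NormalLib.exists_ringEquiv_completion_tensor (IsLocalRing.maximalIdeal A) (A ⧸ I)
  let g : (A ⧸ I) ⊗[A] Cpl A ≃+* AdicCompletion ((IsLocalRing.maximalIdeal A).map (algebraMap A (A ⧸ I))) (A ⧸ I) :=
    (Algebra.TensorProduct.comm A (A ⧸ I) (Cpl A)).toRingEquiv.trans e.symm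
  have hg : ∀ c, g (c ⊗ₜ 1) = algebraMap (A ⧸ I) _ c := fun c ↦
    e.symm_apply_eq.mpr (by rw [he]; rfl)
  clear_value g
  revert g
  rw [h]
  intro g hg
  exact ⟨AlgEquiv.ofRingEquiv (f := g) fun c ↦ hg c⟩

theorem exists_cplSurjEquiv (A A' : Type u) [CommRing A] [IsNoetherianRing A] [IsLocalRing A] [CommRing A']
    [IsLocalRing A'] [Algebra A A'] (hs : Function.Surjective (algebraMap A A')) :
    Nonempty (A' ⊗[A] Cpl A ≃ₐ[A'] Cpl A') := by
  haveI : Module.Finite A A' := Module.Finite.of_surjective (Algebra.linearMap A A') hs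
  have h : (IsLocalRing.maximalIdeal A).map (algebraMap A A') = IsLocalRing.maximalIdeal A' :=
    IsLocalRing.map_maximalIdeal_of_surjective _ hs
  obtain ⟨e, he⟩ := NormalLib.exists_ringEquiv_completion_tensor (IsLocalRing.maximalIdeal A) A'
  let g : A' ⊗[A] Cpl A ≃+* AdicCompletion ((IsLocalRing.maximalIdeal A).map (algebraMap A A')) A' :=
    (Algebra.TensorProduct.comm A A' (Cpl A)).toRingEquiv.trans e.symm
  have hg : ∀ c, g (c ⊗ₜ 1) = algebraMap A' _ c := fun c ↦ e.symm_apply_eq.mpr (by rw [he]; rfl)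
  clear_value g
  revert g
  rw [h]
  intro g hg
  exact ⟨AlgEquiv.ofRingEquiv (f := g) fun c ↦ hg c⟩

end GeomRedFibLib
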