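import Groth.Agent.GeomRedFibLib.BaseChange
import Groth.Agent.GeomRedFibLib.CplQuot
import Groth.Prelude.Def_Found
import Mathlib.RingTheory.AdicCompletion.AsTensorProduct

/-!
# G-rings through generic formal fibres of quotient domains
-/

set_option autoImplicit false
set_option synthInstance.maxHeartbeats 80000

universe u

open TensorProduct EGA4

namespace GeomRedFibLib

noncomputable section

variable {A A' B B' : Type u} [CommRing A] [CommRing A'] [CommRing B] [CommRing B'] [Algebra A A'] [Algebra A B]
  [Algebra A' B'] (e : A' ⊗[A] B ≃ₐ[A'] B') (p : Ideal A) [p.IsPrime] (p' : Ideal A') [p'.IsPrime]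

include e in
/-- Geometric regularity of a fibre can be read after a base change bijective on residue fields. -/
theorem isGeometricallyRegular_fiber_iff (hs : (algebraMap A A').SurjectiveOnStalks)
    (hp : p = p'.comap (algebraMap A A')) :
    CAlg.IsGeometricallyRegular p'.ResidueField (p'.Fiber B') ↔
      CAlg.IsGeometricallyRegular p.ResidueField (p.Fiber B) := by
  refine ⟨fun h k' _ _ hk ↦ ?_, fun h k' _ _ hk ↦
    forall_finite_fiber_baseChange e p p' (fun R _ ↦ IsRegularRing R)
      (fun _ _ _ _ σ h ↦ @IsRegularRing.of_ringEquiv _ _ _ _ σ h) hs hp h k' hk⟩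
  haveI := hk
  let σ := RingEquiv.ofBijective (resMap p p' hp) (hs.residueFieldMap_bijective p p' hp)
  letI := (resMap p p' hp).toAlgebra
  letI : Algebra p'.ResidueField k' := ((algebraMap p.ResidueField k').comp σ.symm.toRingHom).toAlgebra
  have hc : algebraMap p.ResidueField k' = (algebraMap p'.ResidueField k').comp (resMap p p' hp) := by
    refine RingHom.ext fun x ↦ ?_
    show _ = algebraMap p.ResidueField k' (σ.symm (σ x))
    rw [σ.symm_apply_apply]
  haveI : IsScalarTower p.ResidueField p'.ResidueField k' := .of_algebraMap_eq' hc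
  haveI := h k' (Module.Finite.of_restrictScalars_finite p.ResidueField p'.ResidueField k')
  exact IsRegularRing.of_ringEquiv (R := k' ⊗[p'.ResidueField] (p'.Fiber B')) (fiberEquiv e p p' hp k' hc)

variable {R : Type u} [CommRing R] [IsNoetherianRing R] (q : Ideal R) [q.IsPrime] (p₀ : Ideal R) [p₀.IsPrime]
  (P : Ideal (R ⧸ q)) [P.IsPrime] (hP : p₀ = P.comap (Ideal.Quotient.mk q))

include hP in
/-- The generic formal fibre of `(R ⧸ q)_P` is the formal fibre of `R_p` at `q`. -/
theorem isGeometricallyRegular_generic_iff (Q : Ideal (Localization.AtPrime p₀)) [Q.IsPrime]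
    (hQ : Q.comap (algebraMap R (Localization.AtPrime p₀)) = q) :
    CAlg.IsGeometricallyRegular (⊥ : Ideal (Localization.AtPrime P)).ResidueField
        (formalFibre (Localization.AtPrime P) (⊥ : Ideal (Localization.AtPrime P))) ↔
      CAlg.IsGeometricallyRegular Q.ResidueField (Q.Fiber (Cpl (Localization.AtPrime p₀))) := by
  letI : Algebra (Localization.AtPrime p₀) (Localization.AtPrime P) :=
    (Localization.localRingHom p₀ P (Ideal.Quotient.mk q) hP).toAlgebra
  have hs : Function.Surjective (algebraMap (Localization.AtPrime p₀) (Localization.AtPrime P)) := by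
    subst hP
    exact RingHom.surjectiveOnStalks_of_surjective Ideal.Quotient.mk_surjective P inferInstance
  obtain ⟨e⟩ := exists_cplSurjEquiv (Localization.AtPrime p₀) (Localization.AtPrime P) hs
  have hle : q ≤ p₀ := fun x hx ↦ by
    rw [hP, Ideal.mem_comap, Ideal.Quotient.eq_zero_iff_mem.mpr hx]
    exact zero_mem _
  refine isGeometricallyRegular_fiber_iff e Q ⊥ (RingHom.surjectiveOnStalks_of_surjective hs) ?_
  apply (IsLocalization.AtPrime.orderIsoOfPrime (Localization.AtPrime p₀) p₀).injective.eq_iff
    (a := ⟨Q, inferInstance⟩) (b := ⟨_, Ideal.IsPrime.comap _⟩) |>.mp ?_ |> fun h ↦ congrArg Subtype.val h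
  ext1
  show Q.comap _ = ((⊥ : Ideal (Localization.AtPrime P)).comap _).comap _
  rw [hQ, Ideal.comap_comap]
  ext x
  rw [Ideal.mem_comap, RingHom.comp_apply, RingHom.algebraMap_toAlgebra, Localization.localRingHom_to_map,
    Ideal.mem_bot, IsLocalization.to_map_eq_zero_iff _ P.primeCompl_le_nonZeroDivisors,
    Ideal.Quotient.eq_zero_iff_mem]

end

end GeomRedFibLib
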