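import Groth.Agent.S9634
import Mathlib.RingTheory.LocalRing.ResidueField.Fiber
import Mathlib.RingTheory.SurjectiveOnStalks
import Mathlib.RingTheory.IsTensorProduct

/-!
# Fibres of a base change
-/

set_option autoImplicit false
set_option synthInstance.maxHeartbeats 80000

universe u

open TensorProduct

namespace GeomRedFibLib

noncomputable section

variable {A A' B B' : Type u} [CommRing A] [CommRing A'] [CommRing B] [CommRing B'] [Algebra A A'] [Algebra A B]
  [Algebra A' B'] (e : A' ⊗[A] B ≃ₐ[A'] B') (p : Ideal A) [p.IsPrime] (p' : Ideal A') [p'.IsPrime]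
  (hp : p = p'.comap (algebraMap A A'))

/-- The map of residue fields. -/
abbrev resMap : p.ResidueField →+* p'.ResidueField :=
  Ideal.ResidueField.map p p' (algebraMap A A') hp

/-- The fibre of a base change, after a further extension of the residue field. -/
def fiberEquiv (k' : Type u) [Field k'] [Algebra p'.ResidueField k'] [Algebra p.ResidueField k']
    (h : algebraMap p.ResidueField k' = (algebraMap p'.ResidueField k').comp (resMap p p' hp)) :
    k' ⊗[p'.ResidueField] (p'.Fiber B') ≃+* k' ⊗[p.ResidueField] (p.Fiber B) :=
  letI : Algebra A' k' := ((algebraMap p'.ResidueField k').comp (algebraMap A' p'.ResidueField)).toAlgebra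
  letI : Algebra A k' := ((algebraMap A' k').comp (algebraMap A A')).toAlgebra
  haveI : IsScalarTower A A' k' := .of_algebraMap_eq fun _ ↦ rfl
  haveI : IsScalarTower A' p'.ResidueField k' := .of_algebraMap_eq fun _ ↦ rfl
  haveI : IsScalarTower A p.ResidueField k' := .of_algebraMap_eq fun a ↦ by
    rw [h]
    show algebraMap p'.ResidueField k' (algebraMap A' p'.ResidueField (algebraMap A A' a)) = _
    exact congrArg _ (Ideal.ResidueField.map_algebraMap p p' _ hp a).symm
  (Algebra.TensorProduct.cancelBaseChange A' p'.ResidueField p'.ResidueField k' B').toRingEquiv.trans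
    (((Algebra.TensorProduct.congr (AlgEquiv.refl : k' ≃ₐ[A'] k') e.symm).toRingEquiv.trans
      (Algebra.TensorProduct.cancelBaseChange A A' A' k' B).toRingEquiv).trans
      (Algebra.TensorProduct.cancelBaseChange A p.ResidueField p.ResidueField k' B).symm.toRingEquiv)

include e in
/-- Geometrically reduced fibres are stable under base change. -/
theorem isGeometricallyReduced_fiber_baseChange (h : Algebra.IsGeometricallyReduced p.ResidueField (p.Fiber B))
    (hp : p = p'.comap (algebraMap A A')) :
    Algebra.IsGeometricallyReduced p'.ResidueField (p'.Fiber B') := by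
  refine ((Groth.Agent.S9634.result (k := p'.ResidueField) (S := p'.Fiber B')).out 2 1).mp ?_
  intro k' _ _
  letI : Algebra p.ResidueField k' := ((algebraMap p'.ResidueField k').comp (resMap p p' hp)).toAlgebra
  have h' : ∀ (K : Type u) [Field K] [Algebra p.ResidueField K], IsReduced (K ⊗[p.ResidueField] (p.Fiber B)) :=
    ((Groth.Agent.S9634.result (k := p.ResidueField) (S := p.Fiber B)).out 1 2).mp h
  haveI := h' k'
  exact isReduced_of_injective (fiberEquiv e p p' hp k' rfl) (RingEquiv.injective _)

include e in
/-- A property of all finite base changes of a fibre passes to a base change bijective on residue fields. -/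
theorem forall_finite_fiber_baseChange (P : ∀ (R : Type u) [CommRing R], Prop)
    (hP : ∀ (R S : Type u) [CommRing R] [CommRing S], (R ≃+* S) → P R → P S)
    (hs : (algebraMap A A').SurjectiveOnStalks)
    (hp : p = p'.comap (algebraMap A A'))
    (h : ∀ (k' : Type u) [Field k'] [Algebra p.ResidueField k'], Module.Finite p.ResidueField k' →
      P (k' ⊗[p.ResidueField] (p.Fiber B)))
    (k' : Type u) [Field k'] [Algebra p'.ResidueField k'] (hk : Module.Finite p'.ResidueField k') :
    P (k' ⊗[p'.ResidueField] (p'.Fiber B')) := by
  letI := (resMap p p' hp).toAlgebra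
  letI : Algebra p.ResidueField k' := ((algebraMap p'.ResidueField k').comp (resMap p p' hp)).toAlgebra
  haveI : IsScalarTower p.ResidueField p'.ResidueField k' := .of_algebraMap_eq fun _ ↦ rfl
  haveI : Module.Finite p.ResidueField p'.ResidueField :=
    Module.Finite.of_surjective (Algebra.linearMap p.ResidueField p'.ResidueField)
      (hs.residueFieldMap_bijective p p' hp).2
  exact hP _ _ (fiberEquiv e p p' hp k' rfl).symm (h k' (Module.Finite.trans p'.ResidueField k'))

include e in
/-- A ring property of a fibre passes to a base change bijective on residue fields. -/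
theorem fiber_baseChange (P : ∀ (R : Type u) [CommRing R], Prop)
    (hP : ∀ (R S : Type u) [CommRing R] [CommRing S], (R ≃+* S) → P R → P S)
    (hs : (algebraMap A A').SurjectiveOnStalks)
    (hp : p = p'.comap (algebraMap A A')) (h : P (p.Fiber B)) : P (p'.Fiber B') := by
  let σ := RingEquiv.ofBijective (resMap p p' hp) (hs.residueFieldMap_bijective p p' hp)
  letI : Algebra p.ResidueField p'.ResidueField := (resMap p p' hp).toAlgebra
  let σ' : p.ResidueField ≃ₐ[p.ResidueField] p'.ResidueField := AlgEquiv.ofRingEquiv (f := σ) fun _ ↦ rfl
  exact hP _ _ ((((Algebra.TensorProduct.lid p'.ResidueField (p'.Fiber B')).toRingEquiv.symm.trans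
    (fiberEquiv e p p' hp p'.ResidueField rfl)).trans
    (Algebra.TensorProduct.congr σ'.symm AlgEquiv.refl).toRingEquiv).trans
    (Algebra.TensorProduct.lid p.ResidueField (p.Fiber B)).toRingEquiv).symm h

include e in
/-- Base change preserves flatness. -/
theorem flat_baseChange [Module.Flat A B] : Module.Flat A' B' :=
  Module.Flat.of_linearEquiv e.symm.toLinearEquiv

end

end GeomRedFibLib
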