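import Groth.Agent.GeomRedFibLib.GeomField
import Groth.Agent.GeomRedFibLib.BaseChange

/-!
# Geometric properties over fields and of fibres
-/

set_option autoImplicit false
set_option synthInstance.maxHeartbeats 400000
set_option maxHeartbeats 800000

universe u

open TensorProduct IsLocalRing

namespace GeomRedFibLib

noncomputable section

theorem geomP_regular_iff (k : Type u) [Field k] (S : Type u) [CommRing S] [Algebra k S] [IsNoetherianRing S] :
    CAlg.IsGeometricallyRegular k S ↔ GeomP RegLoc k S :=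
  ⟨fun h k' _ _ hk ↦ by haveI := hk; exact (isRegularRing_finite_bc_iff k k' S).mp (h k' hk),
    fun h k' _ _ hk ↦ by haveI := hk; exact (isRegularRing_finite_bc_iff k k' S).mpr (h k' hk)⟩

theorem geomP_normal_iff (k : Type u) [Field k] (S : Type u) [CommRing S] [Algebra k S] [IsNoetherianRing S] :
    EGA4.IsGeomNormal k S ↔ GeomP (RkLoc 1) k S ∧ GeomP (SkLoc 2) k S :=
  ⟨fun h ↦ ⟨fun k' _ _ hk ↦ by haveI := hk; exact ((isNormalRing_finite_bc_iff k k' S).mp (h k' hk)).1,
      fun k' _ _ hk ↦ by haveI := hk; exact ((isNormalRing_finite_bc_iff k k' S).mp (h k' hk)).2⟩,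
    fun h k' _ _ hk ↦ by haveI := hk; exact (isNormalRing_finite_bc_iff k k' S).mpr ⟨h.1 k' hk, h.2 k' hk⟩⟩

variable {P : ∀ (R : Type u) [CommRing R], Prop} (hP : IsGeomProp P)

include hP in
theorem geomP_bc {k : Type u} [Field k] {S : Type u} [CommRing S] [Algebra k S] [IsNoetherianRing S]
    (h : GeomP P k S) (K : Type u) [Field K] [Algebra k K] [Algebra.EssFiniteType k K] : GeomP P K (K ⊗[k] S) := by
  intro L _ _ hL
  letI : Algebra k L := ((algebraMap K L).comp (algebraMap k K)).toAlgebra
  haveI : IsScalarTower k K L := .of_algebraMap_eq fun _ ↦ rfl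
  haveI : Algebra.EssFiniteType k L := Algebra.EssFiniteType.comp k K L
  exact RingP.congr hP.toIsFlatLocalProp (Algebra.TensorProduct.cancelBaseChange k K K L S).toRingEquiv.symm
    (h.geomPI.ringP_fg hP L)

theorem exists_compositum (k K k' : Type u) [Field k] [Field K] [Field k'] [Algebra k K] [Algebra k k']
    [Module.Finite k k'] :
    ∃ (L : Type u) (_ : Field L) (_ : Algebra K L) (_ : Algebra k' L) (_ : Algebra k L),
      IsScalarTower k K L ∧ IsScalarTower k k' L ∧ Module.Finite K L := by
  haveI : Nontrivial (K ⊗[k] k') :=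
    (Algebra.TensorProduct.includeLeft_injective (R := k) (S := k) (A := K) (B := k')
      (FaithfulSMul.algebraMap_injective k k')).nontrivial
  obtain ⟨m, hm⟩ := Ideal.exists_maximal (K ⊗[k] k')
  letI : Field ((K ⊗[k] k') ⧸ m) := Ideal.Quotient.field m
  letI : Algebra k' ((K ⊗[k] k') ⧸ m) := ((Ideal.Quotient.mk m).comp
    (Algebra.TensorProduct.includeRight : k' →ₐ[k] K ⊗[k] k').toRingHom).toAlgebra
  refine ⟨(K ⊗[k] k') ⧸ m, inferInstance, inferInstance, inferInstance, inferInstance, inferInstance,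
    .of_algebraMap_eq fun c ↦ ?_, inferInstance⟩
  exact congrArg (Ideal.Quotient.mk m) ((Algebra.TensorProduct.includeRight : k' →ₐ[k] K ⊗[k] k').commutes c).symm

include hP in
theorem geomP_of_bc {k : Type u} [Field k] {S : Type u} [CommRing S] [Algebra k S] [IsNoetherianRing S]
    (K : Type u) [Field K] [Algebra k K] [Algebra.EssFiniteType k K] (h : GeomP P K (K ⊗[k] S)) : GeomP P k S := by
  intro k' _ _ hk
  haveI := hk
  obtain ⟨L, _, _, _, _, _, _, hL⟩ := exists_compositum k K k'
  haveI := hL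
  haveI : Algebra.EssFiniteType k L := Algebra.EssFiniteType.comp k K L
  haveI := isNoetherianRing_fieldBC k S k'
  haveI := isNoetherianRing_fieldBC k S L
  let e : (k' ⊗[k] S) ⊗[k'] L ≃+* L ⊗[k] S := (Algebra.TensorProduct.comm k' (k' ⊗[k] S) L).toRingEquiv.trans
    (Algebra.TensorProduct.cancelBaseChange k k' k' L S).toRingEquiv
  haveI : IsNoetherianRing ((k' ⊗[k] S) ⊗[k'] L) := isNoetherianRing_of_ringEquiv (L ⊗[k] S) e.symm
  exact ringP_field_desc hP k' L (k' ⊗[k] S) (RingP.congr hP.toIsFlatLocalProp (R := L ⊗[k] S) e.symm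
    (RingP.congr hP.toIsFlatLocalProp (Algebra.TensorProduct.cancelBaseChange k K K L S).toRingEquiv (h L hL)))

include hP in
/-- A tensor product over a field with one factor geometrically having the property. -/
theorem ringP_tensor {k : Type u} [Field k] {S T : Type u} [CommRing S] [CommRing T] [Algebra k S] [Algebra k T]
    [IsNoetherianRing S] [IsNoetherianRing T] [IsNoetherianRing (S ⊗[k] T)] (hS : RingP P S) (hT : GeomPI P k T) :
    RingP P (S ⊗[k] T) := by
  refine RingP.asc hP.toIsFlatLocalProp S (S ⊗[k] T) hS fun p _ ↦ ?_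
  haveI := isNoetherianRing_fiber S (S ⊗[k] T) p
  let e := (Algebra.TensorProduct.cancelBaseChange k S S p.ResidueField T).toRingEquiv
  haveI : IsNoetherianRing (p.ResidueField ⊗[k] T) := isNoetherianRing_of_ringEquiv (p.Fiber (S ⊗[k] T)) e
  exact RingP.congr hP.toIsFlatLocalProp (R := p.ResidueField ⊗[k] T) e.symm (hT.ringP_noetherian hP p.ResidueField)

include hP in
theorem geomP_tensor {k : Type u} [Field k] {S T : Type u} [CommRing S] [CommRing T] [Algebra k S] [Algebra k T]
    [IsNoetherianRing S] [IsNoetherianRing T] [IsNoetherianRing (S ⊗[k] T)] (hS : GeomP P k S) (hT : GeomP P k T) :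
    GeomP P k (S ⊗[k] T) := by
  intro k' _ _ hk
  haveI := hk
  haveI := isNoetherianRing_fieldBC k S k'
  haveI := isNoetherianRing_fieldBC k (S ⊗[k] T) k'
  let e : (k' ⊗[k] S) ⊗[k] T ≃+* k' ⊗[k] (S ⊗[k] T) := (Algebra.TensorProduct.assoc k k k k' S T).toRingEquiv
  haveI : IsNoetherianRing ((k' ⊗[k] S) ⊗[k] T) := isNoetherianRing_of_ringEquiv (k' ⊗[k] (S ⊗[k] T)) e.symm
  exact RingP.congr hP.toIsFlatLocalProp e (ringP_tensor hP (hS k' hk) hT.geomPI)

theorem skLoc_of_artinian (n : ℕ) (R : Type u) [CommRing R] [IsArtinianRing R] : RingP (SkLoc n) R := fun q _ ↦ by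
  haveI : IsArtinianRing (Localization.AtPrime q) :=
    Function.Surjective.isArtinianRing (f := algebraMap R (Localization.AtPrime q))
      (IsArtinianRing.localization_surjective q.primeCompl _)
  refine ⟨inferInstance, inferInstance, ?_⟩
  refine (min_le_right _ _).trans ?_
  rw [le_antisymm (by exact_mod_cast Ring.krullDimLE_iff.mp (inferInstance : Ring.KrullDimLE 0 (Localization.AtPrime q)))
    ringKrullDim_nonneg_of_nontrivial]
  exact WithBot.coe_le_coe.2 zero_le

/-- `(S_n)` is geometric over a field. -/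
theorem geomPI_skLoc {k : Type u} [Field k] {T : Type u} [CommRing T] [Algebra k T] [IsNoetherianRing T] (n : ℕ)
    (hT : RingP (SkLoc n) T) : GeomPI (SkLoc n) k T := by
  intro k' _ _ hk _
  haveI := hk
  haveI : IsNoetherianRing (T ⊗[k] k') := IsNoetherianRing.of_finite T _
  refine RingP.congr (isFlatLocalProp_skLoc n) (R := T ⊗[k] k') (Algebra.TensorProduct.comm k T k').toRingEquiv
    (RingP.asc (isFlatLocalProp_skLoc n) T (T ⊗[k] k') hT fun p _ ↦ ?_)
  haveI : IsArtinianRing (p.ResidueField ⊗[k] k') := IsArtinianRing.of_finite p.ResidueField _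
  exact RingP.congr (isFlatLocalProp_skLoc n) (R := p.ResidueField ⊗[k] k')
    (Algebra.TensorProduct.cancelBaseChange k T T p.ResidueField k').toRingEquiv.symm (skLoc_of_artinian n _)

include hP in
/-- The local rings of fibres with the property. -/
theorem fibLocRing_of_fiber (A B : Type u) [CommRing A] [CommRing B] [Algebra A B] (q : Ideal B) [q.IsPrime]
    (h : RingP P ((q.comap (algebraMap A B)).Fiber B)) : P (EGA4.FibLocRing A B q) := by
  obtain ⟨Q, hQ, hQq⟩ := CMFlatLib.exists_fibre_point (R := A) (B := B) ⟨q, inferInstance⟩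
  obtain ⟨θ, -⟩ := CMFlatLib.exists_fibreLocal_equiv (q.comap (algebraMap A B)) Q q hQq
  exact hP.congr _ _ θ.symm (h Q)

include hP in
theorem fibLocRing_separable (k S K : Type u) [Field k] [CommRing S] [Algebra k S] [Field K] [Algebra k K]
    [Algebra.IsGeometricallyReduced k K] [IsNoetherianRing (S ⊗[k] K)] (q : Ideal (S ⊗[k] K)) [q.IsPrime] :
    P (EGA4.FibLocRing S (S ⊗[k] K) q) := by
  let p := q.comap (algebraMap S (S ⊗[k] K))
  haveI := isNoetherianRing_fiber S (S ⊗[k] K) p
  let e := (Algebra.TensorProduct.cancelBaseChange k S S p.ResidueField K).toRingEquiv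
  haveI : IsNoetherianRing (p.ResidueField ⊗[k] K) := isNoetherianRing_of_ringEquiv (p.Fiber (S ⊗[k] K)) e
  haveI := isRegularRing_bc_separable k p.ResidueField K
  exact fibLocRing_of_fiber hP S (S ⊗[k] K) q
    (RingP.congr hP.toIsFlatLocalProp (R := p.ResidueField ⊗[k] K) e.symm (ringP_of_regular hP _))

variable {A B A' B' : Type u} [CommRing A] [CommRing A'] [CommRing B] [CommRing B'] [Algebra A A'] [Algebra A B]
  [Algebra A' B'] (e : A' ⊗[A] B ≃ₐ[A'] B') (p : Ideal A) [p.IsPrime] (p' : Ideal A') [p'.IsPrime]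

include hP e in
/-- Geometric fibre properties are stable under base change. -/
theorem geomP_fiber_baseChange [IsNoetherianRing B] [IsNoetherianRing B'] (hp : p = p'.comap (algebraMap A A'))
    (h : GeomP P p.ResidueField (p.Fiber B)) : GeomP P p'.ResidueField (p'.Fiber B') := by
  intro L _ _ hL
  haveI := hL
  letI : Algebra p.ResidueField L := ((algebraMap p'.ResidueField L).comp (resMap p p' hp)).toAlgebra
  haveI := isNoetherianRing_fiber A B p
  haveI := isNoetherianRing_fiber A' B' p'
  haveI := isNoetherianRing_finite_bc p'.ResidueField L (p'.Fiber B')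
  let f := fiberEquiv e p p' hp L rfl
  haveI : IsNoetherianRing (L ⊗[p.ResidueField] (p.Fiber B)) :=
    isNoetherianRing_of_ringEquiv (L ⊗[p'.ResidueField] (p'.Fiber B')) f
  exact RingP.congr hP.toIsFlatLocalProp (R := L ⊗[p.ResidueField] (p.Fiber B)) f.symm (h.geomPI.ringP_noetherian hP L)

include hP e in
/-- Geometric fibre properties descend under base change. -/
theorem geomP_fiber_of_baseChange [IsNoetherianRing B] [IsNoetherianRing B'] (hp : p = p'.comap (algebraMap A A'))
    (h : GeomP P p'.ResidueField (p'.Fiber B')) : GeomP P p.ResidueField (p.Fiber B) := by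
  intro k' _ _ hk
  haveI := hk
  letI : Algebra p.ResidueField p'.ResidueField := (resMap p p' hp).toAlgebra
  obtain ⟨L, _, _, _, _, hKL, _, hL⟩ := exists_compositum p.ResidueField p'.ResidueField k'
  haveI := hL
  haveI := hKL
  haveI := isNoetherianRing_fiber A B p
  haveI := isNoetherianRing_fiber A' B' p'
  haveI := isNoetherianRing_finite_bc p.ResidueField k' (p.Fiber B)
  haveI := isNoetherianRing_finite_bc p'.ResidueField L (p'.Fiber B')
  let f := fiberEquiv e p p' hp L (IsScalarTower.algebraMap_eq p.ResidueField p'.ResidueField L)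
  haveI : IsNoetherianRing (L ⊗[p.ResidueField] (p.Fiber B)) :=
    isNoetherianRing_of_ringEquiv (L ⊗[p'.ResidueField] (p'.Fiber B')) f
  let g : (k' ⊗[p.ResidueField] (p.Fiber B)) ⊗[k'] L ≃+* L ⊗[p.ResidueField] (p.Fiber B) :=
    (Algebra.TensorProduct.comm k' (k' ⊗[p.ResidueField] (p.Fiber B)) L).toRingEquiv.trans
      (Algebra.TensorProduct.cancelBaseChange p.ResidueField k' k' L (p.Fiber B)).toRingEquiv
  haveI : IsNoetherianRing ((k' ⊗[p.ResidueField] (p.Fiber B)) ⊗[k'] L) :=
    isNoetherianRing_of_ringEquiv (L ⊗[p.ResidueField] (p.Fiber B)) g.symm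
  exact ringP_field_desc hP k' L _ (RingP.congr hP.toIsFlatLocalProp (R := L ⊗[p.ResidueField] (p.Fiber B)) g.symm
    (RingP.congr hP.toIsFlatLocalProp (R := L ⊗[p'.ResidueField] (p'.Fiber B')) f (h L hL)))

end

end GeomRedFibLib
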