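import Groth.Agent.GeomRedFibLib.LocalPropInst
import Groth.Agent.DepthLib.GeomNormal
import Groth.Agent.DepthLib.FlatDepth
import Groth.Agent.HenselDesc.Local
import Groth.Agent.CatLib.Flat
import Groth.Agent.LocCohLib.NonVanishingApp
import Groth.Prelude.Def_EGA4b

/-!
# Serre's conditions and normality as flat-local properties
-/

set_option autoImplicit false
set_option synthInstance.maxHeartbeats 100000

universe u

open TensorProduct IsLocalRing

namespace GeomRedFibLib

noncomputable section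

/-- The depth inequality of `(S_n)` at the closed point. -/
def SkLoc (n : ℕ) (R : Type u) [CommRing R] : Prop :=
  ∃ (_ : IsLocalRing R) (_ : IsNoetherianRing R), min (n : WithBot ℕ∞) (ringKrullDim R) ≤ ((LocCoh.depth R R : ℕ∞) : WithBot ℕ∞)

/-- The condition `(R_k)` at the closed point. -/
def RkLoc (k : ℕ) (R : Type u) [CommRing R] : Prop :=
  ringKrullDim R ≤ ((k : ℕ∞) : WithBot ℕ∞) → IsRegularLocalRing R

theorem depth_le_of_fib_dim_zero (A B : Type u) [CommRing A] [IsLocalRing A] [IsNoetherianRing A] [CommRing B]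
    [IsLocalRing B] [IsNoetherianRing B] [Algebra A B] [IsLocalHom (algebraMap A B)] [Module.Flat A B]
    (h0 : ringKrullDim (B ⧸ (maximalIdeal A).map (algebraMap A B)) = 0) :
    LocCoh.depth B B ≤ LocCoh.depth A A := by
  haveI : Module.FaithfullyFlat A B := Module.FaithfullyFlat.of_flat_of_isLocalHom
  let J := (maximalIdeal A).map (algebraMap A B)
  have hJ : LocCoh.idealDepth J B = LocCoh.depth A A := by
    rw [← CommAlgDim.idealDepth_congr J (Algebra.TensorProduct.rid A B B).toLinearEquiv]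
    exact LocCohLib.idealDepth_baseChange_eq (B := B) (maximalIdeal A) A
  refine ENat.forall_natCast_le_iff_le.mp fun n hn ↦ ?_
  rw [← hJ, CommAlgDim.le_idealDepth_iff]
  refine CommAlgDim.hasSeqIn_of_forall_localization n B fun p _ hp ↦ ?_
  have hpm : p = maximalIdeal B := by
    haveI : Ring.KrullDimLE 0 (B ⧸ J) := Ring.krullDimLE_iff.mpr h0.le
    haveI : (p.map (Ideal.Quotient.mk J)).IsPrime :=
      Ideal.map_isPrime_of_surjective Ideal.Quotient.mk_surjective (by rwa [Ideal.mk_ker])
    have h1 : (p.map (Ideal.Quotient.mk J)).IsMaximal := Ideal.IsPrime.isMaximal' inferInstance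
    have h2 := Ideal.comap_isMaximal_of_surjective (Ideal.Quotient.mk J) Ideal.Quotient.mk_surjective (K := p.map (Ideal.Quotient.mk J))
    rw [Ideal.comap_map_mk hp] at h2
    exact IsLocalRing.eq_maximalIdeal h2
  subst hpm
  exact ((CommAlgDim.le_depth_iff n).mp hn).localization le_rfl

theorem ringKrullDim_eq_of_fib_dim_zero (A B : Type u) [CommRing A] [IsLocalRing A] [IsNoetherianRing A] [CommRing B]
    [IsLocalRing B] [IsNoetherianRing B] [Algebra A B] [IsLocalHom (algebraMap A B)] [Module.Flat A B]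
    (h0 : ringKrullDim (B ⧸ (maximalIdeal A).map (algebraMap A B)) = 0) : ringKrullDim B = ringKrullDim A := by
  rw [CatLib.ringKrullDim_eq_add_of_flat (A := A) (B := B), h0, add_zero]

theorem skLoc_asc (n : ℕ) (A B : Type u) [CommRing A] [IsLocalRing A] [IsNoetherianRing A] [CommRing B]
    [IsLocalRing B] [IsNoetherianRing B] [Algebra A B] [IsLocalHom (algebraMap A B)] [Module.Flat A B]
    (hA : SkLoc n A) (hF : SkLoc n (B ⧸ (maximalIdeal A).map (algebraMap A B))) : SkLoc n B := by
  obtain ⟨_, _, hA⟩ := hA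
  obtain ⟨_, _, hF⟩ := hF
  obtain ⟨d, hd⟩ := CommAlgDim.exists_ringKrullDim_eq (R := A)
  obtain ⟨c, hc⟩ := CommAlgDim.exists_ringKrullDim_eq (R := GorLib.Fib A B)
  refine ⟨inferInstance, inferInstance, ?_⟩
  have hB : ringKrullDim B = ((d + c : ℕ) : WithBot ℕ∞) := by
    rw [CatLib.ringKrullDim_eq_add_of_flat (A := A) (B := B), hd,
      show ringKrullDim (B ⧸ (maximalIdeal A).map (algebraMap A B)) = _ from hc, Nat.cast_add]
  rw [show ringKrullDim (B ⧸ (maximalIdeal A).map (algebraMap A B)) = _ from hc] at hF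
  rw [hd] at hA
  have e : ∀ m : ℕ, min (n : WithBot ℕ∞) (m : WithBot ℕ∞) = (((min n m : ℕ) : ℕ∞) : WithBot ℕ∞) := fun m ↦ by
    rcases le_total n m with h | h
    · rw [min_eq_left h, min_eq_left (Nat.cast_le.2 h)]; rfl
    · rw [min_eq_right h, min_eq_right (Nat.cast_le.2 h)]; rfl
  rw [e] at hA hF
  rw [hB, e]
  refine le_trans ?_ (WithBot.coe_le_coe.2
    (DepthLib.add_le_depth A B (WithBot.coe_le_coe.1 hA) (WithBot.coe_le_coe.1 hF)))
  exact WithBot.coe_le_coe.2 (Nat.cast_le.2 (by omega))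

theorem isFlatLocalProp_skLoc (n : ℕ) : IsFlatLocalProp (SkLoc.{u} n) where
  congr R S _ _ e h := by
    obtain ⟨_, _, h⟩ := h
    haveI : IsLocalRing S := e.isLocalRing
    haveI : IsNoetherianRing S := isNoetherianRing_of_ringEquiv R e
    refine ⟨inferInstance, inferInstance, ?_⟩
    rwa [← ringKrullDim_eq_of_ringEquiv e, ← DepthLib.depth_congr_ringEquiv e]
  asc A B _ _ _ _ _ _ _ _ _ hA hF := skLoc_asc n A B hA hF
  desc A B _ _ _ _ _ _ _ _ _ h0 hB := by
    obtain ⟨_, _, hB⟩ := hB
    refine ⟨inferInstance, inferInstance, ?_⟩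
    rw [← ringKrullDim_eq_of_fib_dim_zero A B h0]
    exact hB.trans (WithBot.coe_le_coe.2 (depth_le_of_fib_dim_zero A B h0))

theorem isFlatLocalProp_rkLoc (k : ℕ) : IsFlatLocalProp (RkLoc.{u} k) where
  congr R S _ _ e h hd := by
    haveI := h ((ringKrullDim_eq_of_ringEquiv e).le.trans hd)
    exact IsRegularLocalRing.of_ringEquiv e
  asc A B _ _ _ _ _ _ _ _ _ hA hF hd := by
    have h := CatLib.ringKrullDim_eq_add_of_flat (A := A) (B := B)
    haveI hne : Nontrivial (B ⧸ (maximalIdeal A).map (algebraMap A B)) :=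
      Ideal.Quotient.nontrivial_iff.mpr (ne_top_of_le_ne_top (maximalIdeal.isMaximal B).ne_top
        (Ideal.map_le_iff_le_comap.mpr fun x hx ↦ by simpa using hx))
    refine isFlatLocalProp_regular.asc A B (hA (le_trans ?_ hd)) (hF (le_trans ?_ hd))
    · rw [h]; exact le_add_of_nonneg_right ringKrullDim_nonneg_of_nontrivial
    · rw [h]; exact le_add_of_nonneg_left ringKrullDim_nonneg_of_nontrivial
  desc A B _ _ _ _ _ _ _ _ _ h0 hB hd :=
    isFlatLocalProp_regular.desc A B h0 (hB ((ringKrullDim_eq_of_fib_dim_zero A B h0).le.trans hd))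

theorem hasSk_iff (n : ℕ) (R : Type u) [CommRing R] [IsNoetherianRing R] :
    LocCoh.HasSk n R R ↔ RingP (SkLoc n) R := by
  refine ⟨fun h q _ ↦ ⟨inferInstance, inferInstance, ?_⟩, fun h q _ ↦ ?_⟩
  · have := h q
    rwa [(HenselDesc.localized_self q).1, (HenselDesc.localized_self q).2] at this
  · obtain ⟨_, _, h⟩ := h q
    rwa [(HenselDesc.localized_self q).1, (HenselDesc.localized_self q).2]

theorem hasRk_iff (k : ℕ) (R : Type u) [CommRing R] [IsNoetherianRing R] :
    LocCoh.HasRk k R ↔ RingP (RkLoc k) R := by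
  refine ⟨fun h q _ hd ↦ h q ?_, fun h q _ hd ↦ h q ?_⟩
  · rw [IsLocalization.AtPrime.ringKrullDim_eq_height q (Localization.AtPrime q)] at hd
    exact_mod_cast hd
  · rw [IsLocalization.AtPrime.ringKrullDim_eq_height q (Localization.AtPrime q)]
    exact_mod_cast hd

/-- Serre's criterion. -/
theorem isNormalRing_iff (R : Type u) [CommRing R] [IsNoetherianRing R] :
    EGA4.IsNormalRing R ↔ RingP (RkLoc 1) R ∧ RingP (SkLoc 2) R := by
  constructor
  · intro h
    refine ⟨fun q _ ↦ ?_, fun q _ ↦ ?_⟩ <;>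
    · obtain ⟨h1, h2⟩ := (DepthLib.normal_iff_r1_s2 (Localization.AtPrime q)).mp (h q)
      rw [hasRk_iff] at h1
      rw [hasSk_iff] at h2
      let e := (IsLocalization.atUnits (Localization.AtPrime q) (maximalIdeal (Localization.AtPrime q)).primeCompl
        (S := Localization.AtPrime (maximalIdeal (Localization.AtPrime q))) (fun x hx ↦ by simpa [IsUnit.mem_submonoid_iff] using hx)).symm.toRingEquiv
      first
        | exact (isFlatLocalProp_rkLoc 1).congr _ _ e (h1 _)
        | exact (isFlatLocalProp_skLoc 2).congr _ _ e (h2 _)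
  · intro ⟨h1, h2⟩ q _
    refine (DepthLib.normal_iff_r1_s2 (Localization.AtPrime q)).mpr ⟨?_, ?_⟩
    · rw [hasRk_iff]
      intro Q _
      exact (isFlatLocalProp_rkLoc 1).congr _ _
        (IsLocalization.localizationLocalizationAtPrimeIsoLocalization q.primeCompl Q).toRingEquiv (h1 _)
    · rw [hasSk_iff]
      intro Q _
      exact (isFlatLocalProp_skLoc 2).congr _ _
        (IsLocalization.localizationLocalizationAtPrimeIsoLocalization q.primeCompl Q).toRingEquiv (h2 _)

end

end GeomRedFibLib
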