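import Groth.Agent.GeomRedFibLib.GeomApps
import Groth.Agent.GeomRedFibLib.CplFibres
import Groth.Agent.GeomRedFibLib.CplQuot
import Groth.Agent.CatLib.Completion
import Groth.Agent.CatLib.Univ
import Groth.Agent.SMTLib.CMQuot
import Groth.Agent.CMFlatLib.Fibre
import Mathlib.RingTheory.EssentialFiniteness
import Mathlib.RingTheory.TensorProduct.MvPolynomial
import Mathlib.RingTheory.Flat.FaithfullyFlat.Algebra

/-!
# Cohen–Macaulay formal fibres of algebras essentially of finite type
-/

set_option autoImplicit false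
set_option synthInstance.maxHeartbeats 400000
set_option maxHeartbeats 800000

universe u

open TensorProduct IsLocalRing CommAlgDim

namespace GeomRedFibLib

noncomputable section

/-- The fibre local rings determine the fibre. -/
theorem ringP_fiber_of_fibLocRing {P : ∀ (R : Type u) [CommRing R], Prop}
    (hP : ∀ (R S : Type u) [CommRing R] [CommRing S], (R ≃+* S) → P R → P S)
    (A B : Type u) [CommRing A] [CommRing B] [Algebra A B] (p : Ideal A) [p.IsPrime]
    (h : ∀ (q : Ideal B) [q.IsPrime], q.comap (algebraMap A B) = p → P (EGA4.FibLocRing A B q)) :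
    RingP P (p.Fiber B) := by
  intro Q _
  let q := Q.comap (Algebra.TensorProduct.includeRight : B →ₐ[A] p.Fiber B).toRingHom
  obtain ⟨θ, -⟩ := CMFlatLib.exists_fibreLocal_equiv p Q q rfl
  have hqp : q.comap (algebraMap A B) = p := by
    rw [Ideal.comap_comap, show (Algebra.TensorProduct.includeRight : B →ₐ[A] p.Fiber B).toRingHom.comp (algebraMap A B) =
      (algebraMap p.ResidueField (p.Fiber B)).comp (algebraMap A p.ResidueField) from
        RingHom.ext fun a ↦ ((Algebra.TensorProduct.includeRight : B →ₐ[A] p.Fiber B).commutes a).trans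
          (IsScalarTower.algebraMap_apply A p.ResidueField (p.Fiber B) a), ← Ideal.comap_comap]
    rw [show Q.comap (algebraMap p.ResidueField (p.Fiber B)) = ⊥ from
      (Ideal.eq_bot_or_top _).resolve_right (Ideal.IsPrime.ne_top inferInstance)]
    exact Ideal.ext fun a ↦ by simp [Ideal.algebraMap_residueField_eq_zero]
  exact hP _ _ θ (hP _ _ (Ideal.quotEquivOfEq (by rw [hqp])) (h q hqp))

/-- The fibres of a flat map into a Cohen–Macaulay local ring are Cohen–Macaulay. -/
theorem cm_fibLocRing (A B : Type u) [CommRing A] [IsNoetherianRing A] [CommRing B] [IsNoetherianRing B] [Algebra A B]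
    [Module.Flat A B] (q : Ideal B) [q.IsPrime] (h : IsCM (Localization.AtPrime q)) : CMLoc (EGA4.FibLocRing A B q) := by
  let p := q.comap (algebraMap A B)
  haveI : q.LiesOver p := ⟨rfl⟩
  letI := Localization.AtPrime.algebraOfLiesOver p q
  haveI : IsLocalHom (algebraMap (Localization.AtPrime p) (Localization.AtPrime q)) :=
    inferInstanceAs (IsLocalHom (Localization.localRingHom p q (algebraMap A B) rfl))
  haveI : Module.Flat (Localization.AtPrime p) (Localization.AtPrime q) :=
    RingHom.flat_algebraMap_iff.mp <| RingHom.Flat.localRingHom (RingHom.flat_algebraMap_iff.mpr inferInstance) ..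
  haveI : IsLocalRing (GorLib.Fib (Localization.AtPrime p) (Localization.AtPrime q)) :=
    GorLib.isLocalRing_quotient (GorLib.map_maximalIdeal_ne_top _ _)
  have hF : CMLoc (GorLib.Fib (Localization.AtPrime p) (Localization.AtPrime q)) :=
    SMTLib.isCohenMacaulayLocalRing_of_isCM _
      ((CMFlatLib.isCM_flat_iff (Localization.AtPrime p) (Localization.AtPrime q)).mp h).2
  refine isFlatLocalProp_cm.congr _ _ (Ideal.quotEquivOfEq ?_) hF
  rw [← IsLocalization.AtPrime.map_eq_maximalIdeal p (Localization.AtPrime p), Ideal.map_map,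
    ← IsScalarTower.algebraMap_eq]

/-- The formal fibres of a Cohen–Macaulay local ring are Cohen–Macaulay. -/
theorem hasCMFormalFibres_of_isCM (R : Type u) [CommRing R] [IsLocalRing R] [IsNoetherianRing R] (hR : IsCM R) :
    EGA4.HasCMFormalFibres R := by
  haveI := isNoetherianRing_cpl R
  have h := CatLib.isCM_cpl hR
  intro p _
  haveI := isNoetherianRing_fiber R (EGA4.Cpl R) p
  rw [isCohenMacaulayRing_iff]
  exact ringP_fiber_of_fibLocRing isFlatLocalProp_cm.congr R (EGA4.Cpl R) p fun q _ _ ↦
    cm_fibLocRing R (EGA4.Cpl R) q (CatLib.isCM_localization h q)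

/-- Cohen–Macaulay formal fibres pass to a homomorphic image. -/
theorem hasCMFormalFibres_of_surjective (R S : Type u) [CommRing R] [IsLocalRing R] [IsNoetherianRing R] [CommRing S]
    [IsLocalRing S] [Algebra R S] (hs : Function.Surjective (algebraMap R S)) (hR : EGA4.HasCMFormalFibres R) :
    EGA4.HasCMFormalFibres S := by
  obtain ⟨e⟩ := exists_cplSurjEquiv R S hs
  exact fun p' _ ↦ fiber_baseChange e _ p' (fun T _ ↦ LocCoh.IsCohenMacaulayRing T)
    (fun _ _ _ _ σ h ↦ SMTLib.isCohenMacaulayRing_of_ringEquiv σ h)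
    (RingHom.surjectiveOnStalks_of_surjective hs) rfl (hR (p'.comap (algebraMap R S)))

theorem cmLoc_of_artinian (R : Type u) [CommRing R] [IsArtinianRing R] [IsLocalRing R] : CMLoc R :=
  SMTLib.isCohenMacaulayLocalRing_of_isCM _ ⟨[], ⟨RingTheory.Sequence.IsWeaklyRegular.nil R R, by simp⟩,
    le_antisymm (by exact_mod_cast Ring.krullDimLE_iff.mp (inferInstance : Ring.KrullDimLE 0 R))
      ringKrullDim_nonneg_of_nontrivial⟩

/-- The Cohen–Macaulay property is geometric over a field. -/
theorem geomP_cm {k : Type u} [Field k] {T : Type u} [CommRing T] [Algebra k T] [IsNoetherianRing T]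
    (hT : RingP CMLoc T) : GeomP CMLoc k T := by
  intro k' _ _ hk
  haveI := hk
  haveI : IsNoetherianRing (T ⊗[k] k') := IsNoetherianRing.of_finite T _
  refine RingP.congr isFlatLocalProp_cm (R := T ⊗[k] k') (Algebra.TensorProduct.comm k T k').toRingEquiv
    (RingP.asc isFlatLocalProp_cm T (T ⊗[k] k') hT fun p _ ↦ ?_)
  haveI : IsArtinianRing (p.ResidueField ⊗[k] k') := IsArtinianRing.of_finite p.ResidueField _
  refine RingP.congr isFlatLocalProp_cm (R := p.ResidueField ⊗[k] k')
    (Algebra.TensorProduct.cancelBaseChange k T T p.ResidueField k').toRingEquiv.symm fun q _ ↦ ?_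
  haveI : IsArtinianRing (Localization.AtPrime q) :=
    Function.Surjective.isArtinianRing (f := algebraMap (p.ResidueField ⊗[k] k') (Localization.AtPrime q))
      (IsArtinianRing.localization_surjective q.primeCompl _)
  exact cmLoc_of_artinian _

attribute [local instance] MvPolynomial.algebraMvPolynomial

/-- The completion of the coefficients of a polynomial ring over a local ring with Cohen–Macaulay formal fibres. -/
theorem cm_fibLocRing_mvPolynomial (A : Type u) [CommRing A] [IsNoetherianRing A] [IsLocalRing A]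
    (hA : EGA4.HasCMFormalFibres A) (n : ℕ) (q : Ideal (MvPolynomial (Fin n) (EGA4.Cpl A))) [q.IsPrime] :
    CMLoc (EGA4.FibLocRing (MvPolynomial (Fin n) A) (MvPolynomial (Fin n) (EGA4.Cpl A)) q) := by
  haveI := isNoetherianRing_cpl A
  let X := MvPolynomial (Fin n) A
  let Y := MvPolynomial (Fin n) (EGA4.Cpl A)
  let p' := q.comap (algebraMap X Y)
  let p := p'.comap (algebraMap A X)
  let e : X ⊗[A] EGA4.Cpl A ≃ₐ[X] Y := (Algebra.IsPushout.equiv A X (EGA4.Cpl A) Y)
  haveI := isNoetherianRing_fiber A (EGA4.Cpl A) p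
  haveI := isNoetherianRing_fiber X Y p'
  have h := geomP_fiber_baseChange isGeomProp_cm e p p' rfl
    (geomP_cm ((isCohenMacaulayRing_iff _).mp (hA p))) p'.ResidueField inferInstance
  exact fibLocRing_of_fiber isGeomProp_cm X Y q
    (RingP.congr isFlatLocalProp_cm (R := p'.ResidueField ⊗[p'.ResidueField] p'.Fiber Y)
      (Algebra.TensorProduct.lid p'.ResidueField (p'.Fiber Y)).toRingEquiv h)

theorem faithfullyFlat_mvPolynomial (A : Type u) [CommRing A] [IsNoetherianRing A] [IsLocalRing A] (n : ℕ) :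
    Module.FaithfullyFlat (MvPolynomial (Fin n) A) (MvPolynomial (Fin n) (EGA4.Cpl A)) := by
  haveI : Module.FaithfullyFlat A (EGA4.Cpl A) := faithfullyFlat_hat A
  exact Module.FaithfullyFlat.of_linearEquiv _ _
    (Algebra.IsPushout.equiv A (MvPolynomial (Fin n) A) (EGA4.Cpl A) (MvPolynomial (Fin n) (EGA4.Cpl A))).symm.toLinearEquiv

theorem fibLocRing_localized (X Y : Type u) [CommRing X] [CommRing Y] [Algebra X Y] (P₀ : Ideal X) [P₀.IsPrime]
    (Q₀ : Ideal Y) [Q₀.IsPrime] [Algebra (Localization.AtPrime P₀) (Localization.AtPrime Q₀)]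
    [IsScalarTower X (Localization.AtPrime P₀) (Localization.AtPrime Q₀)]
    (q : Ideal (Localization.AtPrime Q₀)) [q.IsPrime]
    (h : CMLoc (EGA4.FibLocRing X Y (q.comap (algebraMap Y (Localization.AtPrime Q₀))))) :
    CMLoc (EGA4.FibLocRing (Localization.AtPrime P₀) (Localization.AtPrime Q₀) q) := by
  let q₀ := q.comap (algebraMap Y (Localization.AtPrime Q₀))
  let e := IsLocalization.localizationLocalizationAtPrimeIsoLocalization Q₀.primeCompl q
  refine isFlatLocalProp_cm.congr _ _ (Ideal.quotientEquiv _ _ e.toRingEquiv ?_) h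
  let p := q.comap (algebraMap (Localization.AtPrime P₀) (Localization.AtPrime Q₀))
  have hp : (p.comap (algebraMap X (Localization.AtPrime P₀))).map (algebraMap X (Localization.AtPrime P₀)) = p :=
    IsLocalization.map_under P₀.primeCompl _ p
  have hp0 : q₀.comap (algebraMap X Y) = p.comap (algebraMap X (Localization.AtPrime P₀)) := by
    rw [Ideal.comap_comap, Ideal.comap_comap, ← IsScalarTower.algebraMap_eq, ← IsScalarTower.algebraMap_eq]
  show (p.map _) = ((q₀.comap (algebraMap X Y)).map _).map _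
  rw [hp0]
  conv_lhs => rw [← hp]
  rw [Ideal.map_map, Ideal.map_map]
  congr 1
  refine RingHom.ext fun x ↦ ?_
  show algebraMap (Localization.AtPrime P₀) (Localization.AtPrime q) (algebraMap X _ x) =
    e (algebraMap X (Localization.AtPrime q₀) x)
  rw [← IsScalarTower.algebraMap_apply, IsScalarTower.algebraMap_apply X Y (Localization.AtPrime q₀),
    IsScalarTower.algebraMap_apply X Y (Localization.AtPrime q)]
  exact (e.commutes _).symm

/-- Local rings of polynomial rings inherit Cohen–Macaulay formal fibres. -/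
theorem hasCMFormalFibres_polynomial (A : Type u) [CommRing A] [IsNoetherianRing A] [IsLocalRing A]
    (hA : EGA4.HasCMFormalFibres A) (n : ℕ) (P₀ : Ideal (MvPolynomial (Fin n) A)) [P₀.IsPrime] :
    EGA4.HasCMFormalFibres (Localization.AtPrime P₀) := by
  haveI := isNoetherianRing_cpl A
  let X := MvPolynomial (Fin n) A
  let Y := MvPolynomial (Fin n) (EGA4.Cpl A)
  haveI := faithfullyFlat_mvPolynomial A n
  obtain ⟨⟨Q₀, hQ₀⟩, hQP⟩ := PrimeSpectrum.comap_surjective_of_faithfullyFlat (A := X) (B := Y) ⟨P₀, inferInstance⟩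
  haveI := hQ₀
  have hQP' : P₀ = Q₀.comap (algebraMap X Y) := (congrArg PrimeSpectrum.asIdeal hQP).symm
  haveI : Q₀.LiesOver P₀ := ⟨hQP'⟩
  let B₀ := Localization.AtPrime P₀
  let C := Localization.AtPrime Q₀
  letI := Localization.AtPrime.algebraOfLiesOver P₀ Q₀
  haveI : IsLocalHom (algebraMap B₀ C) :=
    inferInstanceAs (IsLocalHom (Localization.localRingHom P₀ Q₀ (algebraMap X Y) _))
  haveI : Module.Flat B₀ C :=
    RingHom.flat_algebraMap_iff.mp <| RingHom.Flat.localRingHom (RingHom.flat_algebraMap_iff.mpr inferInstance) ..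
  -- the completion of the larger ring
  have hC : EGA4.HasCMFormalFibres C := by
    haveI : IsAdicComplete (maximalIdeal (EGA4.Cpl A)) (EGA4.Cpl A) := by
      rw [AdicCompletion.maximalIdeal_eq_map]
      exact AdicRingLib.isAdicComplete_map (C := A) (K := maximalIdeal A) (IsNoetherian.noetherian _)
    obtain ⟨R, _, _, _, f, hR, hf⟩ := CatLib.exists_cm_surjective (EGA4.Cpl A)
    let F := MvPolynomial.map (σ := Fin n) f
    let P₁ := Q₀.comap F
    haveI : P₁.IsPrime := Ideal.IsPrime.comap _
    letI := (Localization.localRingHom P₁ Q₀ F rfl).toAlgebra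
    have hs : Function.Surjective (algebraMap (Localization.AtPrime P₁) C) :=
      RingHom.surjectiveOnStalks_of_surjective (MvPolynomial.map_surjective f hf) Q₀ inferInstance
    refine hasCMFormalFibres_of_surjective _ _ hs (hasCMFormalFibres_of_isCM _ ?_)
    have h := (CatLib.isCMRing_iff (R := MvPolynomial (Fin n) R)).mp (CatLib.isCMRing_mvPolynomial (CatLib.isCMRing_of_isCM hR) n)
    haveI := h.isCohenMacaulayLocalRing_localization P₁
    exact SMTLib.isCM_of_isCohenMacaulayLocalRing _
  obtain ⟨_, _, _⟩ := exists_cplTower B₀ C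
  haveI := isNoetherianRing_cpl B₀
  haveI := isNoetherianRing_cpl C
  haveI := faithfullyFlat_hat C
  intro p _
  haveI := isNoetherianRing_fiber B₀ (EGA4.Cpl B₀) p
  rw [isCohenMacaulayRing_iff]
  refine fibreRingP_cancel isFlatLocalProp_cm B₀ (EGA4.Cpl B₀) (EGA4.Cpl C) p ?_
  haveI := isNoetherianRing_fiber B₀ C p
  refine fibreRingP_comp isFlatLocalProp_cm B₀ C (EGA4.Cpl C) p
    (fun q _ ↦ by
      haveI := isNoetherianRing_fiber C (EGA4.Cpl C) q
      exact (isCohenMacaulayRing_iff _).mp (hC q)) ?_
  exact ringP_fiber_of_fibLocRing isFlatLocalProp_cm.congr B₀ C p fun q _ _ ↦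
    fibLocRing_localized X Y P₀ Q₀ q (cm_fibLocRing_mvPolynomial A hA n _)

theorem exists_surjective_localization (A B : Type u) [CommRing A] [CommRing B] [IsLocalRing B] [Algebra A B]
    [Algebra.EssFiniteType A B] :
    ∃ (n : ℕ) (P₀ : Ideal (MvPolynomial (Fin n) A)) (_ : P₀.IsPrime) (φ : Localization.AtPrime P₀ →+* B),
      Function.Surjective φ := by
  classical
  let s := Algebra.EssFiniteType.finset A B
  let x : Fin s.card → B := fun i ↦ (s.equivFin.symm i : B)
  let π : MvPolynomial (Fin s.card) A →ₐ[A] B := MvPolynomial.aeval x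
  have hrange : Algebra.EssFiniteType.subalgebra A B ≤ π.range := Algebra.adjoin_le fun b hb ↦
    ⟨MvPolynomial.X (s.equivFin ⟨b, hb⟩), by simp [π, x]⟩
  let P₀ := (maximalIdeal B).comap π.toRingHom
  haveI : P₀.IsPrime := Ideal.IsPrime.comap _
  have hu : ∀ g : P₀.primeCompl, IsUnit (π g) := fun g ↦ notMem_maximalIdeal.mp g.2
  refine ⟨s.card, P₀, inferInstance, IsLocalization.lift (M := P₀.primeCompl) (g := π.toRingHom) hu, fun b ↦ ?_⟩
  obtain ⟨⟨⟨c, hc⟩, ⟨t, ht⟩, ht'⟩, hbt⟩ :=
    IsLocalization.surj (Algebra.EssFiniteType.submonoid A B) b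
  obtain ⟨c', hc'⟩ := hrange hc
  obtain ⟨t', ht''⟩ := hrange ht
  refine ⟨IsLocalization.mk' _ c' (⟨t', fun h ↦ ?_⟩ : P₀.primeCompl), ?_⟩
  · exact h (by show IsUnit (π t'); rw [show π t' = t from ht'']; exact ht')
  · rw [IsLocalization.lift_mk'_spec]
    show π c' = π t' * b
    rw [show π c' = c from hc', show π t' = t from ht'', mul_comm]
    exact hbt.symm

end

end GeomRedFibLib
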