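import Groth.Agent.GeomRedFibLib.LocalPropInst
import Mathlib.RingTheory.Localization.BaseChange
import Mathlib.RingTheory.Localization.Integral
import Mathlib.RingTheory.Localization.LocalizationLocalization

/-!
# Generic local rings over finite domains
-/

set_option autoImplicit false
set_option synthInstance.maxHeartbeats 100000

universe u

open TensorProduct

namespace GeomRedFibLib

noncomputable section

variable {P : ∀ (R : Type u) [CommRing R], Prop} (hP : IsFlatLocalProp P)
  (A D : Type u) [CommRing A] [CommRing D] [Algebra A D]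

include hP in
/-- The generic fibre of `B → B ⊗ D` sees exactly the local rings at primes over `0`. -/
theorem ringP_fractionRing_iff (B : Type u) [CommRing B] [IsDomain B] [Algebra A B] (L : Type u) [Field L]
    [Algebra A L] [Algebra B L] [IsScalarTower A B L] [IsFractionRing B L] :
    RingP P (L ⊗[A] D) ↔ ∀ (q : Ideal (B ⊗[A] D)) [q.IsPrime],
      q.comap (algebraMap B (B ⊗[A] D)) = ⊥ → P (Localization.AtPrime q) := by
  letI : Algebra (B ⊗[A] D) (L ⊗[A] D) :=
    (Algebra.TensorProduct.map (Algebra.ofId B L) (AlgHom.id A D)).toAlgebra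
  haveI : IsScalarTower B (B ⊗[A] D) (L ⊗[A] D) := .of_algebraMap_eq fun b ↦
    ((Algebra.TensorProduct.map (Algebra.ofId B L) (AlgHom.id A D)).commutes b).symm
  let S := Algebra.algebraMapSubmonoid (B ⊗[A] D) (nonZeroDivisors B)
  haveI : IsLocalization S (L ⊗[A] D) := IsLocalization.tensorProduct_tensorProduct A D (nonZeroDivisors B) L
    (RingHom.ext fun d ↦ by simp [RingHom.algebraMap_toAlgebra])
  constructor
  · intro h q _ hq
    have hd : Disjoint (S : Set (B ⊗[A] D)) (q : Set (B ⊗[A] D)) := Set.disjoint_left.mpr fun x hx hxq ↦ by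
      obtain ⟨c, hc, rfl⟩ := hx
      have : c ∈ q.comap (algebraMap B (B ⊗[A] D)) := hxq
      rw [hq, Ideal.mem_bot] at this
      exact nonZeroDivisors.ne_zero hc this
    haveI : (q.map (algebraMap (B ⊗[A] D) (L ⊗[A] D))).IsPrime :=
      IsLocalization.isPrime_of_isPrime_disjoint S _ q ‹_› hd
    let Q := q.map (algebraMap (B ⊗[A] D) (L ⊗[A] D))
    have hQ : Q.comap (algebraMap (B ⊗[A] D) (L ⊗[A] D)) = q :=
      IsLocalization.under_map_of_isPrime_disjoint S (L ⊗[A] D) ‹_› hd
    haveI : IsLocalization.AtPrime (Localization.AtPrime Q) q := by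
      have h := IsLocalization.isLocalization_isLocalization_atPrime_isLocalization S
        (S := L ⊗[A] D) (Localization.AtPrime Q) Q
      simpa only [hQ] using h
    exact hP.congr _ _ (IsLocalization.algEquiv q.primeCompl (Localization.AtPrime q) (Localization.AtPrime Q)).toRingEquiv.symm
      (h Q)
  · intro h Q _
    have hq : (Q.comap (algebraMap (B ⊗[A] D) (L ⊗[A] D))).comap (algebraMap B (B ⊗[A] D)) = ⊥ := by
      rw [Ideal.comap_comap, ← IsScalarTower.algebraMap_eq, IsScalarTower.algebraMap_eq B L (L ⊗[A] D),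
        ← Ideal.comap_comap]
      rw [(Ideal.eq_bot_of_prime (Q.comap (algebraMap L (L ⊗[A] D)))), Ideal.comap_bot_of_injective _
        (IsFractionRing.injective B L)]
    haveI : IsLocalization.AtPrime (Localization.AtPrime Q) (Q.comap (algebraMap (B ⊗[A] D) (L ⊗[A] D))) :=
      IsLocalization.isLocalization_isLocalization_atPrime_isLocalization S (Localization.AtPrime Q) Q
    exact hP.congr _ _ (IsLocalization.algEquiv (Q.comap (algebraMap (B ⊗[A] D) (L ⊗[A] D))).primeCompl
      (Localization.AtPrime (Q.comap (algebraMap (B ⊗[A] D) (L ⊗[A] D)))) (Localization.AtPrime Q)).toRingEquiv (h _ hq)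

/-- A finite extension of a residue field is the fraction field of a finite domain. -/
theorem exists_finite_domain (p : Ideal A) [p.IsPrime] (L : Type u) [Field L] [Algebra A L]
    [Algebra p.ResidueField L] [IsScalarTower A p.ResidueField L] [Module.Finite p.ResidueField L] :
    ∃ B : Subalgebra A L, Module.Finite A B ∧ IsFractionRing B L := by
  classical
  letI : Algebra (A ⧸ p) L := ((algebraMap p.ResidueField L).comp (algebraMap (A ⧸ p) p.ResidueField)).toAlgebra
  haveI : IsScalarTower (A ⧸ p) p.ResidueField L := .of_algebraMap_eq fun _ ↦ rfl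
  haveI : IsScalarTower A (A ⧸ p) L := .of_algebraMap_eq fun a ↦
    (IsScalarTower.algebraMap_apply A p.ResidueField L a).trans
      (congrArg (algebraMap p.ResidueField L) (IsScalarTower.algebraMap_apply A (A ⧸ p) p.ResidueField a))
  haveI : Algebra.IsAlgebraic (A ⧸ p) L :=
    (IsFractionRing.comap_isAlgebraic_iff (A := A ⧸ p) (K := p.ResidueField) (C := L)).mpr inferInstance
  obtain ⟨s, hs⟩ := Module.Finite.fg_top (R := p.ResidueField) (M := L)
  have hint : ∀ z : L, ∃ a : A, algebraMap A L a ≠ 0 ∧ IsIntegral A (algebraMap A L a * z) := fun z ↦ by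
    obtain ⟨a, ha, h⟩ := ((Algebra.IsAlgebraic.isAlgebraic (R := A ⧸ p) z)).exists_integral_multiple
    obtain ⟨a, rfl⟩ := Ideal.Quotient.mk_surjective a
    refine ⟨a, fun hc ↦ ha ?_, isIntegral_trans (A := A ⧸ p) _ ?_⟩
    · rw [Ideal.Quotient.eq_zero_iff_mem, ← Ideal.algebraMap_residueField_eq_zero (I := p)]
      rw [IsScalarTower.algebraMap_apply A p.ResidueField L] at hc
      exact (algebraMap p.ResidueField L).injective (hc.trans (map_zero _).symm)
    · rw [IsScalarTower.algebraMap_apply A (A ⧸ p) L, ← Algebra.smul_def]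
      exact h
  choose a ha0 ha using hint
  let B : Subalgebra A L := Algebra.adjoin A (s.image fun z ↦ algebraMap A L (a z) * z : Set L)
  haveI : Module.Finite A B :=
    Module.Finite.iff_fg.mpr <| fg_adjoin_of_finite (Finset.finite_toSet _) fun x hx ↦ by
      obtain ⟨z, -, rfl⟩ := Finset.mem_image.mp (Finset.mem_coe.mp hx)
      exact ha z
  have hfrac : ∀ z : L, ∃ x y : B, (y : L) ≠ 0 ∧ z * y = x := by
    intro z
    have hz : z ∈ Submodule.span p.ResidueField (s : Set L) := hs.symm ▸ Submodule.mem_top
    induction hz using Submodule.span_induction with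
    | mem z hz =>
      exact ⟨⟨algebraMap A L (a z) * z, Algebra.subset_adjoin (Finset.mem_coe.mpr (Finset.mem_image_of_mem _ hz))⟩,
        algebraMap A B (a z), ha0 z, mul_comm _ _⟩
    | zero => exact ⟨0, 1, one_ne_zero, by simp⟩
    | add v w _ _ hv hw =>
      obtain ⟨x, y, hy, hxy⟩ := hv
      obtain ⟨x', y', hy', hxy'⟩ := hw
      exact ⟨x * y' + x' * y, y * y', mul_ne_zero hy hy', by push_cast; rw [← hxy, ← hxy']; ring⟩
    | smul r v _ hv =>
      obtain ⟨x, y, hy, hxy⟩ := hv
      obtain ⟨⟨u, w⟩, huw⟩ := IsLocalization.surj (nonZeroDivisors (A ⧸ p)) r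
      obtain ⟨u, rfl⟩ := Ideal.Quotient.mk_surjective u
      obtain ⟨w', hw'⟩ := Ideal.Quotient.mk_surjective (w : A ⧸ p)
      have h1 : algebraMap p.ResidueField L r * algebraMap A L w' = algebraMap A L u := by
        rw [IsScalarTower.algebraMap_apply A p.ResidueField L, IsScalarTower.algebraMap_apply A p.ResidueField L,
          ← map_mul, IsScalarTower.algebraMap_apply A (A ⧸ p) p.ResidueField,
          IsScalarTower.algebraMap_apply A (A ⧸ p) p.ResidueField, Ideal.Quotient.algebraMap_eq, hw', huw]
      refine ⟨algebraMap A B u * x, algebraMap A B w' * y, ?_, ?_⟩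
      · push_cast
        refine mul_ne_zero ?_ hy
        show algebraMap A L w' ≠ 0
        rw [IsScalarTower.algebraMap_apply A (A ⧸ p) L, Ideal.Quotient.algebraMap_eq, hw']
        intro hc
        exact nonZeroDivisors.coe_ne_zero w
          (IsFractionRing.injective (A ⧸ p) p.ResidueField (by
            rw [map_zero]
            exact (algebraMap p.ResidueField L).injective (hc.trans (map_zero _).symm)))
      · push_cast
        rw [Algebra.smul_def, ← hxy]
        show _ * v * (algebraMap A L w' * y) = algebraMap A L u * (v * y)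
        rw [← h1]; ring
  refine ⟨B, inferInstance, IsFractionRing.of_field B L fun z ↦ ?_⟩
  obtain ⟨x, y, hy, hxy⟩ := hfrac z
  exact ⟨x, y, (eq_div_iff hy).mpr hxy⟩

/-- The fraction field of a finite domain is finite over the residue field of the kernel. -/
theorem exists_residueField_algebra (B : Type u) [CommRing B] [IsDomain B] [Algebra A B] [Module.Finite A B] :
    ∃ (p : Ideal A) (_ : p.IsPrime) (_ : Algebra p.ResidueField (FractionRing B)),
      IsScalarTower A p.ResidueField (FractionRing B) ∧ Module.Finite p.ResidueField (FractionRing B) := by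
  let L := FractionRing B
  let p := RingHom.ker (algebraMap A L)
  haveI : p.IsPrime := RingHom.ker_isPrime _
  let j : p.ResidueField →+* L := Ideal.ResidueField.lift p (algebraMap A L) le_rfl (fun a ha ↦ by
    exact isUnit_iff_ne_zero.mpr fun hc ↦ ha hc)
  letI := j.toAlgebra
  haveI : IsScalarTower A p.ResidueField L := .of_algebraMap_eq fun a ↦
    (Ideal.ResidueField.lift_algebraMap p (algebraMap A L) le_rfl _ a).symm
  let ψ : p.ResidueField ⊗[A] B →ₐ[p.ResidueField] L :=
    Algebra.TensorProduct.lift (Algebra.ofId p.ResidueField L) (IsScalarTower.toAlgHom A B L) fun _ _ ↦ .all _ _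
  haveI : Module.Finite p.ResidueField ψ.range :=
    Module.Finite.of_surjective ψ.rangeRestrict.toLinearMap ψ.rangeRestrict_surjective
  have hfield : IsField ψ.range := isField_of_isIntegral_of_isField' (R := p.ResidueField) (Semifield.toIsField _)
  have hmem : ∀ b : B, algebraMap B L b ∈ ψ.range := fun b ↦ ⟨1 ⊗ₜ b, by simp [ψ]⟩
  refine ⟨p, inferInstance, j.toAlgebra, inferInstance, Module.Finite.of_surjective ψ.toLinearMap fun z ↦ ?_⟩
  obtain ⟨u, v, hv, rfl⟩ := IsFractionRing.div_surjective B z
  have hv0 : algebraMap B L v ≠ 0 := IsFractionRing.to_map_ne_zero_of_mem_nonZeroDivisors hv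
  obtain ⟨w, hw⟩ := hfield.mul_inv_cancel (a := (⟨_, hmem v⟩ : ψ.range)) (fun h ↦ hv0 (congrArg Subtype.val h))
  have h2 : algebraMap B L v * w = 1 := congrArg Subtype.val hw
  show algebraMap B L u / algebraMap B L v ∈ ψ.range
  rw [div_eq_mul_inv, ← eq_inv_of_mul_eq_one_right h2]
  exact mul_mem (hmem u) w.2

end

end GeomRedFibLib
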