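import Groth.Agent.GeomRedFibLib.LocalPropLocal
import Groth.Agent.GeomRedFieldLib.Algebra
import Groth.Agent.GeomRedFieldLib.Local
import Groth.Agent.GeomRedFieldLib.Scheme
import Groth.Agent.CohenLib.GeomRed
import Mathlib.FieldTheory.IntermediateField.Adjoin.Algebra
import Mathlib.RingTheory.Ideal.Maximal

/-!
# Properties of algebras over a field after extension of the field
-/

set_option autoImplicit false
set_option synthInstance.maxHeartbeats 400000
set_option maxHeartbeats 800000

universe u

open TensorProduct IsLocalRing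

namespace GeomRedFibLib

noncomputable section

/-- A flat-local property satisfied by regular local rings. -/
structure IsGeomProp (P : ∀ (R : Type u) [CommRing R], Prop) : Prop extends IsFlatLocalProp P where
  regular : ∀ (R : Type u) [CommRing R], IsRegularLocalRing R → P R

theorem isGeomProp_regular : IsGeomProp RegLoc.{u} :=
  { isFlatLocalProp_regular with regular := fun _ _ h ↦ h }

theorem isGeomProp_rkLoc (k : ℕ) : IsGeomProp (RkLoc.{u} k) :=
  { isFlatLocalProp_rkLoc k with regular := fun _ _ h _ ↦ h }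

theorem isGeomProp_skLoc (n : ℕ) : IsGeomProp (SkLoc.{u} n) :=
  { isFlatLocalProp_skLoc n with
    regular := fun R _ h ↦ by
      haveI := h
      refine ⟨inferInstance, inferInstance, ?_⟩
      obtain ⟨d, hd⟩ := CommAlgDim.exists_ringKrullDim_eq (R := R)
      refine (min_le_right _ _).trans ?_
      rw [hd]
      exact WithBot.coe_le_coe.2 (CMFlatLib.le_depth_of_isCM (CommAlgDim.isCM_of_isRegularLocalRing _) hd.ge) }

theorem isGeomProp_cm : IsGeomProp CMLoc.{u} :=
  { isFlatLocalProp_cm with
    regular := fun R _ h ↦ by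
      haveI := h
      exact (CMFlatLib.isCohenMacaulayLocalRing_iff_isCM R).mpr (CommAlgDim.isCM_of_isRegularLocalRing R) }

variable {P : ∀ (R : Type u) [CommRing R], Prop} (hP : IsGeomProp P)

include hP in
theorem ringP_of_regular (R : Type u) [CommRing R] [IsRegularRing R] : RingP P R :=
  fun q _ ↦ hP.regular _ ((inferInstance : IsRegularRing R).isRegularLocalRing_localization q)

/-- The property after every finite extension of the base field. -/
def GeomP (P : ∀ (R : Type u) [CommRing R], Prop) (k : Type u) [Field k] (S : Type u) [CommRing S] [Algebra k S] : Prop :=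
  ∀ (k' : Type u) [Field k'] [Algebra k k'], Module.Finite k k' → RingP P (k' ⊗[k] S)

/-- The property after every finite purely inseparable extension of the base field. -/
def GeomPI (P : ∀ (R : Type u) [CommRing R], Prop) (k : Type u) [Field k] (S : Type u) [CommRing S] [Algebra k S] : Prop :=
  ∀ (k' : Type u) [Field k'] [Algebra k k'], Module.Finite k k' → IsPurelyInseparable k k' → RingP P (k' ⊗[k] S)

theorem GeomP.geomPI {k : Type u} [Field k] {S : Type u} [CommRing S] [Algebra k S] (h : GeomP P k S) :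
    GeomPI P k S := fun k' _ _ hk _ ↦ h k' hk

/-- Base change of a separable field extension gives regular rings. -/
theorem isRegularRing_bc_separable (k E K : Type u) [Field k] [Field E] [Field K] [Algebra k E] [Algebra k K]
    [Algebra.IsGeometricallyReduced k K] [IsNoetherianRing (E ⊗[k] K)] : IsRegularRing (E ⊗[k] K) := by
  haveI := CohenLib.formallySmooth_of_isGeometricallyReduced k K
  exact CohenLib.isRegularRing_of_formallySmooth (k := E)

include hP in
/-- The property goes up along a separable extension of the base field. -/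
theorem ringP_separable (k : Type u) [Field k] (R : Type u) [CommRing R] [IsNoetherianRing R] [Algebra k R]
    (K : Type u) [Field K] [Algebra k K] [Algebra.IsGeometricallyReduced k K] [IsNoetherianRing (R ⊗[k] K)]
    (h : RingP P R) : RingP P (R ⊗[k] K) := by
  refine RingP.asc hP.toIsFlatLocalProp R (R ⊗[k] K) h fun p _ ↦ ?_
  haveI := isNoetherianRing_fiber R (R ⊗[k] K) p
  let e := (Algebra.TensorProduct.cancelBaseChange k R R p.ResidueField K).toRingEquiv
  haveI : IsNoetherianRing (p.ResidueField ⊗[k] K) := isNoetherianRing_of_ringEquiv (p.Fiber (R ⊗[k] K)) e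
  haveI := isRegularRing_bc_separable k p.ResidueField K
  exact RingP.congr hP.toIsFlatLocalProp (R := p.ResidueField ⊗[k] K) e.symm (ringP_of_regular hP _)

include hP in
/-- The property descends along an extension of fields. -/
theorem ringP_field_desc (K L : Type u) [Field K] [Field L] [Algebra K L] (R : Type u) [CommRing R] [Algebra K R]
    [IsNoetherianRing R] [IsNoetherianRing (R ⊗[K] L)] (h : RingP P (R ⊗[K] L)) : RingP P R :=
  RingP.desc hP.toIsFlatLocalProp R (R ⊗[K] L) h

theorem isNoetherianRing_fieldBC (k S : Type u) [Field k] [CommRing S] [Algebra k S] [IsNoetherianRing S] (K : Type u)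
    [CommRing K] [Algebra k K] [Algebra.EssFiniteType k K] : IsNoetherianRing (K ⊗[k] S) :=
  haveI := Algebra.EssFiniteType.isNoetherianRing S (S ⊗[k] K)
  isNoetherianRing_of_ringEquiv _ (Algebra.TensorProduct.comm k S K).toRingEquiv

/-- After a finite purely inseparable extension, a finitely generated extension has a separable compositum. -/
theorem exists_separable_compositum (k K : Type u) [Field k] [Field K] [Algebra k K] [Algebra.EssFiniteType k K] :
    ∃ (k₂ : Type u) (_ : Field k₂) (_ : Algebra k k₂) (L : Type u) (_ : Field L) (_ : Algebra k L) (_ : Algebra k₂ L)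
      (_ : Algebra K L), IsScalarTower k k₂ L ∧ IsScalarTower k K L ∧ Module.Finite k k₂ ∧ IsPurelyInseparable k k₂ ∧
        Algebra.EssFiniteType k₂ L ∧ Algebra.IsGeometricallyReduced k₂ L := by
  obtain ⟨k₂, i1, i2, hfin, hpi, hgr⟩ :=
    GeomRedFieldLib.exists_finite_purelyInseparable k (ι := PUnit.{1}) (fun _ ↦ K)
  haveI := hfin
  haveI := hpi
  let T := (k₂ ⊗[k] K) ⧸ nilradical (k₂ ⊗[k] K)
  haveI : Algebra.IsGeometricallyReduced k₂ T := hgr PUnit.unit
  haveI : Nontrivial (k₂ ⊗[k] K) :=
    (Algebra.TensorProduct.includeLeft_injective (R := k) (S := k) (A := k₂) (B := K)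
      (FaithfulSMul.algebraMap_injective k K)).nontrivial
  have hne : nilradical (k₂ ⊗[k] K) ≠ ⊤ := fun hc ↦ by
    have : IsNilpotent (1 : k₂ ⊗[k] K) := mem_nilradical.mp (hc ▸ Submodule.mem_top)
    obtain ⟨n, hn⟩ := this
    exact one_ne_zero ((one_pow n).symm.trans hn)
  haveI : Nontrivial T := Ideal.Quotient.nontrivial_iff.mpr hne
  haveI : IsArtinianRing (k₂ ⊗[k] K) :=
    haveI : IsArtinianRing (K ⊗[k] k₂) := IsArtinianRing.of_finite K _
    Function.Surjective.isArtinianRing (f := (Algebra.TensorProduct.comm k K k₂).toRingEquiv.toRingHom)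
      (Algebra.TensorProduct.comm k K k₂).surjective
  haveI : IsArtinianRing T := Function.Surjective.isArtinianRing (f := Ideal.Quotient.mk _) Ideal.Quotient.mk_surjective
  haveI : _root_.IsReduced T := Algebra.isReduced_of_isGeometricallyReduced k₂
  obtain ⟨m, hm⟩ := Ideal.exists_maximal T
  haveI : _root_.IsReduced (Localization.AtPrime m) := inferInstance
  haveI : IsArtinianRing (Localization.AtPrime m) :=
    Function.Surjective.isArtinianRing (f := algebraMap T (Localization.AtPrime m))
      (IsArtinianRing.localization_surjective m.primeCompl _)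
  letI iL : Field (Localization.AtPrime m) := (IsArtinianRing.isField_of_isReduced_of_isLocalRing _).toField
  let L := Localization.AtPrime m
  letI : Algebra K L := ((algebraMap T L).comp ((Ideal.Quotient.mk (nilradical (k₂ ⊗[k] K))).comp
    (Algebra.TensorProduct.includeRight : K →ₐ[k] k₂ ⊗[k] K).toRingHom)).toAlgebra
  haveI : IsScalarTower k K L := .of_algebraMap_eq fun c ↦ by
    show _ = algebraMap T L (Ideal.Quotient.mk _ ((1 : k₂) ⊗ₜ algebraMap k K c))
    rw [IsScalarTower.algebraMap_apply k T L]
    congr 1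
    exact congrArg (Ideal.Quotient.mk _) ((Algebra.TensorProduct.includeRight : K →ₐ[k] k₂ ⊗[k] K).commutes c).symm
  haveI : Algebra.EssFiniteType k₂ T := Algebra.EssFiniteType.comp k₂ (k₂ ⊗[k] K) T
  haveI : Algebra.EssFiniteType k₂ L := Algebra.EssFiniteType.comp k₂ T L
  exact ⟨k₂, i1, i2, L, inferInstance, inferInstance, inferInstance, inferInstance, inferInstance, inferInstance,
    hfin, hpi, inferInstance, GeomRedFieldLib.isGeometricallyReduced_localization m.primeCompl L⟩

include hP in
/-- Purely inseparable test: the property holds after every finitely generated extension. -/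
theorem GeomPI.ringP_fg {k : Type u} [Field k] {S : Type u} [CommRing S] [Algebra k S] [IsNoetherianRing S]
    (h : GeomPI P k S) (K : Type u) [Field K] [Algebra k K] [Algebra.EssFiniteType k K] : RingP P (K ⊗[k] S) := by
  obtain ⟨k₂, _, _, L, _, _, _, _, _, _, hfin, hpi, hess, hgr⟩ := exists_separable_compositum k K
  haveI := hfin
  haveI := hess
  haveI := hgr
  haveI := isNoetherianRing_fieldBC k S k₂
  haveI := isNoetherianRing_fieldBC k S K
  haveI : Algebra.EssFiniteType k L := Algebra.EssFiniteType.comp k k₂ L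
  haveI := isNoetherianRing_fieldBC k S L
  let e₂ : (k₂ ⊗[k] S) ⊗[k₂] L ≃+* L ⊗[k] S := (Algebra.TensorProduct.comm k₂ (k₂ ⊗[k] S) L).toRingEquiv.trans
    (Algebra.TensorProduct.cancelBaseChange k k₂ k₂ L S).toRingEquiv
  haveI : IsNoetherianRing ((k₂ ⊗[k] S) ⊗[k₂] L) := isNoetherianRing_of_ringEquiv (L ⊗[k] S) e₂.symm
  let e₁ : (K ⊗[k] S) ⊗[K] L ≃+* L ⊗[k] S := (Algebra.TensorProduct.comm K (K ⊗[k] S) L).toRingEquiv.trans
    (Algebra.TensorProduct.cancelBaseChange k K K L S).toRingEquiv
  haveI : IsNoetherianRing ((K ⊗[k] S) ⊗[K] L) := isNoetherianRing_of_ringEquiv (L ⊗[k] S) e₁.symm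
  exact ringP_field_desc hP K L (K ⊗[k] S) (RingP.congr hP.toIsFlatLocalProp (R := L ⊗[k] S) e₁.symm
    (RingP.congr hP.toIsFlatLocalProp (R := (k₂ ⊗[k] S) ⊗[k₂] L) e₂
      (ringP_separable hP k₂ (k₂ ⊗[k] S) L (h k₂ hfin hpi))))

include hP in
/-- The purely inseparable test is enough. -/
theorem GeomPI.geomP {k : Type u} [Field k] {S : Type u} [CommRing S] [Algebra k S] [IsNoetherianRing S]
    (h : GeomPI P k S) : GeomP P k S := fun k' _ _ hk ↦
  haveI := hk
  h.ringP_fg hP k'

theorem exists_mem_range_incl_fg {k K : Type u} [Field k] [Field K] [Algebra k K] (S : Type u) [CommRing S]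
    [Algebra k S] (s : Finset (K ⊗[k] S)) :
    ∃ C : IntermediateField k K, C.FG ∧
      ∀ z ∈ s, z ∈ Set.range (GeomRedFieldLib.incl (k := k) K ↥C S) := by
  classical
  have hmono : ∀ (C D : IntermediateField k K), C ≤ D → Set.range (GeomRedFieldLib.incl (k := k) K ↥C S) ⊆
      Set.range (GeomRedFieldLib.incl (k := k) K ↥D S) := by
    rintro C D h _ ⟨x, rfl⟩
    refine ⟨Algebra.TensorProduct.map (IntermediateField.inclusion h) (AlgHom.id k S) x, ?_⟩
    rw [← AlgHom.comp_apply, GeomRedFieldLib.incl, GeomRedFieldLib.incl, ← Algebra.TensorProduct.map_comp]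
    rfl
  have hone : ∀ z : K ⊗[k] S, ∃ C : IntermediateField k K, C.FG ∧
      z ∈ Set.range (GeomRedFieldLib.incl (k := k) K ↥C S) := fun z ↦ by
    induction z using TensorProduct.induction_on with
    | zero => exact ⟨⊥, IntermediateField.fg_bot, 0, map_zero _⟩
    | tmul a b =>
      exact ⟨IntermediateField.adjoin k (({a} : Finset K) : Set K), IntermediateField.fg_adjoin_finset _,
        ⟨a, IntermediateField.subset_adjoin k _ (by simp)⟩ ⊗ₜ b, by simp [GeomRedFieldLib.incl]⟩
    | add x y hx hy =>
      obtain ⟨C, hC, hxC⟩ := hx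
      obtain ⟨D, hD, hyD⟩ := hy
      obtain ⟨u, hu⟩ := hmono C (C ⊔ D) le_sup_left hxC
      obtain ⟨v, hv⟩ := hmono D (C ⊔ D) le_sup_right hyD
      exact ⟨C ⊔ D, IntermediateField.fg_sup hC hD, u + v, by rw [map_add, hu, hv]⟩
  induction s using Finset.induction with
  | empty => exact ⟨⊥, IntermediateField.fg_bot, fun z hz ↦ absurd hz (Finset.notMem_empty z)⟩
  | insert a s _ ih =>
    obtain ⟨C, hC, hs⟩ := ih
    obtain ⟨D, hD, ha⟩ := hone a
    refine ⟨C ⊔ D, IntermediateField.fg_sup hC hD, fun z hz ↦ ?_⟩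
    rcases Finset.mem_insert.mp hz with rfl | hz
    · exact hmono D (C ⊔ D) le_sup_right ha
    · exact hmono C (C ⊔ D) le_sup_left (hs z hz)

include hP in
theorem ringP_at_of_descended {k : Type u} [Field k] {S : Type u} [CommRing S] [Algebra k S] (K : Type u) [Field K]
    [Algebra k K] [IsNoetherianRing (K ⊗[k] S)] (C : Type u) [Field C] [Algebra k C] [Algebra C K]
    [IsScalarTower k C K] [IsNoetherianRing (C ⊗[k] S)] (hC : RingP P (C ⊗[k] S)) (Q : Ideal (K ⊗[k] S)) [Q.IsPrime]
    (s : Finset (K ⊗[k] S)) (hs : Ideal.span (s : Set (K ⊗[k] S)) = Q)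
    (hsC : ∀ z ∈ s, z ∈ Set.range (GeomRedFieldLib.incl (k := k) K C S)) : P (Localization.AtPrime Q) := by
  let e : (C ⊗[k] S) ⊗[C] K ≃+* K ⊗[k] S := (Algebra.TensorProduct.comm C (C ⊗[k] S) K).toRingEquiv.trans
    (Algebra.TensorProduct.cancelBaseChange k C C K S).toRingEquiv
  haveI : IsNoetherianRing ((C ⊗[k] S) ⊗[C] K) := isNoetherianRing_of_ringEquiv (K ⊗[k] S) e.symm
  have he : ∀ x : C ⊗[k] S, e (algebraMap (C ⊗[k] S) _ x) = GeomRedFieldLib.incl (k := k) K C S x := by
    intro x
    induction x using TensorProduct.induction_on with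
    | zero => simp
    | add a b ha hb => simp only [map_add, ha, hb]
    | tmul c t => simp [e, GeomRedFieldLib.incl, Algebra.smul_def]
  let Q' : Ideal ((C ⊗[k] S) ⊗[C] K) := Q.comap e.toRingHom
  let q := Q'.comap (algebraMap (C ⊗[k] S) ((C ⊗[k] S) ⊗[C] K))
  have hQ' : Q' = q.map (algebraMap (C ⊗[k] S) ((C ⊗[k] S) ⊗[C] K)) := by
    refine le_antisymm (fun x hx ↦ ?_) Ideal.map_comap_le
    have h1 : Q ≤ (q.map (algebraMap (C ⊗[k] S) ((C ⊗[k] S) ⊗[C] K))).map e.toRingHom := by
      conv_lhs => rw [← hs]
      refine Ideal.span_le.mpr fun z hz ↦ ?_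
      obtain ⟨y, hy⟩ := hsC z hz
      rw [← hy, ← he]
      refine Ideal.mem_map_of_mem _ (Ideal.mem_map_of_mem _ ?_)
      show e (algebraMap _ _ y) ∈ Q
      rw [he, hy, ← hs]
      exact Ideal.subset_span hz
    have h2 := h1 hx
    rw [Ideal.mem_map_iff_of_surjective e.toRingHom e.surjective] at h2
    obtain ⟨y, hy, hxy⟩ := h2
    rwa [← e.injective hxy]
  have hloc : P (Localization.AtPrime Q') := by
    refine asc_at hP.toIsFlatLocalProp (C ⊗[k] S) ((C ⊗[k] S) ⊗[C] K) Q' (hC q) ?_
    refine hP.regular _ ?_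
    have hmax : (q.map (algebraMap (C ⊗[k] S) (Localization.AtPrime Q'))) = maximalIdeal (Localization.AtPrime Q') := by
      rw [IsScalarTower.algebraMap_eq (C ⊗[k] S) ((C ⊗[k] S) ⊗[C] K) (Localization.AtPrime Q'), ← Ideal.map_map,
        ← hQ', IsLocalization.AtPrime.map_eq_maximalIdeal Q' (Localization.AtPrime Q')]
    haveI : (q.map (algebraMap (C ⊗[k] S) (Localization.AtPrime Q'))).IsMaximal :=
      hmax ▸ maximalIdeal.isMaximal _
    letI := Ideal.Quotient.field (q.map (algebraMap (C ⊗[k] S) (Localization.AtPrime Q')))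
    infer_instance
  have hM : Q'.primeCompl.map e.toMonoidHom = Q.primeCompl := by
    ext y
    refine ⟨?_, fun hy ↦ ⟨e.symm y, fun hc ↦ hy (by simpa [Q'] using hc), e.apply_symm_apply y⟩⟩
    rintro ⟨x, hx, rfl⟩ hc
    exact hx hc
  exact hP.congr _ _ (IsLocalization.ringEquivOfRingEquiv (M := Q'.primeCompl) (T := Q.primeCompl)
    (Localization.AtPrime Q') (Localization.AtPrime Q) e hM) hloc


include hP in
/-- The property holds after every extension of the base field with Noetherian base change. -/
theorem GeomPI.ringP_noetherian {k : Type u} [Field k] {S : Type u} [CommRing S] [Algebra k S] [IsNoetherianRing S]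
    (h : GeomPI P k S) (K : Type u) [Field K] [Algebra k K] [IsNoetherianRing (K ⊗[k] S)] : RingP P (K ⊗[k] S) := by
  intro Q _
  obtain ⟨s, hs⟩ := (IsNoetherian.noetherian Q : Q.FG)
  obtain ⟨C, hC, hsC⟩ := exists_mem_range_incl_fg S s
  haveI : Algebra.EssFiniteType k C := IntermediateField.essFiniteType_iff.mpr hC
  haveI := isNoetherianRing_fieldBC k S C
  exact ringP_at_of_descended hP K C (h.ringP_fg hP C) Q s hs hsC

end

end GeomRedFibLib
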