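import Groth.Agent.DepthLib.FlatDepth
import Groth.Agent.GeomRedFibLib.LocalPropSerre

/-!
# Depth along flat local homomorphisms with Cohen–Macaulay fibre
-/

set_option autoImplicit false
set_option synthInstance.maxHeartbeats 400000

universe u

open IsLocalRing CommAlgDim

namespace GeomRedFibLib

/-- A regular element lowers the depth by one. -/
theorem hasSeqIn_quotient {B : Type u} [CommRing B] [IsLocalRing B] [IsNoetherianRing B] {g : B}
    (hg : g ∈ maximalIdeal B) (hreg : IsSMulRegular B g) [IsLocalRing (B ⧸ Ideal.span {g})] {n : ℕ}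
    (h : HasSeqIn (maximalIdeal B) B (n + 1)) :
    HasSeqIn (maximalIdeal (B ⧸ Ideal.span {g})) (B ⧸ Ideal.span {g}) n := by
  obtain ⟨rs, hl, hm, hr⟩ := h.quotSMulTop hg hreg
  have h2 := (RingTheory.Sequence.isWeaklyRegular_cons_iff B g rs).2 ⟨hreg, hr⟩
  rw [GorLib.isWeaklyRegular_cons_ring] at h2
  refine ⟨rs.map (Ideal.Quotient.mk _), by simpa using hl, fun r hr' ↦ ?_, h2.2⟩
  obtain ⟨c, hc, rfl⟩ := List.mem_map.1 hr'
  rw [GorLib.maximalIdeal_quotient]
  exact Ideal.mem_map_of_mem _ (hm c hc)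

/-- With a Cohen–Macaulay closed fibre of dimension `b` the depth drops by at most `b`. -/
theorem le_depth_base : ∀ (b : ℕ) (A B : Type u) [CommRing A] [IsLocalRing A] [IsNoetherianRing A] [CommRing B]
    [IsLocalRing B] [IsNoetherianRing B] [Algebra A B] [IsLocalHom (algebraMap A B)] [Module.Flat A B],
    IsCM (GorLib.Fib A B) → ringKrullDim (GorLib.Fib A B) = b → ∀ a : ℕ,
      ((a + b : ℕ) : ℕ∞) ≤ LocCoh.depth B B → (a : ℕ∞) ≤ LocCoh.depth A A := by
  intro b
  induction b with
  | zero =>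
    intro A B _ _ _ _ _ _ _ _ _ _ hd a ha
    exact (by simpa using ha : (a : ℕ∞) ≤ _).trans (depth_le_of_fib_dim_zero A B (by exact_mod_cast hd))
  | succ b ih =>
    intro A B _ _ _ _ _ _ _ _ _ hCM hd a ha
    haveI : IsLocalRing (GorLib.Fib A B) := GorLib.isLocalRing_quotient (GorLib.map_maximalIdeal_ne_top _ _)
    obtain ⟨ls, hls, hdl⟩ := hCM
    rw [hd] at hdl
    obtain ⟨y, ys, rfl⟩ : ∃ y l, ls = y :: l := by
      cases ls with
      | nil => exact absurd hdl (by simp; norm_cast)
      | cons y l => exact ⟨y, l, rfl⟩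
    have hym : y ∈ maximalIdeal (GorLib.Fib A B) :=
      mem_maximalIdeal_of_isRegular hls y List.mem_cons_self
    obtain ⟨g, rfl⟩ := Ideal.Quotient.mk_surjective y
    have hyreg := (GorLib.isWeaklyRegular_cons_ring.1 hls.toIsWeaklyRegular).1
    obtain ⟨hflat, hgreg⟩ := Groth.Agent.S0395.result (R := A) (S := B) g
      (mem_nonZeroDivisors_iff_left.2 fun y hy => hyreg (hy.trans (mul_zero _).symm))
    have hgreg' : IsSMulRegular B g := fun a b hab => by
      have : g * (a - b) = 0 := by rw [mul_sub]; exact sub_eq_zero.2 hab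
      exact sub_eq_zero.1 ((mem_nonZeroDivisors_iff_left.1 hgreg) _ this)
    have hgm : g ∈ maximalIdeal B := by
      by_contra hc
      exact hym ((notMem_maximalIdeal.1 hc).map _)
    have hgne : Ideal.span {g} ≠ ⊤ :=
      ne_top_of_le_ne_top (Ideal.IsMaximal.ne_top inferInstance) ((Ideal.span_singleton_le_iff_mem _).2 hgm)
    haveI : IsLocalRing (B ⧸ Ideal.span {g}) := GorLib.isLocalRing_quotient hgne
    haveI : IsLocalHom (algebraMap A (B ⧸ Ideal.span {g})) := ⟨fun a ha => by
      by_contra han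
      exact GorLib.not_isUnit_mk hgne ((GorLib.comap_maximalIdeal' A B a).2 han) ha⟩
    haveI : IsLocalRing (GorLib.Fib A (B ⧸ Ideal.span {g})) :=
      GorLib.isLocalRing_quotient (GorLib.map_maximalIdeal_ne_top _ _)
    let e : (GorLib.Fib A B ⧸ Ideal.span {Ideal.Quotient.mk ((maximalIdeal A).map (algebraMap A B)) g}) ≃+*
        GorLib.Fib A (B ⧸ Ideal.span {g}) :=
      (Ideal.quotEquivOfEq (by rw [Ideal.map_span, Set.image_singleton])).trans
        ((DoubleQuot.quotQuotEquivComm ((maximalIdeal A).map (algebraMap A B)) (Ideal.span {g})).trans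
          (Ideal.quotEquivOfEq (by rw [Ideal.map_map]; rfl)))
    haveI : IsLocalRing (GorLib.Fib A B ⧸ Ideal.span {Ideal.Quotient.mk ((maximalIdeal A).map (algebraMap A B)) g}) :=
      e.symm.isLocalRing
    have hdim : ringKrullDim (GorLib.Fib A (B ⧸ Ideal.span {g})) = b := by
      rw [← ringKrullDim_eq_of_ringEquiv e]
      obtain ⟨d, hd'⟩ := exists_ringKrullDim_eq (R := GorLib.Fib A B ⧸ Ideal.span {Ideal.Quotient.mk ((maximalIdeal A).map (algebraMap A B)) g})
      have := ringKrullDim_quotient_span_singleton_succ_eq_ringKrullDim hyreg hym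
      rw [hd', hd] at this
      rw [hd']
      norm_cast at this ⊢
      omega
    have hCM' : IsCM (GorLib.Fib A (B ⧸ Ideal.span {g})) := by
      haveI : LocCoh.IsCohenMacaulayLocalRing (GorLib.Fib A B ⧸ Ideal.span {Ideal.Quotient.mk ((maximalIdeal A).map (algebraMap A B)) g}) :=
        SMTLib.isCohenMacaulayLocalRing_of_isCM _ (IsCM.quotient_singleton ⟨_, hls, hd.trans hdl⟩ hyreg hym)
      haveI := SMTLib.isCohenMacaulayLocalRing_of_ringEquiv e
      exact SMTLib.isCM_of_isCohenMacaulayLocalRing _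
    refine ih A (B ⧸ Ideal.span {g}) hCM' hdim a ?_
    rw [CommAlgDim.le_depth_iff] at ha ⊢
    exact hasSeqIn_quotient hgm hgreg' (n := a + b) (by simpa [add_assoc] using ha)

/-- With a Cohen–Macaulay closed fibre depth is additive. -/
theorem depth_eq_add (A B : Type u) [CommRing A] [IsLocalRing A] [IsNoetherianRing A] [CommRing B]
    [IsLocalRing B] [IsNoetherianRing B] [Algebra A B] [IsLocalHom (algebraMap A B)] [Module.Flat A B]
    (hCM : IsCM (GorLib.Fib A B)) {b : ℕ} (hb : ringKrullDim (GorLib.Fib A B) = b) :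
    LocCoh.depth B B = LocCoh.depth A A + b := by
  haveI : IsLocalRing (GorLib.Fib A B) := GorLib.isLocalRing_quotient (GorLib.map_maximalIdeal_ne_top _ _)
  have hlow : ∀ a : ℕ, (a : ℕ∞) ≤ LocCoh.depth A A → ((a + b : ℕ) : ℕ∞) ≤ LocCoh.depth B B :=
    fun a ha ↦ DepthLib.add_le_depth A B ha (CMFlatLib.le_depth_of_isCM hCM hb.ge)
  refine le_antisymm (ENat.forall_natCast_le_iff_le.mp fun n hn ↦ ?_) (ENat.forall_natCast_le_iff_le.mp fun n hn ↦ ?_)
  · rcases le_total n b with h | h
    · exact le_add_left (by exact_mod_cast h)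
    · obtain ⟨a, rfl⟩ := Nat.exists_eq_add_of_le' h
      rw [Nat.cast_add]
      exact add_le_add (le_depth_base b A B hCM hb a hn) le_rfl
  · rcases le_total n b with h | h
    · exact le_trans (by exact_mod_cast h.trans (Nat.le_add_left b 0)) (hlow 0 zero_le)
    · obtain ⟨a, rfl⟩ := Nat.exists_eq_add_of_le' h
      rw [Nat.cast_add] at hn
      exact hlow a ((ENat.add_le_add_iff_right (ENat.coe_ne_top b)).mp hn)

end GeomRedFibLib
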