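import Groth.Agent.NormalLib.CompleteLocal
import Groth.Agent.NormalLib.N1
import Groth.Agent.NormalLib.Serre
import Groth.Agent.GeomRedFibLib.CplFibres
import Mathlib.RingTheory.Ideal.AssociatedPrime.Finiteness
import Mathlib.RingTheory.Ideal.MinimalPrime.Noetherian

/-!
# Finitely many valuations detect divisibility in the integral closure of a Noetherian local domain
-/

set_option autoImplicit false
set_option synthInstance.maxHeartbeats 200000
set_option maxHeartbeats 800000

universe u

open IsLocalRing Polynomial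

namespace GeomRedFibLib

/-- In a Noetherian ring, divisibility is detected at the associated primes of the quotient. -/
theorem mem_span_of_forall_associatedPrimes {R : Type u} [CommRing R] [IsNoetherianRing R] {r d : R}
    (h : ∀ Q ∈ associatedPrimes R (R ⧸ Ideal.span {d}), ∃ s ∉ Q, s * r ∈ Ideal.span {d}) : r ∈ Ideal.span {d} := by
  by_contra hr
  obtain ⟨Q, hQ, hle⟩ := exists_le_isAssociatedPrime_of_isNoetherianRing R (Ideal.Quotient.mk (Ideal.span {d}) r)
    (fun h0 ↦ hr (Ideal.Quotient.eq_zero_iff_mem.mp h0))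
  obtain ⟨s, hs, hsr⟩ := h Q (AssociatedPrimes.mem_iff.mpr hQ)
  refine hs (hle ?_)
  rw [Submodule.mem_colon_singleton, Submodule.mem_bot, Algebra.smul_def, Ideal.Quotient.algebraMap_eq, ← map_mul,
    Ideal.Quotient.eq_zero_iff_mem]
  exact hsr

/-- Localisations of a Noetherian normal domain at primes associated to a principal ideal are discrete
valuation rings. -/
theorem isDVR_localization_of_mem_associatedPrimes {R : Type u} [CommRing R] [IsDomain R] [IsNoetherianRing R]
    [IsIntegrallyClosed R] {d : R} (hd : d ≠ 0) (Q : Ideal R) [Q.IsPrime]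
    (hQ : Q ∈ associatedPrimes R (R ⧸ Ideal.span {d})) : IsDiscreteValuationRing (Localization.AtPrime Q) := by
  haveI : IsIntegrallyClosed (Localization.AtPrime Q) :=
    isIntegrallyClosed_of_isLocalization _ Q.primeCompl Q.primeCompl_le_nonZeroDivisors
  have hdim : ringKrullDim (Localization.AtPrime Q) = 1 := by
    rw [IsLocalization.AtPrime.ringKrullDim_eq_height Q, NormalLib.height_eq_one_of_mem_associatedPrimes hd hQ]
    rfl
  have hF : ¬ IsField (Localization.AtPrime Q) := fun hF ↦ by
    rw [ringKrullDim_eq_zero_of_isField hF] at hdim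
    exact zero_ne_one hdim
  haveI : Ring.KrullDimLE 1 (Localization.AtPrime Q) := by
    rw [Ring.krullDimLE_iff, hdim]; rfl
  have huniq : ∃! P : Ideal (Localization.AtPrime Q), P ≠ ⊥ ∧ P.IsPrime :=
    ⟨maximalIdeal _, ⟨fun h => hF (isField_iff_maximalIdeal_eq.2 h), inferInstance⟩, fun P hP =>
      eq_maximalIdeal (Ring.krullDimLE_one_iff_of_isPrime_bot.1 inferInstance P hP.1 hP.2)⟩
  have hiff : IsIntegrallyClosed (Localization.AtPrime Q) ∧ (∃! P : Ideal (Localization.AtPrime Q), P ≠ ⊥ ∧ P.IsPrime) ↔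
      IsDiscreteValuationRing (Localization.AtPrime Q) := (IsDiscreteValuationRing.TFAE _ hF).out 3 0
  exact hiff.mp ⟨inferInstance, huniq⟩

/-- Finitely many maps to discrete valuation rings detect divisibility by `d` in the integral closure. -/
theorem exists_dvr_family (B : Type u) [CommRing B] [IsDomain B] [IsNoetherianRing B] [IsLocalRing B] (K : Type u)
    [Field K] [Algebra B K] [IsFractionRing B K] (d : B) (hd : d ≠ 0) :
    ∃ (ι : Type u) (_ : Finite ι) (W : ι → Type u) (_ : ∀ i, CommRing (W i)) (_ : ∀ i, IsDomain (W i))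
      (_ : ∀ i, IsDiscreteValuationRing (W i)) (g : ∀ i, integralClosure B K →+* W i),
      (∀ i, Function.Injective (g i)) ∧
      ∀ x : integralClosure B K, (∀ i, g i x ∈ Ideal.span {g i (algebraMap B (integralClosure B K) d)}) →
        x ∈ Ideal.span {algebraMap B (integralClosure B K) d} := by
  classical
  let C := EGA4.Cpl B
  haveI := isNoetherianRing_cpl B
  haveI : IsAdicComplete (maximalIdeal C) C := by
    rw [AdicCompletion.maximalIdeal_eq_map]
    exact AdicRingLib.isAdicComplete_map (C := B) (K := maximalIdeal B) (IsNoetherian.noetherian _)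
  have hN := NormalLib.isNagata_of_isAdicComplete_local C
  haveI := faithfullyFlat_hat B
  let ιP := minimalPrimes C
  haveI : Finite ιP := (minimalPrimes.finite_of_isNoetherianRing C).to_subtype
  haveI : ∀ P : ιP, (P.1).IsPrime := fun P ↦ P.2.1.1
  let L := fun P : ιP ↦ FractionRing (C ⧸ P.1)
  let R := fun P : ιP ↦ integralClosure (C ⧸ P.1) (L P)
  haveI : ∀ P : ιP, Module.Finite (C ⧸ P.1) (R P) := fun P ↦ NormalLib.finite_integralClosure_self (hN.2 P.1)
  haveI : ∀ P : ιP, IsNoetherianRing (R P) := fun P ↦ IsNoetherianRing.of_finite (C ⧸ P.1) _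
  haveI : ∀ P : ιP, IsIntegrallyClosed (R P) := fun P ↦ integralClosure.isIntegrallyClosedOfFiniteExtension (L P)
  have hne : ∀ (P : ιP) (b : B), b ≠ 0 → algebraMap B (C ⧸ P.1) b ≠ 0 := fun P b hb h ↦ by
    rw [IsScalarTower.algebraMap_apply B C (C ⧸ P.1), Ideal.Quotient.algebraMap_eq, Ideal.Quotient.eq_zero_iff_mem] at h
    have hreg : IsSMulRegular C (algebraMap B C b) := (IsSMulRegular.of_ne_zero hb).of_flat
    exact (Ideal.disjoint_nonZeroDivisors_of_mem_minimalPrimes P.2).le_bot
      ⟨h, mem_nonZeroDivisors_iff_right.mpr fun z hz ↦ hreg (by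
        show algebraMap B C b * z = algebraMap B C b * 0
        rw [mul_zero, mul_comm, hz])⟩
  have hinj : ∀ P : ιP, Function.Injective (algebraMap B (L P)) := fun P ↦ by
    rw [injective_iff_map_eq_zero]
    intro b hb
    by_contra hb0
    rw [IsScalarTower.algebraMap_apply B (C ⧸ P.1) (L P)] at hb
    exact hne P b hb0 ((map_eq_zero_iff _ (IsFractionRing.injective _ _)).mp hb)
  let j : ∀ P : ιP, K →ₐ[B] L P := fun P ↦
    { IsFractionRing.lift (hinj P) with commutes' := fun b ↦ IsFractionRing.lift_algebraMap (hinj P) b }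
  let gR : ∀ P : ιP, integralClosure B K →+* R P := fun P ↦
    ((j P).toRingHom.comp (integralClosure B K).val.toRingHom).codRestrict (R P).toSubring
      fun x ↦ (x.2.map (j P)).tower_top
  have hgR : ∀ P x, ((gR P x : R P) : L P) = j P x := fun _ _ ↦ rfl
  let dP := fun P : ιP ↦ gR P (algebraMap B (integralClosure B K) d)
  have hdP : ∀ P, dP P ≠ 0 := fun P h ↦ by
    have h1 : j P (algebraMap B K d) = 0 := congrArg Subtype.val h
    rw [AlgHom.commutes] at h1
    exact hd ((map_eq_zero_iff _ (hinj P)).mp h1)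
  let ι := Σ P : ιP, associatedPrimes (R P) (R P ⧸ Ideal.span {dP P})
  haveI : ∀ P : ιP, Finite (associatedPrimes (R P) (R P ⧸ Ideal.span {dP P})) := fun P ↦
    (associatedPrimes.finite _ _).to_subtype
  haveI : ∀ i : ι, (i.2.1).IsPrime := fun i ↦ i.2.2.isPrime
  refine ⟨ι, inferInstance, fun i ↦ Localization.AtPrime i.2.1, inferInstance, inferInstance,
    fun i ↦ isDVR_localization_of_mem_associatedPrimes (hdP i.1) i.2.1 i.2.2,
    fun i ↦ (algebraMap (R i.1) (Localization.AtPrime i.2.1)).comp (gR i.1), fun i ↦ ?_, fun x hx ↦ ?_⟩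
  · exact (IsLocalization.injective (Localization.AtPrime i.2.1) i.2.1.primeCompl_le_nonZeroDivisors).comp
      fun x y h ↦ Subtype.ext ((j i.1).toRingHom.injective (congrArg Subtype.val h))
  -- divisibility in each component
  have hdiv : ∀ P : ιP, gR P x ∈ Ideal.span {dP P} := fun P ↦ by
    refine mem_span_of_forall_associatedPrimes fun Q hQ ↦ ?_
    haveI : Q.IsPrime := hQ.isPrime
    obtain ⟨w, hw⟩ := Ideal.mem_span_singleton'.mp (hx ⟨P, Q, hQ⟩)
    obtain ⟨⟨c, s⟩, rfl⟩ := IsLocalization.mk'_surjective Q.primeCompl w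
    refine ⟨s, s.2, Ideal.mem_span_singleton'.mpr ⟨c, ?_⟩⟩
    apply IsLocalization.injective (Localization.AtPrime Q) Q.primeCompl_le_nonZeroDivisors
    rw [map_mul, map_mul, ← IsLocalization.mk'_spec (Localization.AtPrime Q) c s, mul_comm _ (algebraMap (R P) _ (s : R P)),
      mul_assoc]
    exact congrArg _ hw
  obtain ⟨a, b, hb, hab⟩ := IsFractionRing.div_surjective (A := B) ((x : K) / algebraMap B K d)
  have hb0 : b ≠ 0 := nonZeroDivisors.ne_zero hb
  -- integral modulo each minimal prime
  have hloc : ∀ P : ιP, ∃ p : C[X], p.Monic ∧ (p.scaleRoots (algebraMap B C b)).eval (algebraMap B C a) ∈ P.1 := by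
    intro P
    obtain ⟨r, hr⟩ := Ideal.mem_span_singleton'.mp (hdiv P)
    have hr' : (r : L P) * algebraMap B (L P) b = algebraMap B (L P) a := by
      have h1 : (r : L P) * j P (algebraMap B K d) = j P x := congrArg Subtype.val hr
      have hd' : algebraMap B (L P) d ≠ 0 := fun h ↦ hd ((map_eq_zero_iff _ (hinj P)).mp h)
      have h2 : j P ((x : K) / algebraMap B K d) = r := by
        rw [map_div₀, ← h1, AlgHom.commutes, mul_div_cancel_right₀ _ hd']
      rw [← hab, map_div₀, AlgHom.commutes, AlgHom.commutes, div_eq_iff] at h2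
      · exact h2.symm
      · exact fun h ↦ hb0 ((map_eq_zero_iff _ (hinj P)).mp h)
    obtain ⟨p₁, hp₁, hp₁r⟩ := r.2
    obtain ⟨p, hp, -, hpm⟩ := Polynomial.lifts_and_degree_eq_and_monic (f := Ideal.Quotient.mk P.1)
      (Polynomial.map_surjective _ Ideal.Quotient.mk_surjective p₁) hp₁
    refine ⟨p, hpm, ?_⟩
    rw [← hp, eval₂_map] at hp₁r
    rw [← Ideal.Quotient.eq_zero_iff_mem]
    apply IsFractionRing.injective (C ⧸ P.1) (L P)
    rw [map_zero, ← RingHom.comp_apply, ← eval₂_at_apply]
    have e : ((algebraMap (C ⧸ P.1) (L P)).comp (Ideal.Quotient.mk P.1)) (algebraMap B C a) =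
        ((algebraMap (C ⧸ P.1) (L P)).comp (Ideal.Quotient.mk P.1)) (algebraMap B C b) * r := by
      rw [RingHom.comp_apply, RingHom.comp_apply, ← Ideal.Quotient.algebraMap_eq, ← IsScalarTower.algebraMap_apply,
        ← IsScalarTower.algebraMap_apply, ← IsScalarTower.algebraMap_apply, ← IsScalarTower.algebraMap_apply, ← hr',
        mul_comm]
    rw [e, scaleRoots_eval₂_mul, hp₁r, mul_zero]
  choose p hp hpm using hloc
  haveI : Fintype ιP := Fintype.ofFinite ιP
  let q : C[X] := ∏ P : ιP, p P
  let a' := algebraMap B C a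
  let b' := algebraMap B C b
  have hq : q.Monic := monic_prod_of_monic _ _ fun P _ ↦ hp P
  have hmul : ∀ (f g : C[X]), f.Monic → g.Monic →
      ((f * g).scaleRoots b').eval a' = (f.scaleRoots b').eval a' * (g.scaleRoots b').eval a' := fun f g hf hg ↦ by
    rw [← eval_mul, ← mul_scaleRoots, hf.natDegree_mul hg, Nat.sub_self, pow_zero, one_smul]
  have hnil : IsNilpotent ((q.scaleRoots b').eval a') := by
    rw [← mem_nilradical, nilradical_eq_sInf, Ideal.mem_sInf]
    intro Q hQ
    haveI : Q.IsPrime := hQ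
    obtain ⟨P, hP, hPQ⟩ := Ideal.exists_minimalPrimes_le (I := ⊥) (J := Q) bot_le
    let P' : ιP := ⟨P, hP⟩
    have hsplit : q = p P' * ∏ P ∈ Finset.univ.erase P', p P :=
      (Finset.mul_prod_erase _ _ (Finset.mem_univ P')).symm
    rw [hsplit, hmul _ _ (hp P') (monic_prod_of_monic _ _ fun P _ ↦ hp P)]
    exact Ideal.mul_mem_right _ _ (hPQ (hpm P'))
  obtain ⟨N, hN⟩ := hnil
  have hpow : ∀ n, ((q ^ n).scaleRoots b').eval a' = ((q.scaleRoots b').eval a') ^ n := by
    intro n
    induction n with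
    | zero => simp
    | succ n ih => rw [pow_succ, hmul _ _ (hq.pow n) hq, ih, pow_succ]
  let Q := q ^ (N + 1)
  have hQm : Q.Monic := hq.pow _
  have hQ0 : (Q.scaleRoots b').eval a' = 0 := by rw [hpow, pow_succ, hN, zero_mul]
  -- descend the equation
  let m := Q.natDegree
  let J : Ideal B := Ideal.span ((fun i ↦ a ^ i * b ^ (m - i)) '' Set.Iio m)
  have hmem : algebraMap B C (a ^ m) ∈ J.map (algebraMap B C) := by
    rw [eval_eq_sum_range, natDegree_scaleRoots, Finset.sum_range_succ, coeff_scaleRoots_natDegree,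
      hQm.leadingCoeff, one_mul] at hQ0
    rw [map_pow, show a' ^ m = -(∑ i ∈ Finset.range m, (Q.scaleRoots b').coeff i * a' ^ i) from
      eq_neg_of_add_eq_zero_right hQ0]
    refine neg_mem (Ideal.sum_mem _ fun i hi ↦ ?_)
    rw [coeff_scaleRoots, show Q.coeff i * b' ^ (m - i) * a' ^ i = Q.coeff i * algebraMap B C (a ^ i * b ^ (m - i)) by
      rw [map_mul, map_pow, map_pow]; ring]
    exact Ideal.mul_mem_left _ _ (Ideal.mem_map_of_mem _ (Ideal.subset_span ⟨i, Finset.mem_range.mp hi, rfl⟩))
  have hJ : a ^ m ∈ J := by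
    have h := Ideal.comap_map_eq_self_of_faithfullyFlat (B := C) J
    rw [← h]
    exact hmem
  have hy : IsIntegral B ((x : K) / algebraMap B K d) := by
    rw [← hab]
    have hbK : algebraMap B K b ≠ 0 := fun h ↦ hb0 ((map_eq_zero_iff _ (IsFractionRing.injective B K)).mp h)
    have hspan : ∀ z ∈ J, ∃ f : B[X], f.degree < m ∧ algebraMap B K z = algebraMap B K b ^ m *
        f.eval₂ (algebraMap B K) (algebraMap B K a / algebraMap B K b) := by
      intro z hz
      induction hz using Submodule.span_induction with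
      | mem z hz =>
        obtain ⟨i, hi, rfl⟩ := hz
        refine ⟨X ^ i, by rw [degree_X_pow]; exact_mod_cast hi, ?_⟩
        rw [eval₂_X_pow, map_mul, map_pow, map_pow, div_pow,
          show algebraMap B K b ^ m = algebraMap B K b ^ (m - i) * algebraMap B K b ^ i by
            rw [← pow_add, Nat.sub_add_cancel (le_of_lt hi)]]
        field_simp
      | zero => exact ⟨0, by rw [degree_zero]; exact WithBot.bot_lt_coe m, by simp⟩
      | add u v _ _ hu hv =>
        obtain ⟨f, hf, hfu⟩ := hu
        obtain ⟨g, hg, hgv⟩ := hv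
        exact ⟨f + g, (degree_add_le _ _).trans_lt (max_lt hf hg), by rw [map_add, hfu, hgv, eval₂_add, mul_add]⟩
      | smul c u _ hu =>
        obtain ⟨f, hf, hfu⟩ := hu
        exact ⟨Polynomial.C c * f, ((degree_mul_le _ _).trans (add_le_of_nonpos_left degree_C_le)).trans_lt hf, by rw [smul_eq_mul, map_mul, hfu, eval₂_mul, eval₂_C]; ring⟩
    obtain ⟨f, hf, hfz⟩ := hspan _ hJ
    refine ⟨X ^ m - f, monic_X_pow_sub hf, ?_⟩
    rw [eval₂_sub, eval₂_X_pow, div_pow, ← map_pow (algebraMap B K) a, hfz, mul_div_cancel_left₀ _ (pow_ne_zero _ hbK),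
      sub_self]
  refine Ideal.mem_span_singleton'.mpr ⟨⟨_, hy⟩, Subtype.ext ?_⟩
  show (x : K) / algebraMap B K d * algebraMap B K d = x
  rw [div_mul_cancel₀]
  exact fun h ↦ hd ((map_eq_zero_iff _ (IsFractionRing.injective B K)).mp h)

end GeomRedFibLib
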