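import Groth.Agent.S9634
import Mathlib.RingTheory.EssentialFiniteness
import Mathlib.RingTheory.TensorProduct.Pi
import Mathlib.RingTheory.Ideal.MinimalPrime.Noetherian
import Mathlib.RingTheory.LocalRing.ResidueField.Fiber

/-!
# Geometrically reduced fibres compose
-/

set_option autoImplicit false
set_option synthInstance.maxHeartbeats 80000

universe u

open TensorProduct

namespace GeomRedFibLib

variable (A B C : Type u) [CommRing A] [CommRing B] [CommRing C] [Algebra A B] [Algebra B C]
  [Algebra A C] [IsScalarTower A B C]

/-- A flat algebra with geometrically reduced fibres stays reduced over a reduced Noetherian base. -/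
theorem isReduced_tensor (R : Type u) [CommRing R] [IsNoetherianRing R] [IsReduced R] [Algebra B R]
    [Module.Flat B C]
    (hBC : ∀ (q : Ideal B) [q.IsPrime], Algebra.IsGeometricallyReduced q.ResidueField (q.Fiber C)) :
    IsReduced (C ⊗[B] R) := by
  classical
  let ι := minimalPrimes R
  haveI : Finite ι := (minimalPrimes.finite_of_isNoetherianRing R).to_subtype
  letI : Fintype ι := Fintype.ofFinite ι
  haveI : ∀ P : ι, (P.1).IsPrime := fun P ↦ P.2.1.1
  let φ : R →ₐ[B] (∀ P : ι, (P.1).ResidueField) := Pi.algHom B _ fun P ↦ IsScalarTower.toAlgHom B R _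
  have hφ : Function.Injective φ := by
    rw [injective_iff_map_eq_zero]
    intro x hx
    have h : x ∈ nilradical R := by
      rw [nilradical_eq_sInf, Ideal.mem_sInf]
      intro Q hQ
      haveI : Q.IsPrime := hQ
      obtain ⟨P, hP, hPQ⟩ := Ideal.exists_minimalPrimes_le (I := ⊥) (J := Q) bot_le
      haveI : P.IsPrime := hP.1.1
      exact hPQ (Ideal.algebraMap_residueField_eq_zero.mp (congrFun hx (⟨P, hP⟩ : ι)))
    simpa using h
  haveI hfac : ∀ P : ι, IsReduced (C ⊗[B] (P.1).ResidueField) := fun P ↦ by
    let q := (P.1).comap (algebraMap B R)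
    letI : Algebra q.ResidueField (P.1).ResidueField :=
      (Ideal.ResidueField.map q P.1 (algebraMap B R) rfl).toAlgebra
    haveI : IsScalarTower B q.ResidueField (P.1).ResidueField := IsScalarTower.of_algebraMap_eq fun b ↦ by
      rw [RingHom.algebraMap_toAlgebra]
      exact (Ideal.ResidueField.map_algebraMap q P.1 (algebraMap B R) rfl b).symm
    have h : ∀ (K : Type u) [Field K] [Algebra q.ResidueField K], IsReduced (K ⊗[q.ResidueField] (q.Fiber C)) :=
      ((Groth.Agent.S9634.result (k := q.ResidueField) (S := q.Fiber C)).out 1 2).mp (hBC q)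
    haveI := h (P.1).ResidueField
    exact isReduced_of_injective ((Algebra.TensorProduct.comm B C (P.1).ResidueField).trans
      ((Algebra.TensorProduct.cancelBaseChange B q.ResidueField q.ResidueField (P.1).ResidueField C).symm.restrictScalars B))
      (AlgEquiv.injective _)
  let e := Algebra.TensorProduct.piRight B B C fun P : ι ↦ (P.1).ResidueField
  exact isReduced_of_injective (e.toAlgHom.comp (Algebra.TensorProduct.map (AlgHom.id B C) φ))
    (e.injective.comp (Module.Flat.lTensor_preserves_injective_linearMap φ.toLinearMap hφ))

/-- Geometrically reduced fibres compose. -/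
theorem isGeometricallyReduced_fiber_comp [IsNoetherianRing B] [Module.Flat B C] (p : Ideal A) [p.IsPrime]
    (hAB : Algebra.IsGeometricallyReduced p.ResidueField (p.Fiber B))
    (hBC : ∀ (q : Ideal B) [q.IsPrime], Algebra.IsGeometricallyReduced q.ResidueField (q.Fiber C)) :
    Algebra.IsGeometricallyReduced p.ResidueField (p.Fiber C) := by
  refine ((Groth.Agent.S9634.result (k := p.ResidueField) (S := p.Fiber C)).out 0 1).mp ?_
  intro k' _ _ _ _
  letI : Algebra A k' := ((algebraMap p.ResidueField k').comp (algebraMap A p.ResidueField)).toAlgebra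
  haveI : IsScalarTower A p.ResidueField k' := .of_algebraMap_eq fun _ ↦ rfl
  haveI : Algebra.EssFiniteType A k' := Algebra.EssFiniteType.comp A p.ResidueField k'
  haveI : IsNoetherianRing (B ⊗[A] k') := Algebra.EssFiniteType.isNoetherianRing B (B ⊗[A] k')
  haveI : IsReduced (k' ⊗[p.ResidueField] (p.Fiber B)) := inferInstance
  haveI : IsReduced (B ⊗[A] k') :=
    isReduced_of_injective ((Algebra.TensorProduct.comm A B k').trans
      ((Algebra.TensorProduct.cancelBaseChange A p.ResidueField p.ResidueField k' B).symm.restrictScalars A))
      (AlgEquiv.injective _)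
  haveI := isReduced_tensor B C (B ⊗[A] k') hBC
  exact isReduced_of_injective
    (((Algebra.TensorProduct.cancelBaseChange A p.ResidueField p.ResidueField k' C).restrictScalars A).trans
      ((Algebra.TensorProduct.comm A k' C).trans
        ((Algebra.TensorProduct.cancelBaseChange A B B C k').symm.restrictScalars A)))
    (AlgEquiv.injective _)

end GeomRedFibLib
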