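import Groth.Agent.GeomRedFibLib.GeomApps
import Mathlib.RingTheory.TensorProduct.Free

/-!
# Finite extensions of a directed union of subfields
-/

set_option autoImplicit false

universe u

open TensorProduct

namespace GeomRedFibLib

/-- Finitely many elements of a directed union of subfields lie in one of them. -/
theorem exists_index {k : Type u} [Field k] {ι : Type u} (K : ι → Type u) [∀ i, Field (K i)] [∀ i, Algebra (K i) k]
    (hdir : ∀ i j, ∃ l, Set.range (algebraMap (K i) k) ⊆ Set.range (algebraMap (K l) k) ∧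
      Set.range (algebraMap (K j) k) ⊆ Set.range (algebraMap (K l) k))
    (hcov : ∀ x : k, ∃ i, x ∈ Set.range (algebraMap (K i) k)) (s : Finset k) :
    ∃ i, ∀ x ∈ s, x ∈ Set.range (algebraMap (K i) k) := by
  classical
  induction s using Finset.induction with
  | empty => exact ⟨(hcov 0).choose, fun _ h ↦ absurd h (Finset.notMem_empty _)⟩
  | insert a s _ ih =>
    obtain ⟨i, hi⟩ := ih
    obtain ⟨j, hj⟩ := hcov a
    obtain ⟨l, h1, h2⟩ := hdir i j
    refine ⟨l, fun x hx ↦ ?_⟩
    rcases Finset.mem_insert.mp hx with rfl | hx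
    · exact h2 hj
    · exact h1 (hi x hx)

/-- A finite extension of a field is defined over a member of a directed family of subfields covering it. -/
theorem exists_descent_finite {k : Type u} [Field k] {ι : Type u} (K : ι → Type u) [∀ i, Field (K i)]
    [∀ i, Algebra (K i) k]
    (hdir : ∀ i j, ∃ l, Set.range (algebraMap (K i) k) ⊆ Set.range (algebraMap (K l) k) ∧
      Set.range (algebraMap (K j) k) ⊆ Set.range (algebraMap (K l) k))
    (hcov : ∀ x : k, ∃ i, x ∈ Set.range (algebraMap (K i) k))
    (L : Type u) [Field L] [Algebra k L] [Module.Finite k L] :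
    ∃ (i : ι) (S : Type u) (_ : Field S) (_ : Algebra (K i) S),
      Module.Finite (K i) S ∧ Nonempty ((k ⊗[K i] S) ≃ₐ[k] L) := by
  classical
  let b := Module.Free.chooseBasis k L
  let n := Module.Free.ChooseBasisIndex k L
  obtain ⟨i, hi⟩ := exists_index K hdir hcov
    ((Finset.univ : Finset (n × n × n)).image (fun t ↦ b.repr (b t.1 * b t.2.1) t.2.2) ∪
      (Finset.univ : Finset n).image (fun a ↦ b.repr 1 a))
  letI : Algebra (K i) L := ((algebraMap k L).comp (algebraMap (K i) k)).toAlgebra
  haveI : IsScalarTower (K i) k L := .of_algebraMap_eq fun _ ↦ rfl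
  let P := Submodule.span (K i) (Set.range b)
  have hmem : ∀ x : L, (∀ a, b.repr x a ∈ Set.range (algebraMap (K i) k)) → x ∈ P := fun x hx ↦ by
    rw [← b.sum_repr x]
    refine Submodule.sum_mem _ fun a _ ↦ ?_
    obtain ⟨c, hc⟩ := hx a
    rw [← hc, algebraMap_smul]
    exact Submodule.smul_mem _ _ (Submodule.subset_span ⟨a, rfl⟩)
  have h1 : (1 : L) ∈ P := hmem 1 fun a ↦
    hi _ (Finset.mem_union_right _ (Finset.mem_image.mpr ⟨a, Finset.mem_univ _, rfl⟩))
  have hmul : ∀ x y : L, x ∈ P → y ∈ P → x * y ∈ P := by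
    have hle : P * P ≤ P := by
      rw [Submodule.span_mul_span, Submodule.span_le]
      rintro _ ⟨_, ⟨a, rfl⟩, _, ⟨c, rfl⟩, rfl⟩
      exact hmem _ fun d ↦
        hi _ (Finset.mem_union_left _ (Finset.mem_image.mpr ⟨(a, c, d), Finset.mem_univ _, rfl⟩))
    exact fun x y hx hy ↦ hle (Submodule.mul_mem_mul hx hy)
  let S := P.toSubalgebra h1 hmul
  have hli : LinearIndependent (K i) b :=
    b.linearIndependent.restrict_scalars' (K i)
  let bS : Module.Basis n (K i) S := Module.Basis.span hli
  haveI : Module.Finite (K i) S := Module.Finite.of_basis bS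
  haveI : Algebra.IsIntegral (K i) S := Algebra.IsIntegral.of_finite _ _
  have hF : IsField S := isField_of_isIntegral_of_isField' (Field.toIsField (K i))
  let φ : k ⊗[K i] S →ₐ[k] L :=
    Algebra.TensorProduct.lift (Algebra.ofId k L) S.val fun _ _ ↦ .all _ _
  have hφ : ∀ a, φ (bS.baseChange k a) = b a := fun a ↦ by
    have : ((bS a : S) : L) = b a := Module.Basis.coe_span_apply hli a
    simp [φ, this]
  have hbij : Function.Bijective φ := by
    have : φ.toLinearMap = ((bS.baseChange k).equiv b (Equiv.refl n)).toLinearMap :=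
      (bS.baseChange k).ext fun a ↦ by
        rw [AlgHom.toLinearMap_apply, hφ a, LinearEquiv.coe_coe, Module.Basis.equiv_apply, Equiv.refl_apply]
    rw [show (φ : k ⊗[K i] S → L) = φ.toLinearMap from rfl, this]
    exact LinearEquiv.bijective _
  exact ⟨i, S, hF.toField, inferInstance, inferInstance, ⟨AlgEquiv.ofBijective φ hbij⟩⟩

end GeomRedFibLib
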