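import Groth.Agent.S9634
import Mathlib.RingTheory.Valuation.LocalSubring
import Mathlib.RingTheory.Polynomial.ScaleRoots
import Mathlib.RingTheory.TensorProduct.Free

/-!
# Integral closedness of tensor products over a field
-/

set_option autoImplicit false

universe u

open TensorProduct IsLocalRing

namespace GeomRedFibLib

variable {k : Type u} [Field k]

/-- The constants of a geometrically reduced algebra stay reduced over every field. -/
theorem isReduced_tensor_field (M : Type u) [CommRing M] [Algebra k M] [hM : Algebra.IsGeometricallyReduced k M]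
    (κ : Type u) [Field κ] [Algebra k κ] : IsReduced (κ ⊗[k] M) :=
  have h : ∀ (K : Type u) [Field K] [Algebra k K], IsReduced (K ⊗[k] M) :=
    ((Groth.Agent.S9634.result (k := k) (S := M)).out 1 2).mp hM
  h κ

/-- If `D` is integrally closed in the field `F` and `M` is geometrically reduced, then `D ⊗ M` is integrally
closed in `F ⊗ M`. -/
theorem mem_range_of_isIntegralElem (D F M : Type u) [CommRing D] [Field F] [CommRing M] [Algebra k D]
    [Algebra k F] [Algebra k M] [Algebra.IsGeometricallyReduced k M] (ι : D →ₐ[k] F)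
    (hι : ∀ x : F, ι.toRingHom.IsIntegralElem x → x ∈ ι.range)
    (z : F ⊗[k] M) (hz : (Algebra.TensorProduct.map ι (AlgHom.id k M)).toRingHom.IsIntegralElem z) :
    z ∈ (Algebra.TensorProduct.map ι (AlgHom.id k M)).range := by
  classical
  let Φ := Algebra.TensorProduct.map ι (AlgHom.id k M)
  let b := Module.Free.chooseBasis k M
  let bF := b.baseChange F
  suffices h : ∀ i, bF.repr z i ∈ ι.range by
    have hsum := bF.linearCombination_repr z
    rw [← hsum, Finsupp.linearCombination_apply]
    refine sum_mem fun i _ ↦ ?_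
    obtain ⟨d, hd⟩ := h i
    exact ⟨d ⊗ₜ b i, by
      simp only [AlgHom.toRingHom_eq_coe, RingHom.coe_coe] at hd ⊢
      simp [bF, hd, smul_tmul']⟩
  intro i
  by_contra hi
  let R : Subring F := ι.toRingHom.range
  haveI : IsIntegrallyClosedIn R F := Subring.isIntegrallyClosedIn_iff.mpr fun x hx ↦ by
    refine hι x ?_
    obtain ⟨p, hp, hpx⟩ := hx
    obtain ⟨p', hp', -, hp'm⟩ := Polynomial.lifts_and_degree_eq_and_monic
      (f := ι.toRingHom.rangeRestrict)
      (Polynomial.map_surjective _ ι.toRingHom.rangeRestrict_surjective p) hp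
    refine ⟨p', hp'm, ?_⟩
    rw [← hp', Polynomial.eval₂_map] at hpx
    exact hpx
  obtain ⟨V, hRV, hiV⟩ := Subring.exists_le_valuationSubring_of_isIntegrallyClosedIn (R := R)
    (x := bF.repr z i) (by simpa [R] using hi)
  -- the coefficient of maximal value
  let v := V.valuation
  have hne : (bF.repr z).support.Nonempty :=
    ⟨i, Finsupp.mem_support_iff.mpr fun h ↦ hiV (h ▸ V.zero_mem)⟩
  obtain ⟨j, hj, hmax⟩ := Finset.exists_max_image _ (fun l ↦ v (bF.repr z l)) hne
  let c := bF.repr z j
  have hc1 : 1 < v c := by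
    have : ¬ v (bF.repr z i) ≤ 1 := fun h ↦ hiV ((V.valuation_le_one_iff _).mp h)
    refine lt_of_lt_of_le (not_le.mp this) (hmax i ?_)
    exact Finsupp.mem_support_iff.mpr fun h ↦ hiV (h ▸ V.zero_mem)
  have hc0 : c ≠ 0 := fun h ↦ by simp [h] at hc1
  letI : Algebra k V.toSubring := ((algebraMap k F).codRestrict V.toSubring fun a ↦
    hRV ⟨algebraMap k D a, ι.commutes a⟩).toAlgebra
  let incV : V.toSubring →ₐ[k] F := { V.toSubring.subtype with commutes' := fun _ ↦ rfl }
  let ιV : D →ₐ[k] V.toSubring :=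
    { ι.toRingHom.codRestrict V.toSubring fun d ↦ hRV ⟨d, rfl⟩ with
      commutes' := fun a ↦ Subtype.ext (ι.commutes a) }
  haveI : IsLocalRing V.toSubring := inferInstanceAs (IsLocalRing V)
  let κ := ResidueField V.toSubring
  let Φ₁ := Algebra.TensorProduct.map ιV (AlgHom.id k M)
  let Φ₂ := Algebra.TensorProduct.map incV (AlgHom.id k M)
  let res := Algebra.TensorProduct.map (IsScalarTower.toAlgHom k V.toSubring κ) (AlgHom.id k M)
  have hΦ : ∀ w, Φ w = Φ₂ (Φ₁ w) := fun w ↦ by
    induction w using TensorProduct.induction_on with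
    | zero => simp
    | add x y hx hy => simp [map_add, hx, hy]
    | tmul d m => rfl
  have hinj : Function.Injective Φ₂ :=
    Module.Flat.rTensor_preserves_injective_linearMap incV.toLinearMap Subtype.val_injective
  have hmem : ∀ l, c⁻¹ * bF.repr z l ∈ V.toSubring := fun l ↦ by
    refine (V.valuation_le_one_iff _).mp ?_
    change v _ ≤ 1
    rw [map_mul, map_inv₀]
    refine (inv_mul_le_one₀ (lt_trans zero_lt_one hc1)).mpr ?_
    by_cases hl : l ∈ (bF.repr z).support
    · exact hmax l hl
    · simp [Finsupp.notMem_support_iff.mp hl]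
  let π : V.toSubring := ⟨c⁻¹, (V.valuation_le_one_iff _).mp
    (by change v _ ≤ 1; rw [map_inv₀]; exact inv_le_one_of_one_le₀ hc1.le)⟩
  have hπ : π ∈ maximalIdeal V.toSubring := fun hu ↦ by
    have := (V.valuation_eq_one_iff π).mp hu
    change v c⁻¹ = 1 at this
    rw [map_inv₀, inv_eq_one] at this
    exact hc1.ne' this
  let u : V.toSubring ⊗[k] M := ∑ l ∈ (bF.repr z).support, (⟨_, hmem l⟩ : V.toSubring) ⊗ₜ b l
  have hu : Φ₂ u = (c⁻¹ ⊗ₜ 1) * z := by
    conv_rhs => rw [← bF.linearCombination_repr z, Finsupp.linearCombination_apply, Finsupp.sum, Finset.mul_sum]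
    simp [u, Φ₂, incV, bF, smul_tmul']
  obtain ⟨p, hp, hpz⟩ := hz
  let p₁ := p.map Φ₁.toRingHom
  have h0 : Polynomial.eval₂ (RingHom.id _) u (p₁.scaleRoots (π ⊗ₜ 1)) = 0 := by
    apply hinj
    rw [map_zero]
    change Φ₂.toRingHom _ = 0
    rw [Polynomial.hom_eval₂, RingHom.comp_id]
    change Polynomial.eval₂ _ (Φ₂ u) _ = 0
    rw [hu]
    refine Polynomial.scaleRoots_eval₂_eq_zero Φ₂.toRingHom (s := π ⊗ₜ 1) ?_
    rw [Polynomial.eval₂_map, ← hpz]
    congr 1
    exact RingHom.ext fun w ↦ (hΦ w).symm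
  haveI : IsReduced (κ ⊗[k] M) := isReduced_tensor_field M κ
  have h1 : res u ^ p₁.natDegree = 0 := by
    have h2 := congrArg res.toRingHom h0
    rw [Polynomial.hom_eval₂, map_zero, RingHom.comp_id, ← Polynomial.eval_map] at h2
    rcases subsingleton_or_nontrivial (κ ⊗[k] M) with _ | _
    · exact Subsingleton.elim _ _
    have hlc : res.toRingHom p₁.leadingCoeff ≠ 0 := by
      rw [(hp.map _).leadingCoeff, map_one]; exact one_ne_zero
    have hπ0 : res.toRingHom (π ⊗ₜ 1) = 0 := by
      have : algebraMap V.toSubring κ π = 0 := (IsLocalRing.residue_eq_zero_iff π).mpr hπ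
      simp [res, this]
    rw [Polynomial.map_scaleRoots _ _ _ hlc, hπ0, Polynomial.scaleRoots_zero,
      ((hp.map _).map _).leadingCoeff, one_smul, (hp.map _).natDegree_map] at h2
    rw [Polynomial.eval_pow, Polynomial.eval_X] at h2
    exact h2
  have h3 : res u = 0 := IsNilpotent.eq_zero ⟨_, h1⟩
  have h4 := congrArg (fun w ↦ (b.baseChange κ).repr w j) h3
  have hcj : (⟨_, hmem j⟩ : V.toSubring) = 1 := Subtype.ext (inv_mul_cancel₀ hc0)
  simp [u, res, map_sum, Finsupp.finsetSum_apply, Module.Basis.baseChange_repr_tmul,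
    Finsupp.single_apply, Finset.sum_ite_eq', hj, hcj] at h4

/-- The same for a ring which is a field. -/
theorem mem_range_of_isIntegralElem_of_isField (D F M : Type u) [CommRing D] [CommRing F] (hF : IsField F)
    [CommRing M] [Algebra k D] [Algebra k F] [Algebra k M] [Algebra.IsGeometricallyReduced k M] (ι : D →ₐ[k] F)
    (hι : ∀ x : F, ι.toRingHom.IsIntegralElem x → x ∈ ι.range)
    (z : F ⊗[k] M) (hz : (Algebra.TensorProduct.map ι (AlgHom.id k M)).toRingHom.IsIntegralElem z) :
    z ∈ (Algebra.TensorProduct.map ι (AlgHom.id k M)).range := by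
  letI : Field F := { ‹CommRing F›, hF.toField with }
  exact mem_range_of_isIntegralElem D F M ι hι z hz

end GeomRedFibLib
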