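import Groth.Agent.GeomRedFibLib.NormalBCClosed
import Groth.Agent.GeomRedFibLib.TensorValuation
import Groth.Agent.GeomRedFibLib.Comp
import Mathlib.RingTheory.Ideal.MinimalPrime.Noetherian
import Mathlib.RingTheory.TensorProduct.Pi
import Mathlib.RingTheory.Localization.Integral

/-!
# Integral closure commutes with normal base change
-/

set_option autoImplicit false
set_option synthInstance.maxHeartbeats 400000
set_option maxHeartbeats 800000

universe u

open TensorProduct IsLocalRing Polynomial

namespace GeomRedFibLib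

variable {A : Type u} [CommRing A] [IsNoetherianRing A] {A' : Type u} [CommRing A'] [Algebra A A'] [Module.Flat A A']
  (hfib : ∀ (p : Ideal A) [p.IsPrime], Algebra.IsGeometricallyReduced p.ResidueField (p.Fiber A'))

include hfib in
/-- An integrally closed domain stays integrally closed in its fraction field after base change. -/
theorem intClosedMap_bc_domain (D F : Type u) [CommRing D] [IsDomain D] [IsIntegrallyClosed D] [Field F] [Algebra A D]
    [Algebra D F] [Algebra A F] [IsScalarTower A D F] [IsFractionRing D F] :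
    IntClosedMap (Algebra.TensorProduct.map (AlgHom.id A A') (IsScalarTower.toAlgHom A D F)).toRingHom := by
  intro z hz
  let Φ := Algebra.TensorProduct.map (AlgHom.id A A') (IsScalarTower.toAlgHom A D F)
  let I : Ideal D :=
    { carrier := {d | ∃ n, Φ n = (1 ⊗ₜ algebraMap D F d) * z}
      add_mem' := fun {a b} ⟨n, hn⟩ ⟨m, hm⟩ ↦ ⟨n + m, by rw [map_add, hn, hm, map_add, tmul_add, add_mul]⟩
      zero_mem' := ⟨0, by rw [map_zero, map_zero, tmul_zero, zero_mul]⟩
      smul_mem' := fun c a ⟨n, hn⟩ ↦ ⟨(1 ⊗ₜ c) * n, by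
        rw [map_mul, hn, smul_eq_mul, map_mul, ← mul_assoc]
        simp [Φ]⟩ }
  suffices hI : I = ⊤ by
    obtain ⟨n, hn⟩ := (hI ▸ Submodule.mem_top : (1 : D) ∈ I)
    exact ⟨n, by rw [map_one, ← Algebra.TensorProduct.one_def, one_mul] at hn; exact hn⟩
  by_contra hI
  obtain ⟨m, hm, hIm⟩ := Ideal.exists_le_maximal I hI
  haveI := hm.isPrime
  obtain ⟨S, _, _, hS⟩ : ∃ (S : Type u) (_ : CommRing S) (_ : Algebra D S), IsLocalization.AtPrime S m :=
    ⟨Localization.AtPrime m, inferInstance, inferInstance, inferInstance⟩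
  haveI := hS
  haveI : IsDomain S := IsLocalization.isDomain_of_le_nonZeroDivisors S m.primeCompl_le_nonZeroDivisors
  haveI : IsLocalRing S := IsLocalization.AtPrime.isLocalRing S m
  haveI : IsIntegrallyClosed S := isIntegrallyClosed_of_isLocalization S m.primeCompl m.primeCompl_le_nonZeroDivisors
  letI : Algebra A S := ((algebraMap D S).comp (algebraMap A D)).toAlgebra
  haveI : IsScalarTower A D S := .of_algebraMap_eq fun _ ↦ rfl
  let g : S →+* F := IsLocalization.lift (M := m.primeCompl) (g := algebraMap D F) fun y ↦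
    isUnit_iff_ne_zero.mpr fun h ↦ y.2 (by
      rw [(map_eq_zero_iff _ (IsFractionRing.injective D F)).mp h]; exact m.zero_mem)
  letI := g.toAlgebra
  haveI : IsScalarTower D S F := .of_algebraMap_eq fun x ↦ (IsLocalization.lift_eq _ x).symm
  haveI : IsScalarTower A S F := .of_algebraMap_eq fun a ↦ by
    rw [IsScalarTower.algebraMap_apply A D S, ← IsScalarTower.algebraMap_apply D S F, ← IsScalarTower.algebraMap_apply]
  haveI : IsFractionRing S F := IsFractionRing.isFractionRing_of_isDomain_of_isLocalization m.primeCompl S F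
  obtain ⟨c, hc⟩ := intClosedMap_bc_normal hfib S F z
    (isIntegralElem_of_comm (g := RingHom.id _) (h := (Algebra.TensorProduct.map (AlgHom.id A A') (IsScalarTower.toAlgHom A D S)).toRingHom)
      (fun v ↦ by
        induction v using TensorProduct.induction_on with
        | zero => simp
        | add x y hx hy => simp only [map_add, hx, hy]
        | tmul a b => simp [← IsScalarTower.algebraMap_apply]) hz)
  have key : ∀ c : A' ⊗[A] S, ∃ s ∉ m, ∃ n, Φ n = (1 ⊗ₜ algebraMap D F s) *
      Algebra.TensorProduct.map (AlgHom.id A A') (IsScalarTower.toAlgHom A S F) c := by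
    intro c
    induction c using TensorProduct.induction_on with
    | zero => exact ⟨1, m.primeCompl.one_mem, 0, by rw [map_zero, map_zero, mul_zero]⟩
    | tmul a y =>
      obtain ⟨⟨x, s⟩, hxs⟩ := IsLocalization.surj m.primeCompl y
      refine ⟨s, s.2, a ⊗ₜ x, ?_⟩
      simp only [Φ, Algebra.TensorProduct.map_tmul, AlgHom.id_apply, IsScalarTower.toAlgHom_apply,
        Algebra.TensorProduct.tmul_mul_tmul, one_mul]
      rw [IsScalarTower.algebraMap_apply D S F, IsScalarTower.algebraMap_apply D S F, ← hxs, map_mul, mul_comm]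
    | add u v hu hv =>
      obtain ⟨s, hs, n, hn⟩ := hu
      obtain ⟨t, ht, n', hn'⟩ := hv
      refine ⟨s * t, m.primeCompl.mul_mem hs ht, (1 ⊗ₜ t) * n + (1 ⊗ₜ s) * n', ?_⟩
      have hst : ((1 : A') ⊗ₜ[A] algebraMap D F (s * t)) = (1 ⊗ₜ algebraMap D F s) * (1 ⊗ₜ algebraMap D F t) := by
        rw [Algebra.TensorProduct.tmul_mul_tmul, one_mul, map_mul]
      rw [map_add, map_mul, map_mul, hn, hn', hst, map_add]
      simp only [Φ, Algebra.TensorProduct.map_tmul, AlgHom.id_apply, IsScalarTower.toAlgHom_apply]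
      ring
  obtain ⟨s, hs, n, hn⟩ := key c
  exact hs (hIm ⟨n, hn.trans (congrArg _ hc)⟩)

include hfib in
/-- A subfield algebraically closed in a field stays integrally closed after base change. -/
theorem intClosedMap_bc_subfield (F K : Type u) [Field F] [Field K] [Algebra A F] [Algebra F K] [Algebra A K]
    [IsScalarTower A F K] (hF : ∀ x : K, IsIntegral F x → ∃ y, algebraMap F K y = x) :
    IntClosedMap (Algebra.TensorProduct.map (AlgHom.id A A') (IsScalarTower.toAlgHom A F K)).toRingHom := by
  let M := F ⊗[A] A'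
  haveI : Algebra.IsGeometricallyReduced F M := by
    rw [Algebra.isGeometricallyReduced_field_iff]
    let Ω := AlgebraicClosure F
    haveI : IsReduced (A' ⊗[A] Ω) := isReduced_tensor A A' Ω hfib
    exact isReduced_of_injective
      ((Algebra.TensorProduct.cancelBaseChange A F F Ω A').toRingEquiv.trans
        (Algebra.TensorProduct.comm A Ω A').toRingEquiv) (RingEquiv.injective _)
  let eF : F ⊗[F] M ≃+* A' ⊗[A] F := (Algebra.TensorProduct.lid F M).toRingEquiv.trans
    (Algebra.TensorProduct.comm A F A').toRingEquiv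
  let eK : K ⊗[F] M ≃+* A' ⊗[A] K := (Algebra.TensorProduct.cancelBaseChange A F F K A').toRingEquiv.trans
    (Algebra.TensorProduct.comm A K A').toRingEquiv
  let Φ := Algebra.TensorProduct.map (AlgHom.id A A') (IsScalarTower.toAlgHom A F K)
  let Ψ := Algebra.TensorProduct.map (Algebra.ofId F K) (AlgHom.id F M)
  have hcomm : ∀ w, eK (Ψ w) = Φ (eF w) := fun w ↦ by
    induction w using TensorProduct.induction_on with
    | zero => simp
    | add x y hx hy => simp only [map_add, hx, hy]
    | tmul c u =>
      induction u using TensorProduct.induction_on with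
      | zero => simp
      | add x y hx hy => simp only [tmul_add, map_add, hx, hy]
      | tmul f a => simp [eK, eF, Φ, Ψ, M, smul_tmul', Algebra.smul_def, mul_comm]
  intro z hz
  obtain ⟨c, hc⟩ := mem_range_of_isIntegralElem F K M (Algebra.ofId F K) (fun x hx ↦ hF x hx) (eK.symm z)
    (isIntegralElem_of_comm (f := Φ.toRingHom) (f' := Ψ.toRingHom) (g := eK.symm.toRingHom) (h := eF.symm.toRingHom)
      (fun v ↦ eK.injective (by simpa using (hcomm (eF.symm v)).symm)) hz)
  exact ⟨eF c, (hcomm c).symm.trans ((congrArg eK hc).trans (eK.apply_symm_apply z))⟩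

include hfib in
/-- A ring integrally closed in a field stays so after base change. -/
theorem intClosedMap_bc_field (D K : Type u) [CommRing D] [IsDomain D] [Field K] [Algebra A D] [Algebra D K]
    [Algebra A K] [IsScalarTower A D K] (hinj : Function.Injective (algebraMap D K))
    (hD : ∀ x : K, IsIntegral D x → ∃ y, algebraMap D K y = x) :
    IntClosedMap (Algebra.TensorProduct.map (AlgHom.id A A') (IsScalarTower.toAlgHom A D K)).toRingHom := by
  obtain ⟨F, _, _, _⟩ := exists_fractionField D
  letI : Algebra A F := ((algebraMap D F).comp (algebraMap A D)).toAlgebra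
  haveI : IsScalarTower A D F := .of_algebraMap_eq fun _ ↦ rfl
  letI : Algebra F K := (IsFractionRing.lift hinj).toAlgebra
  haveI : IsScalarTower D F K := .of_algebraMap_eq fun x ↦ (IsFractionRing.lift_algebraMap hinj x).symm
  haveI : IsScalarTower A F K := .of_algebraMap_eq fun a ↦ by
    rw [IsScalarTower.algebraMap_apply A D F, ← IsScalarTower.algebraMap_apply D F K, ← IsScalarTower.algebraMap_apply]
  haveI : IsIntegrallyClosed D := (isIntegrallyClosed_iff F).mpr fun {x} hx ↦ by
    obtain ⟨y, hy⟩ := hD (algebraMap F K x) (hx.map (IsScalarTower.toAlgHom D F K))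
    exact ⟨y, (algebraMap F K).injective (by rw [← IsScalarTower.algebraMap_apply, hy])⟩
  have hF : ∀ x : K, IsIntegral F x → ∃ y, algebraMap F K y = x := fun x hx ↦ by
    obtain ⟨s, hs⟩ := IsIntegral.exists_multiple_integral_of_isLocalization (nonZeroDivisors D) x hx
    obtain ⟨y, hy⟩ := hD _ hs
    refine ⟨algebraMap D F y / algebraMap D F s, ?_⟩
    have hs0 : algebraMap D K (s : D) ≠ 0 := fun h ↦
      nonZeroDivisors.ne_zero s.2 ((map_eq_zero_iff _ hinj).mp h)
    rw [map_div₀, ← IsScalarTower.algebraMap_apply, ← IsScalarTower.algebraMap_apply, hy, Submonoid.smul_def,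
      Algebra.smul_def, mul_div_cancel_left₀ _ hs0]
  have h := (intClosedMap_bc_domain hfib D F).comp (intClosedMap_bc_subfield hfib F K hF)
    (bc_injective _ (algebraMap F K).injective)
  have he : (Algebra.TensorProduct.map (AlgHom.id A A') (IsScalarTower.toAlgHom A F K)).toRingHom.comp
      (Algebra.TensorProduct.map (AlgHom.id A A') (IsScalarTower.toAlgHom A D F)).toRingHom =
      (Algebra.TensorProduct.map (AlgHom.id A A') (IsScalarTower.toAlgHom A D K)).toRingHom := by
    refine RingHom.ext fun v ↦ ?_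
    induction v using TensorProduct.induction_on with
    | zero => simp
    | add x y hx hy => simp only [map_add, hx, hy]
    | tmul a b => simp [← IsScalarTower.algebraMap_apply]
  rw [he] at h
  exact h

include hfib in
/-- A subalgebra integrally closed in a Noetherian algebra stays so after base change. -/
theorem intClosedMap_bc_noetherian (C : Type u) [CommRing C] [IsNoetherianRing C] [Algebra A C] (D : Subalgebra A C)
    (hD : ∀ x : C, IsIntegral D x → x ∈ D) :
    IntClosedMap (Algebra.TensorProduct.map (AlgHom.id A A') D.val).toRingHom := by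
  classical
  intro z hz
  let ι := minimalPrimes C
  haveI : Finite ι := (minimalPrimes.finite_of_isNoetherianRing C).to_subtype
  haveI : Fintype ι := Fintype.ofFinite ι
  haveI : ∀ P : ι, (P.1).IsPrime := fun P ↦ P.2.1.1
  let K := fun P : ι ↦ (P.1).ResidueField
  let π : ∀ P : ι, C →ₐ[A] K P := fun P ↦ IsScalarTower.toAlgHom A C (K P)
  let T : ∀ P : ι, Subalgebra A (K P) := fun P ↦
    (integralClosure (D.map (π P)) (K P)).restrictScalars A
  have hT : ∀ (P : ι) (x : K P), IsIntegral (T P) x → x ∈ T P := fun P x hx ↦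
    (mem_integralClosure_iff _ _).mpr (isIntegral_trans (R := D.map (π P)) (A := integralClosure (D.map (π P)) (K P)) x hx)
  have hDT : ∀ (P : ι) (d : C), d ∈ D → π P d ∈ T P := fun P d hd ↦
    (mem_integralClosure_iff _ _).mpr
      (isIntegral_algebraMap (x := (⟨π P d, d, hd, rfl⟩ : D.map (π P))) (A := K P))
  let Q := fun P : ι ↦ (K P) ⧸ Subalgebra.toSubmodule (T P)
  let ψ : C →ₗ[A] ∀ P, Q P := LinearMap.pi fun P ↦ (Submodule.mkQ _).comp (π P).toLinearMap
  let incl : D →ₗ[A] C := D.val.toLinearMap
  have hex : Function.Exact incl ψ := fun c ↦ by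
    constructor
    · intro hc
      have hP : ∀ P : ι, ∃ p : D[X], p.Monic ∧ p.eval₂ (algebraMap D C) c ∈ P.1 := fun P ↦ by
        have hcT : π P c ∈ T P := (Submodule.Quotient.mk_eq_zero _).mp (congrFun hc P)
        obtain ⟨p, hp, hpc⟩ := (mem_integralClosure_iff _ _).mp hcT
        let πD : D →+* D.map (π P) := ((π P).toRingHom.comp D.val.toRingHom).codRestrict (D.map (π P)).toSubring
          fun d ↦ ⟨d, d.2, rfl⟩
        obtain ⟨p₀, hp₀, -, hp₀m⟩ := Polynomial.lifts_and_degree_eq_and_monic (f := πD)
          (Polynomial.map_surjective _ (fun ⟨y, d, hd, hy⟩ ↦ ⟨⟨d, hd⟩, Subtype.ext hy⟩) p) hp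
        refine ⟨p₀, hp₀m, ?_⟩
        rw [← Ideal.algebraMap_residueField_eq_zero (I := P.1)]
        rw [← hp₀, eval₂_map] at hpc
        rw [hom_eval₂]
        exact hpc
      choose p hp hpc using hP
      have hnil : IsNilpotent ((∏ P : ι, p P).eval₂ (algebraMap D C) c) := by
        rw [← mem_nilradical, nilradical_eq_sInf, Ideal.mem_sInf]
        intro Q hQ
        haveI : Q.IsPrime := hQ
        obtain ⟨P, hP, hPQ⟩ := Ideal.exists_minimalPrimes_le (I := ⊥) (J := Q) bot_le
        rw [eval₂_finsetProd, ← Finset.mul_prod_erase _ _ (Finset.mem_univ (⟨P, hP⟩ : ι))]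
        exact Ideal.mul_mem_right _ _ (hPQ (hpc ⟨P, hP⟩))
      obtain ⟨N, hN⟩ := hnil
      exact ⟨⟨c, hD c ⟨(∏ P : ι, p P) ^ N, (monic_prod_of_monic _ _ fun P _ ↦ hp P).pow N, by rw [eval₂_pow, hN]⟩⟩, rfl⟩
    · rintro ⟨d, rfl⟩
      funext P
      exact (Submodule.Quotient.mk_eq_zero _).mpr (hDT P d d.2)
  have hzero : LinearMap.lTensor A' ψ z = 0 := by
    apply (TensorProduct.piRight A A A' Q).injective
    rw [map_zero]
    funext P
    have hproj : ∀ v : A' ⊗[A] C, TensorProduct.piRight A A A' Q (LinearMap.lTensor A' ψ v) P =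
        LinearMap.lTensor A' (Submodule.mkQ (Subalgebra.toSubmodule (T P)))
          (Algebra.TensorProduct.map (AlgHom.id A A') (π P) v) := fun v ↦ by
      induction v using TensorProduct.induction_on with
      | zero => simp
      | add x y hx hy => rw [map_add, map_add, Pi.add_apply, hx, hy, map_add, map_add]
      | tmul a b => simp [ψ]
    rw [hproj]
    let i : D →ₐ[A] T P := ((π P).comp D.val).codRestrict (T P) fun d ↦ hDT P d d.2
    obtain ⟨v, hv⟩ := intClosedMap_bc_field hfib (T P) (K P) Subtype.val_injective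
      (fun x hx ↦ ⟨⟨x, hT P x hx⟩, rfl⟩)
      (Algebra.TensorProduct.map (AlgHom.id A A') (π P) z)
      (isIntegralElem_of_comm (g := (Algebra.TensorProduct.map (AlgHom.id A A') (π P)).toRingHom)
        (h := (Algebra.TensorProduct.map (AlgHom.id A A') i).toRingHom) (fun w ↦ by
          induction w using TensorProduct.induction_on with
          | zero => simp
          | add x y hx hy => simp only [map_add, hx, hy]
          | tmul a b => rfl) hz)
    rw [← hv]
    show _ = (0 : ∀ P, A' ⊗[A] Q P) P
    clear hv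
    induction v using TensorProduct.induction_on with
    | zero => rw [map_zero, map_zero]; rfl
    | add x y hx hy => rw [map_add, map_add, hx, hy]; exact add_zero _
    | tmul a b =>
      show a ⊗ₜ[A] Submodule.Quotient.mk (b : K P) = 0
      rw [(Submodule.Quotient.mk_eq_zero _).mpr b.2, tmul_zero]
  obtain ⟨w, hw⟩ := (lTensor_exact A' (M := D) (N := C) (P := LinearMap.range ψ) (f := incl) (g := ψ.rangeRestrict)
    (fun x ↦ by rw [← hex x]; exact ⟨fun h ↦ congrArg Subtype.val h, fun h ↦ Subtype.ext h⟩)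
    ψ.surjective_rangeRestrict z).mp (by
      apply Module.Flat.lTensor_preserves_injective_linearMap (LinearMap.range ψ).subtype (Submodule.subtype_injective _)
      rw [map_zero, ← LinearMap.comp_apply, ← LinearMap.lTensor_comp,
        show (LinearMap.range ψ).subtype.comp ψ.rangeRestrict = ψ from rfl, hzero])
  exact ⟨w, hw⟩

include hfib in
/-- A subalgebra integrally closed in an algebra stays so after base change. -/
theorem intClosedMap_bc_subalgebra (C : Type u) [CommRing C] [Algebra A C] (D : Subalgebra A C)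
    (hD : ∀ x : C, IsIntegral D x → x ∈ D) :
    IntClosedMap (Algebra.TensorProduct.map (AlgHom.id A A') D.val).toRingHom := by
  classical
  intro z hz
  obtain ⟨p, hp, hpz⟩ := hz
  obtain ⟨N, hN, hs⟩ := TensorProduct.exists_finite_submodule_right_of_setFinite
    (p.coeffs : Set (A' ⊗[A] D)) p.coeffs.finite_toSet
  obtain ⟨M, hM, hs'⟩ := TensorProduct.exists_finite_submodule_right_of_setFinite ({z} : Set (A' ⊗[A] C)) (Set.finite_singleton z)
  obtain ⟨s, hsN⟩ := Module.Finite.iff_fg.mp hN
  obtain ⟨t, htM⟩ := Module.Finite.iff_fg.mp hM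
  let C₀ := Algebra.adjoin A ((↑(s.image (fun d : D ↦ (d : C)) ∪ t) : Set C))
  haveI : Algebra.FiniteType A C₀ := (Subalgebra.fg_iff_finiteType C₀).mp ⟨_, rfl⟩
  haveI : IsNoetherianRing C₀ := Algebra.FiniteType.isNoetherianRing A C₀
  let D₀ : Subalgebra A C₀ := D.comap C₀.val
  let iD : D₀ →ₐ[A] D := (C₀.val.comp D₀.val).codRestrict D fun x ↦ x.2
  have hD₀ : ∀ x : C₀, IsIntegral D₀ x → x ∈ D₀ := fun x hx ↦
    hD x (isIntegralElem_of_comm (f := algebraMap D₀ C₀) (f' := algebraMap D C) (g := C₀.val.toRingHom) (h := iD.toRingHom)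
      (fun _ ↦ rfl) hx)
  let J := Algebra.TensorProduct.map (AlgHom.id A A') C₀.val
  let I := Algebra.TensorProduct.map (AlgHom.id A A') iD
  let Φ₀ := Algebra.TensorProduct.map (AlgHom.id A A') D₀.val
  let Φ := Algebra.TensorProduct.map (AlgHom.id A A') D.val
  have hcomm : ∀ v, J (Φ₀ v) = Φ (I v) := fun v ↦ by
    induction v using TensorProduct.induction_on with
    | zero => simp
    | add x y hx hy => simp only [map_add, hx, hy]
    | tmul a b => rfl
  have hlift : p ∈ Polynomial.lifts I.toRingHom := (Polynomial.lifts_iff_coeff_lifts p).mpr fun m ↦ by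
    by_cases hm : p.coeff m = 0
    · exact ⟨0, by rw [hm, map_zero]⟩
    obtain ⟨v, hv⟩ := hs (coeff_mem_coeffs hm)
    rw [← hv]
    clear hv
    induction v using TensorProduct.induction_on with
    | zero => exact ⟨0, by rw [map_zero, map_zero]⟩
    | add x y hx hy =>
      obtain ⟨a, ha⟩ := hx; obtain ⟨b, hb⟩ := hy
      exact ⟨a + b, by rw [map_add, map_add, ha, hb]⟩
    | tmul a d =>
      have hd : ((d : D) : C) ∈ C₀ := by
        have h : Submodule.span A (s : Set D) ≤ (Subalgebra.toSubmodule C₀).comap D.val.toLinearMap :=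
          Submodule.span_le.mpr fun x hx ↦ Algebra.subset_adjoin (Finset.mem_union_left _ (Finset.mem_image_of_mem _ hx))
        exact h (hsN ▸ d.2)
      exact ⟨a ⊗ₜ ⟨⟨_, hd⟩, (d : D).2⟩, rfl⟩
  obtain ⟨p₀, hp₀, -, hp₀m⟩ := Polynomial.lifts_and_natDegree_eq_and_monic hlift hp
  obtain ⟨z₀, hz₀⟩ : ∃ z₀, J z₀ = z := by
    obtain ⟨v, hv⟩ := hs' rfl
    rw [← hv]
    clear hv
    induction v using TensorProduct.induction_on with
    | zero => exact ⟨0, by rw [map_zero, map_zero]⟩
    | add x y hx hy =>
      obtain ⟨a, ha⟩ := hx; obtain ⟨b, hb⟩ := hy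
      exact ⟨a + b, by rw [map_add, map_add, ha, hb]⟩
    | tmul a c =>
      have hc : (c : C) ∈ C₀ := by
        have h : Submodule.span A (t : Set C) ≤ Subalgebra.toSubmodule C₀ :=
          Submodule.span_le.mpr fun x hx ↦ Algebra.subset_adjoin (Finset.mem_union_right _ hx)
        exact h (htM ▸ c.2)
      exact ⟨a ⊗ₜ ⟨_, hc⟩, rfl⟩
  obtain ⟨c, hc⟩ := intClosedMap_bc_noetherian hfib C₀ D₀ hD₀ z₀ ⟨p₀, hp₀m, bc_injective _ Subtype.val_injective (by
    show J _ = J 0
    rw [map_zero, ← hpz, ← hp₀, eval₂_map, ← hz₀]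
    refine (hom_eval₂ p₀ Φ₀.toRingHom J.toRingHom z₀).trans ?_
    congr 1
    exact RingHom.ext hcomm)⟩
  exact ⟨I c, (hcomm c).symm.trans ((congrArg J hc).trans hz₀)⟩

end GeomRedFibLib
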