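import Groth.Agent.GeomRedFibLib.TensorValuation
import Groth.Agent.GeomRedFieldLib.Algebra
import Mathlib.RingTheory.Localization.BaseChange
import Mathlib.RingTheory.LocalProperties.Basic
import Mathlib.FieldTheory.PurelyInseparable.PerfectClosure
import Groth.Prelude.Def_EGA4b

/-!
# Tensor products integrally closed in their ambient rings
-/

set_option autoImplicit false
set_option synthInstance.maxHeartbeats 400000

universe u

open TensorProduct IsLocalRing Polynomial

namespace GeomRedFibLib

/-- Every element integral along the map lies in the image. -/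
def IntClosedMap {C E : Type u} [CommRing C] [CommRing E] (f : C →+* E) : Prop :=
  ∀ z, f.IsIntegralElem z → ∃ c, f c = z

theorem isIntegralElem_of_comm {C E C' E' : Type u} [CommRing C] [CommRing E] [CommRing C'] [CommRing E']
    {f : C →+* E} {f' : C' →+* E'} {g : E →+* E'} {h : C →+* C'} (hc : ∀ c, g (f c) = f' (h c))
    {z : E} (hz : f.IsIntegralElem z) : f'.IsIntegralElem (g z) := by
  obtain ⟨p, hp, hpz⟩ := hz
  refine ⟨p.map h, hp.map h, ?_⟩
  rw [eval₂_map, ← show g.comp f = f'.comp h from RingHom.ext hc, ← hom_eval₂, hpz, map_zero]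

theorem IntClosedMap.comp {C D E : Type u} [CommRing C] [CommRing D] [CommRing E] {f : C →+* D} {g : D →+* E}
    (hf : IntClosedMap f) (hg : IntClosedMap g) (hgi : Function.Injective g) : IntClosedMap (g.comp f) := by
  intro z hz
  obtain ⟨y, rfl⟩ := hg z (by simpa using isIntegralElem_of_comm (g := RingHom.id E) (h := f) (f' := g) (fun _ ↦ rfl) hz)
  obtain ⟨p, hp, hpz⟩ := hz
  obtain ⟨c, rfl⟩ := hf y ⟨p, hp, hgi (by rw [hom_eval₂, hpz, map_zero])⟩
  exact ⟨c, rfl⟩

/-- A normal ring is integrally closed in its localisations at non-zero-divisors. -/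
theorem intClosedMap_of_isNormalRing (D E : Type u) [CommRing D] [CommRing E] [Algebra D E] (hD : EGA4.IsNormalRing D)
    (W : Submonoid D) [IsLocalization W E] (hW : W ≤ nonZeroDivisors D) : IntClosedMap (algebraMap D E) := by
  intro z hz
  obtain ⟨⟨a, w⟩, rfl⟩ := IsLocalization.mk'_surjective W z
  suffices h : a ∈ Ideal.span {(w : D)} by
    obtain ⟨b, hb⟩ := Ideal.mem_span_singleton'.mp h
    exact ⟨b, (IsLocalization.eq_mk'_iff_mul_eq).mpr (by rw [← map_mul, hb])⟩
  refine Ideal.mem_of_localization_maximal fun m hm ↦ ?_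
  haveI := (hD m).1
  haveI := (hD m).2
  let g := algebraMap D (Localization.AtPrime m)
  let K := FractionRing (Localization.AtPrime m)
  let q := algebraMap (Localization.AtPrime m) K
  have hne : ∀ v : W, g v ≠ 0 := fun v h ↦ by
    obtain ⟨c, hc⟩ := (IsLocalization.map_eq_zero_iff m.primeCompl _ (v : D)).mp h
    exact c.2 (((mem_nonZeroDivisors_iff.mp (hW v.2)).2 c hc) ▸ m.zero_mem)
  have hu : ∀ v : W, IsUnit ((q.comp g) v) := fun v ↦
    isUnit_iff_ne_zero.mpr fun h ↦ hne v ((map_eq_zero_iff q (IsFractionRing.injective _ K)).mp h)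
  let l : E →+* K := IsLocalization.lift (M := W) hu
  obtain ⟨y, hy⟩ := IsIntegrallyClosed.isIntegral_iff.mp
    (show IsIntegral (Localization.AtPrime m) (l (IsLocalization.mk' E a w)) from
      isIntegralElem_of_comm (g := l) (h := g) (fun c ↦ IsLocalization.lift_eq hu c) hz)
  rw [Ideal.map_span, Set.image_singleton, Ideal.mem_span_singleton']
  refine ⟨y, ?_⟩
  apply IsFractionRing.injective (Localization.AtPrime m) K
  have h := congrArg l (IsLocalization.mk'_spec E a w)
  rw [map_mul, IsLocalization.lift_eq, IsLocalization.lift_eq, ← hy] at h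
  rw [map_mul]
  exact h

variable {k : Type u} [Field k] {A F : Type u} [CommRing A] [Field F] [Algebra k A] [Algebra k F]

/-- The base change of a map of algebras. -/
abbrev bcMap (ι : A →ₐ[k] F) (L : Type u) [CommRing L] [Algebra k L] : L ⊗[k] A →ₐ[k] L ⊗[k] F :=
  Algebra.TensorProduct.map (AlgHom.id k L) ι

theorem bcMap_injective {ι : A →ₐ[k] F} (hι : Function.Injective ι) (L : Type u) [CommRing L] [Algebra k L] :
    Function.Injective (bcMap ι L) :=
  Module.Flat.lTensor_preserves_injective_linearMap ι.toLinearMap hι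

theorem bcMap_comm (ι : A →ₐ[k] F) {K L : Type u} [CommRing K] [CommRing L] [Algebra k K] [Algebra k L]
    (j : K →ₐ[k] L) (c : K ⊗[k] A) :
    Algebra.TensorProduct.map j (AlgHom.id k F) (bcMap ι K c) =
      bcMap ι L (Algebra.TensorProduct.map j (AlgHom.id k A) c) := by
  induction c using TensorProduct.induction_on with
  | zero => simp
  | add x y hx hy => simp only [map_add, hx, hy]
  | tmul a b => simp

/-- Integral closedness descends along an extension of the base. -/
theorem intClosedMap_bcMap_of_bc (ι : A →ₐ[k] F) {K L : Type u} [CommRing K] [CommRing L] [Algebra k K]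
    [Algebra k L] (j : K →ₐ[k] L) (hj : Function.Injective j) (h : IntClosedMap (bcMap ι L).toRingHom) :
    IntClosedMap (bcMap ι K).toRingHom := by
  intro z hz
  obtain ⟨y, hy⟩ := h _ (isIntegralElem_of_comm (g := (Algebra.TensorProduct.map j (AlgHom.id k F)).toRingHom)
    (h := (Algebra.TensorProduct.map j (AlgHom.id k A)).toRingHom) (bcMap_comm ι j) hz)
  obtain ⟨r, hr⟩ := LinearMap.exists_leftInverse_of_injective j.toLinearMap (LinearMap.ker_eq_bot.mpr hj)
  have hrj : ∀ x, r (j x) = x := fun x ↦ LinearMap.congr_fun hr x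
  refine ⟨TensorProduct.map r LinearMap.id y, ?_⟩
  have h1 : ∀ w : K ⊗[k] F, TensorProduct.map r LinearMap.id (Algebra.TensorProduct.map j (AlgHom.id k F) w) = w := by
    intro w
    induction w using TensorProduct.induction_on with
    | zero => simp
    | add x y hx hy => simp only [map_add, hx, hy]
    | tmul a b => simp [hrj]
  have h2 : ∀ w : L ⊗[k] A, bcMap ι K (TensorProduct.map r LinearMap.id w) =
      TensorProduct.map r LinearMap.id (bcMap ι L w) := by
    intro w
    induction w using TensorProduct.induction_on with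
    | zero => simp
    | add x y hx hy => simp only [map_add, hx, hy]
    | tmul a b => simp
  exact ((h2 y).trans (congrArg _ hy)).trans (h1 z)

set_option maxHeartbeats 800000 in
/-- Integral closedness passes to geometrically reduced extensions of the base field. -/
theorem intClosedMap_bcMap_up (ι : A →ₐ[k] F) (P L : Type u) [Field P] [Algebra k P] [CommRing L] [Algebra k L]
    [Algebra P L] [IsScalarTower k P L] [Algebra.IsGeometricallyReduced P L] (hfield : IsField (P ⊗[k] F))
    (hP : IntClosedMap (bcMap ι P).toRingHom) : IntClosedMap (bcMap ι L).toRingHom := by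
  let ιP : P ⊗[k] A →ₐ[P] P ⊗[k] F := Algebra.TensorProduct.map (AlgHom.id P P) ι
  have hιP : (ιP : P ⊗[k] A → P ⊗[k] F) = bcMap ι P := by
    funext w
    induction w using TensorProduct.induction_on with
    | zero => simp
    | add x y hx hy => simp only [map_add, hx, hy]
    | tmul a b => simp [ιP]
  intro z hz
  let eA : (P ⊗[k] A) ⊗[P] L ≃+* L ⊗[k] A := (Algebra.TensorProduct.comm P (P ⊗[k] A) L).toRingEquiv.trans
    (Algebra.TensorProduct.cancelBaseChange k P P L A).toRingEquiv
  let eF : (P ⊗[k] F) ⊗[P] L ≃+* L ⊗[k] F := (Algebra.TensorProduct.comm P (P ⊗[k] F) L).toRingEquiv.trans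
    (Algebra.TensorProduct.cancelBaseChange k P P L F).toRingEquiv
  have hcomm : ∀ w, eF (Algebra.TensorProduct.map ιP (AlgHom.id P L) w) = bcMap ι L (eA w) := by
    intro w
    induction w using TensorProduct.induction_on with
    | zero => simp
    | add x y hx hy => simp only [map_add, hx, hy]
    | tmul u l =>
      induction u using TensorProduct.induction_on with
      | zero => simp
      | add x y hx hy => simp only [add_tmul, map_add, hx, hy]
      | tmul c a => simp [eA, eF, ιP, bcMap]
  obtain ⟨y, hy⟩ := mem_range_of_isIntegralElem_of_isField (P ⊗[k] A) (P ⊗[k] F) L hfield ιP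
    (fun x hx ↦ by
      have hring : (ιP : P ⊗[k] A →ₐ[P] P ⊗[k] F).toRingHom = (bcMap ι P).toRingHom :=
        RingHom.ext fun w ↦ congrFun hιP w
      rw [hring] at hx
      obtain ⟨c, hc⟩ := hP x hx
      exact ⟨c, (congrFun hιP c).trans hc⟩)
    (eF.symm z) (isIntegralElem_of_comm (C' := (P ⊗[k] A) ⊗[P] L) (E' := (P ⊗[k] F) ⊗[P] L) (f := (bcMap ι L).toRingHom)
      (f' := (Algebra.TensorProduct.map ιP (AlgHom.id P L)).toRingHom) (g := eF.symm.toRingHom) (h := eA.symm.toRingHom)
      (fun c ↦ eF.injective (by simpa using (hcomm (eA.symm c)).symm)) hz)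
  exact ⟨eA y, (hcomm y).symm.trans ((congrArg eF hy).trans (eF.apply_symm_apply z))⟩

/-- Finitely many elements of `P ⊗ S` come from a finite subextension. -/
theorem exists_finset_mem_range_incl {k : Type u} [Field k] (P : Type u) [Field P] [Algebra k P]
    [Algebra.IsAlgebraic k P] (S : Type u) [CommRing S] [Algebra k S] (s : Finset (P ⊗[k] S)) :
    ∃ C : IntermediateField k P, FiniteDimensional k C ∧
      ∀ z ∈ s, z ∈ Set.range (GeomRedFieldLib.incl (k := k) P ↥C S) := by
  classical
  choose C hC x hx using fun z : P ⊗[k] S ↦ GeomRedFieldLib.exists_mem_range_incl P S z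
  haveI := hC
  refine ⟨⨆ z ∈ s, C z, IntermediateField.finiteDimensional_iSup_of_finset, fun z hz ↦ ?_⟩
  let t := Algebra.TensorProduct.map (IntermediateField.inclusion (le_biSup (fun z ↦ C z) hz)) (AlgHom.id k S)
  refine ⟨t (x z), ?_⟩
  conv_rhs => rw [← hx z]
  rw [← AlgHom.comp_apply, GeomRedFieldLib.incl, GeomRedFieldLib.incl, ← Algebra.TensorProduct.map_comp]
  rfl

variable [IsDomain A] [Algebra A F] [IsScalarTower k A F] [IsFractionRing A F]

theorem intClosedMap_finite (hA : EGA4.IsGeomNormal k A) (C : Type u) [Field C] [Algebra k C] [Module.Finite k C] :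
    IntClosedMap (bcMap (IsScalarTower.toAlgHom k A F) C).toRingHom := by
  let ι := IsScalarTower.toAlgHom k A F
  letI : Algebra (C ⊗[k] A) (C ⊗[k] F) := (bcMap ι C).toRingHom.toAlgebra
  haveI : IsScalarTower C (C ⊗[k] A) (C ⊗[k] F) :=
    .of_algebraMap_eq fun c ↦ by simp [RingHom.algebraMap_toAlgebra, bcMap]
  let M := nonZeroDivisors A
  haveI := IsLocalization.tensorProduct_tensorProduct_right k C M F
    (by ext a; simp [RingHom.algebraMap_toAlgebra, bcMap, ι])
  refine intClosedMap_of_isNormalRing (C ⊗[k] A) (C ⊗[k] F) (hA C inferInstance)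
    (M.map (Algebra.TensorProduct.includeRight (R := k) (A := C) (B := A))) fun x hx ↦ ?_
  rw [mem_nonZeroDivisors_iff_right]
  intro y hy
  have hu := IsLocalization.map_units (C ⊗[k] F) (⟨x, hx⟩ : M.map (Algebra.TensorProduct.includeRight (R := k) (A := C) (B := A)))
  apply bcMap_injective (ι := ι) (IsFractionRing.injective A F) C
  rw [map_zero]
  refine hu.mul_left_eq_zero.mp ?_
  have h := congrArg (bcMap ι C) hy
  rwa [map_mul, map_zero] at h

/-- A geometrically normal domain stays integrally closed after every extension of the base field. -/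
theorem intClosedMap_bcMap [IsIntegrallyClosed A] [Algebra.IsGeometricallyReduced k F]
    (hA : EGA4.IsGeomNormal k A) (K : Type u) [Field K] [Algebra k K] :
    IntClosedMap (bcMap (IsScalarTower.toAlgHom k A F) K).toRingHom := by
  classical
  let ι := IsScalarTower.toAlgHom k A F
  let L := AlgebraicClosure K
  haveI : PerfectField L := inferInstance
  let P := perfectClosure k L
  haveI : PerfectField P := perfectClosure.perfectField k L
  -- over the perfect closure
  have hP : IntClosedMap (bcMap ι P).toRingHom := by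
    intro z hz
    obtain ⟨p, hp, hpz⟩ := hz
    obtain ⟨C₁, hC₁, hA₁⟩ := exists_finset_mem_range_incl P A p.coeffs
    obtain ⟨C₂, hC₂, hF₂⟩ := exists_finset_mem_range_incl P F {z}
    haveI := hC₁; haveI := hC₂
    let C : IntermediateField k P := C₁ ⊔ C₂
    let jA := Algebra.TensorProduct.map C.val (AlgHom.id k A)
    let jF := Algebra.TensorProduct.map C.val (AlgHom.id k F)
    have lift : ∀ (D : IntermediateField k P) (_ : D ≤ C) (S : Type u) [CommRing S] [Algebra k S] (w : P ⊗[k] S),
        w ∈ Set.range (GeomRedFieldLib.incl (k := k) P ↥D S) →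
        w ∈ Set.range (Algebra.TensorProduct.map C.val (AlgHom.id k S)) := by
      rintro D hD S _ _ _ ⟨u, rfl⟩
      refine ⟨Algebra.TensorProduct.map (IntermediateField.inclusion hD) (AlgHom.id k S) u, ?_⟩
      rw [← AlgHom.comp_apply, GeomRedFieldLib.incl, ← Algebra.TensorProduct.map_comp]
      rfl
    obtain ⟨z₀, hz₀⟩ := lift C₂ le_sup_right F z (hF₂ z (Finset.mem_singleton_self z))
    have hp₀ : p ∈ Polynomial.lifts jA.toRingHom := (Polynomial.lifts_iff_coeff_lifts p).mpr fun n ↦ by
      by_cases hn : p.coeff n = 0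
      · exact ⟨0, by rw [hn, map_zero]⟩
      · exact lift C₁ le_sup_left A _ (hA₁ _ (coeff_mem_coeffs hn))
    obtain ⟨p₀, hp₀p, -, hp₀m⟩ := Polynomial.lifts_and_natDegree_eq_and_monic hp₀ hp
    have hjF : Function.Injective jF :=
      Module.Flat.rTensor_preserves_injective_linearMap C.val.toLinearMap Subtype.val_injective
    have hint : (bcMap ι C).toRingHom.IsIntegralElem z₀ := ⟨p₀, hp₀m, hjF (by
      rw [map_zero, ← hpz, ← hp₀p, eval₂_map, ← hz₀]
      refine (hom_eval₂ p₀ (bcMap ι C).toRingHom jF.toRingHom z₀).trans ?_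
      congr 1
      exact RingHom.ext (bcMap_comm ι C.val))⟩
    haveI : IsPurelyInseparable k C := IsPurelyInseparable.tower_bot k C P
    obtain ⟨c, hc⟩ := intClosedMap_finite hA C _ hint
    exact ⟨jA c, (bcMap_comm ι C.val c).symm.trans ((congrArg jF hc).trans hz₀)⟩
  -- `P ⊗ F` is a field
  haveI : _root_.IsReduced (P ⊗[k] F) := inferInstance
  have hfield : IsField (P ⊗[k] F) := by
    refine ⟨⟨0, 1, ?_⟩, fun a b ↦ mul_comm a b, fun {a} ha ↦ ?_⟩
    · haveI : Nontrivial (P ⊗[k] F) :=
        (Algebra.TensorProduct.includeRight_injective (R := k) (A := P) (B := F) (RingHom.injective _)).nontrivial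
      exact zero_ne_one
    · obtain ⟨n, hn, b, hb⟩ := IsPurelyInseparable.exists_pow_mem_range_tensorProduct (R := F) (k := k) (K := P)
        (Algebra.TensorProduct.comm k P F a)
      have hb0 : b ≠ 0 := fun h ↦ ha ((Algebra.TensorProduct.comm k P F).injective (by
        rw [h, map_zero] at hb
        haveI : _root_.IsReduced (F ⊗[k] P) :=
          isReduced_of_injective (Algebra.TensorProduct.comm k F P) (AlgEquiv.injective _)
        rw [map_zero]
        exact IsNilpotent.eq_zero ⟨n, hb.symm⟩))
      have hu : IsUnit (Algebra.TensorProduct.comm k P F a ^ n) := hb ▸ (isUnit_iff_ne_zero.mpr hb0).map _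
      rw [isUnit_pow_iff hn.ne', isUnit_map_iff] at hu
      exact ⟨_, hu.mul_val_inv⟩
  haveI : Algebra.IsGeometricallyReduced P L :=
    GeomRedFieldLib.isGeometricallyReduced_of_perfect P L
      (isReduced_of_injective (Algebra.TensorProduct.lid P L) (AlgEquiv.injective _))
  have hL : IntClosedMap (bcMap ι L).toRingHom := intClosedMap_bcMap_up ι P L hfield hP
  exact intClosedMap_bcMap_of_bc ι (IsScalarTower.toAlgHom k K L) (FaithfulSMul.algebraMap_injective K L) hL

end GeomRedFibLib
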