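import Groth.Agent.CMFlatLib.Open
import Groth.Agent.GorLib.FlatLocal
import Groth.Agent.CMFlatLib.Fibre
import Mathlib.RingTheory.EssentialFiniteness

/-!
# Properties of Noetherian rings that ascend and descend along flat local maps
-/

set_option autoImplicit false
set_option synthInstance.maxHeartbeats 100000

universe u

open TensorProduct IsLocalRing

namespace GeomRedFibLib

noncomputable section

/-- A property of Noetherian local rings that ascends through the closed fibre and descends along flat local maps
with zero-dimensional closed fibre. -/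
structure IsFlatLocalProp (P : ∀ (R : Type u) [CommRing R], Prop) : Prop where
  congr : ∀ (R S : Type u) [CommRing R] [CommRing S], (R ≃+* S) → P R → P S
  asc : ∀ (A B : Type u) [CommRing A] [IsLocalRing A] [IsNoetherianRing A] [CommRing B] [IsLocalRing B]
    [IsNoetherianRing B] [Algebra A B] [IsLocalHom (algebraMap A B)] [Module.Flat A B],
    P A → P (B ⧸ (maximalIdeal A).map (algebraMap A B)) → P B
  desc : ∀ (A B : Type u) [CommRing A] [IsLocalRing A] [IsNoetherianRing A] [CommRing B] [IsLocalRing B]
    [IsNoetherianRing B] [Algebra A B] [IsLocalHom (algebraMap A B)] [Module.Flat A B],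
    ringKrullDim (B ⧸ (maximalIdeal A).map (algebraMap A B)) = 0 → P B → P A

/-- The property at every prime. -/
def RingP (P : ∀ (R : Type u) [CommRing R], Prop) (R : Type u) [CommRing R] : Prop :=
  ∀ (q : Ideal R) [q.IsPrime], P (Localization.AtPrime q)

variable {P : ∀ (R : Type u) [CommRing R], Prop} (hP : IsFlatLocalProp P)

include hP in
theorem RingP.congr {R S : Type u} [CommRing R] [CommRing S] (e : R ≃+* S) (h : RingP P R) : RingP P S := by
  intro p hp
  let q := p.comap e.toRingHom
  have hM : q.primeCompl.map e.toMonoidHom = p.primeCompl := by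
    ext y
    refine ⟨?_, fun hy ↦ ⟨e.symm y, fun hc ↦ hy (by simpa [q] using hc), e.apply_symm_apply y⟩⟩
    rintro ⟨x, hx, rfl⟩ hc
    exact hx hc
  exact hP.congr _ _ (IsLocalization.ringEquivOfRingEquiv (M := q.primeCompl) (T := p.primeCompl)
    (Localization.AtPrime q) (Localization.AtPrime p) e hM) (h q)

variable (R S : Type u) [CommRing R] [IsNoetherianRing R] [CommRing S] [IsNoetherianRing S] [Algebra R S]

include hP in
/-- The property ascends along a flat map through the fibres. -/
theorem RingP.asc [Module.Flat R S] (hR : RingP P R) (hfib : ∀ (p : Ideal R) [p.IsPrime], RingP P (p.Fiber S)) :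
    RingP P S := by
  intro q hq
  let p := q.comap (algebraMap R S)
  haveI : q.LiesOver p := ⟨rfl⟩
  letI := Localization.AtPrime.algebraOfLiesOver p q
  haveI : IsLocalHom (algebraMap (Localization.AtPrime p) (Localization.AtPrime q)) :=
    inferInstanceAs (IsLocalHom (Localization.localRingHom p q (algebraMap R S) rfl))
  haveI : Module.Flat (Localization.AtPrime p) (Localization.AtPrime q) :=
    RingHom.flat_algebraMap_iff.mp <| RingHom.Flat.localRingHom (RingHom.flat_algebraMap_iff.mpr ‹_›) ..
  obtain ⟨Q, hQ, hQq⟩ := CMFlatLib.exists_fibre_point (R := R) (B := S) ⟨q, hq⟩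
  obtain ⟨θ, -⟩ := CMFlatLib.exists_fibreLocal_equiv p Q q hQq
  refine hP.asc (Localization.AtPrime p) (Localization.AtPrime q) (hR p) ?_
  refine hP.congr _ _ ((Ideal.quotEquivOfEq ?_).trans θ).symm (hfib p Q)
  rw [← IsLocalization.AtPrime.map_eq_maximalIdeal p (Localization.AtPrime p), Ideal.map_map,
    ← IsScalarTower.algebraMap_eq]

include hP in
/-- The property descends along a faithfully flat map. -/
theorem RingP.desc [Module.FaithfullyFlat R S] (hS : RingP P S) : RingP P R := by
  intro p hp
  obtain ⟨⟨q', hq'⟩, h⟩ := PrimeSpectrum.comap_surjective_of_faithfullyFlat (A := R) (B := S) ⟨p, hp⟩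
  have hpq' : p = q'.comap (algebraMap R S) := (congrArg PrimeSpectrum.asIdeal h).symm
  obtain ⟨q, hq, hqq'⟩ := Ideal.exists_minimalPrimes_le (Ideal.map_le_iff_le_comap.mpr hpq'.le)
  haveI : q.IsPrime := hq.1.1
  haveI : q.LiesOver p := ⟨le_antisymm (Ideal.map_le_iff_le_comap.mp hq.1.2) ((Ideal.comap_mono hqq').trans hpq'.ge)⟩
  letI := Localization.AtPrime.algebraOfLiesOver p q
  haveI : IsLocalHom (algebraMap (Localization.AtPrime p) (Localization.AtPrime q)) :=
    inferInstanceAs (IsLocalHom (Localization.localRingHom p q (algebraMap R S) (q.over_def p)))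
  haveI : Module.Flat (Localization.AtPrime p) (Localization.AtPrime q) :=
    RingHom.flat_algebraMap_iff.mp <| RingHom.Flat.localRingHom (RingHom.flat_algebraMap_iff.mpr inferInstance) ..
  refine hP.desc (Localization.AtPrime p) (Localization.AtPrime q) ?_ (hS q)
  rw [← IsLocalization.AtPrime.map_eq_maximalIdeal p (Localization.AtPrime p), Ideal.map_map,
    ← IsScalarTower.algebraMap_eq, IsScalarTower.algebraMap_eq R S (Localization.AtPrime q), ← Ideal.map_map]
  have hmin : ∀ Q : Ideal S, Q.IsPrime → Q ≤ q → p.map (algebraMap R S) ≤ Q → Q = q := fun Q hQ h1 h2 ↦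
    le_antisymm h1 (hq.2 ⟨hQ, h2⟩ h1)
  let J : Ideal (Localization.AtPrime q) := (p.map (algebraMap R S)).map (algebraMap S (Localization.AtPrime q))
  have hJ : J ≤ maximalIdeal (Localization.AtPrime q) := by
    rw [← IsLocalization.AtPrime.map_eq_maximalIdeal q (Localization.AtPrime q)]
    exact Ideal.map_mono hq.1.2
  haveI : Nontrivial (Localization.AtPrime q ⧸ J) :=
    Ideal.Quotient.nontrivial_iff.mpr (ne_top_of_le_ne_top (maximalIdeal.isMaximal _).ne_top hJ)
  haveI : Ring.KrullDimLE 0 (Localization.AtPrime q ⧸ J) := Ring.KrullDimLE.mk₀ fun Q hQ ↦ by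
    let Q₁ := Q.comap (Ideal.Quotient.mk J)
    have hJQ : J ≤ Q₁ := fun x hx ↦ by
      rw [Ideal.mem_comap, Ideal.Quotient.eq_zero_iff_mem.mpr hx]
      exact zero_mem _
    have h1 : (Q₁.comap (algebraMap S (Localization.AtPrime q))) ≤ q := fun x hx ↦ by
      by_contra hxq
      exact (inferInstance : Q₁.IsPrime).ne_top (Ideal.eq_top_of_isUnit_mem _ hx
        (IsLocalization.map_units (Localization.AtPrime q) (⟨x, hxq⟩ : q.primeCompl)))
    have h2 : Q₁ = maximalIdeal (Localization.AtPrime q) := by
      rw [← IsLocalization.map_under q.primeCompl (Localization.AtPrime q) Q₁,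
        ← IsLocalization.AtPrime.map_eq_maximalIdeal q (Localization.AtPrime q)]
      exact congrArg _ (hmin _ inferInstance h1 (Ideal.map_le_iff_le_comap.mp hJQ))
    rw [← Ideal.map_comap_of_surjective _ Ideal.Quotient.mk_surjective Q]
    show (Q₁.map (Ideal.Quotient.mk J)).IsMaximal
    rw [h2, IsLocalRing.map_maximalIdeal_of_surjective _ Ideal.Quotient.mk_surjective]
    exact maximalIdeal.isMaximal _
  exact le_antisymm (by exact_mod_cast Ring.krullDimLE_iff.mp ‹Ring.KrullDimLE 0 (Localization.AtPrime q ⧸ J)›)
    ringKrullDim_nonneg_of_nontrivial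

end

end GeomRedFibLib
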