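import Groth.Agent.GeomRedFibLib.LocalProp
import Groth.Agent.GeomRedFibLib.Cancel
import Mathlib.RingTheory.Flat.FaithfullyFlat.Basic

/-!
# Fibres with a flat-local property: composition and cancellation
-/

set_option autoImplicit false
set_option synthInstance.maxHeartbeats 100000

universe u

open TensorProduct IsLocalRing

namespace GeomRedFibLib

noncomputable section

variable {P : ∀ (R : Type u) [CommRing R], Prop} (hP : IsFlatLocalProp P)
  (A B C : Type u) [CommRing A] [CommRing B] [CommRing C] [Algebra A B] [Algebra B C] [Algebra A C]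
  [IsScalarTower A B C]

/-- Base change of the intermediate ring. -/
def tensorEquiv (k' : Type u) [CommRing k'] [Algebra A k'] : (B ⊗[A] k') ⊗[B] C ≃+* k' ⊗[A] C :=
  ((Algebra.TensorProduct.comm B (B ⊗[A] k') C).toRingEquiv.trans
    (Algebra.TensorProduct.cancelBaseChange A B B C k').toRingEquiv).trans
    (Algebra.TensorProduct.comm A C k').toRingEquiv

theorem isNoetherianRing_bc [IsNoetherianRing C] (k' : Type u) [CommRing k'] [Algebra A k'] [Algebra.EssFiniteType A k'] :
    IsNoetherianRing ((B ⊗[A] k') ⊗[B] C) :=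
  haveI := Algebra.EssFiniteType.isNoetherianRing C (C ⊗[A] k')
  isNoetherianRing_of_ringEquiv _ ((Algebra.TensorProduct.comm A C k').toRingEquiv.trans (tensorEquiv A B C k').symm)

section finite

variable (p : Ideal A) [p.IsPrime] (k' : Type u) [Field k'] [Algebra A k'] [Algebra p.ResidueField k']
  [IsScalarTower A p.ResidueField k'] [Module.Finite p.ResidueField k'] (Q : Ideal (B ⊗[A] k')) [Q.IsPrime]
  (q : Ideal B) [q.IsPrime] [Algebra q.ResidueField Q.ResidueField] [IsScalarTower B q.ResidueField Q.ResidueField]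

/-- The residue field of a point of a finite extension of a fibre is spanned by the extension. -/
theorem exists_surjective_residueField :
    ∃ (_ : Algebra p.ResidueField q.ResidueField)
      (ψ : q.ResidueField ⊗[p.ResidueField] k' →ₐ[q.ResidueField] Q.ResidueField), Function.Surjective ψ := by
  let i : k' →+* Q.ResidueField :=
    (algebraMap (B ⊗[A] k') Q.ResidueField).comp
      (Algebra.TensorProduct.includeRight : k' →ₐ[A] B ⊗[A] k').toRingHom
  let j : p.ResidueField →+* Q.ResidueField := i.comp (algebraMap p.ResidueField k')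
  have hij : ∀ a : A, j (algebraMap A p.ResidueField a) = algebraMap B Q.ResidueField (algebraMap A B a) := fun a ↦ by
    show algebraMap (B ⊗[A] k') Q.ResidueField ((1 : B) ⊗ₜ algebraMap p.ResidueField k' (algebraMap A p.ResidueField a)) = _
    rw [← IsScalarTower.algebraMap_apply, IsScalarTower.algebraMap_apply B (B ⊗[A] k') Q.ResidueField]
    congr 1
    rw [Algebra.algebraMap_eq_smul_one (A := k'), tmul_smul, Algebra.TensorProduct.algebraMap_apply,
      Algebra.algebraMap_eq_smul_one (A := B), smul_tmul']
    simp [Algebra.smul_def]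
  have hc : p = q.comap (algebraMap A B) := by
    ext a
    have h1 : algebraMap B Q.ResidueField (algebraMap A B a) = 0 ↔ algebraMap A B a ∈ q := by
      rw [IsScalarTower.algebraMap_apply B q.ResidueField Q.ResidueField, map_eq_zero,
        Ideal.algebraMap_residueField_eq_zero]
    rw [Ideal.mem_comap, ← h1, ← hij, map_eq_zero, Ideal.algebraMap_residueField_eq_zero]
  letI aq : Algebra p.ResidueField q.ResidueField := (Ideal.ResidueField.map p q (algebraMap A B) hc).toAlgebra
  letI : Algebra p.ResidueField Q.ResidueField := j.toAlgebra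
  haveI : IsScalarTower p.ResidueField q.ResidueField Q.ResidueField := .of_algebraMap_eq' (by
    refine Ideal.ResidueField.ringHom_ext (RingHom.ext fun a ↦ ?_)
    show j (algebraMap A p.ResidueField a) = algebraMap q.ResidueField Q.ResidueField
      (Ideal.ResidueField.map p q (algebraMap A B) hc (algebraMap A p.ResidueField a))
    rw [Ideal.ResidueField.map_algebraMap, ← IsScalarTower.algebraMap_apply, hij])
  let i' : k' →ₐ[p.ResidueField] Q.ResidueField := { i with commutes' := fun _ ↦ rfl }
  let ψ : q.ResidueField ⊗[p.ResidueField] k' →ₐ[q.ResidueField] Q.ResidueField :=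
    Algebra.TensorProduct.lift (Algebra.ofId q.ResidueField Q.ResidueField) i' fun _ _ ↦ .all _ _
  refine ⟨aq, ψ, ?_⟩
  haveI : Module.Finite q.ResidueField ψ.range :=
    Module.Finite.of_surjective ψ.rangeRestrict.toLinearMap ψ.rangeRestrict_surjective
  have hfield : IsField ψ.range := isField_of_isIntegral_of_isField' (R := q.ResidueField) (Semifield.toIsField _)
  have hmem : ∀ x, algebraMap (B ⊗[A] k') Q.ResidueField x ∈ ψ.range := by
    intro x
    induction x using TensorProduct.induction_on with
    | zero => simp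
    | add x y hx hy => rw [map_add]; exact add_mem hx hy
    | tmul b c =>
      refine ⟨algebraMap B q.ResidueField b ⊗ₜ c, ?_⟩
      show algebraMap q.ResidueField Q.ResidueField (algebraMap B q.ResidueField b) * i c = _
      rw [← IsScalarTower.algebraMap_apply, IsScalarTower.algebraMap_apply B (B ⊗[A] k') Q.ResidueField]
      show _ * algebraMap (B ⊗[A] k') Q.ResidueField (1 ⊗ₜ c) = _
      rw [← map_mul, Algebra.TensorProduct.algebraMap_apply, Algebra.TensorProduct.tmul_mul_tmul]
      simp
  intro z
  obtain ⟨⟨u, v⟩, huv⟩ := IsLocalization.surj (nonZeroDivisors ((B ⊗[A] k') ⧸ Q)) z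
  obtain ⟨u, rfl⟩ := Ideal.Quotient.mk_surjective u
  obtain ⟨v', hv'⟩ := Ideal.Quotient.mk_surjective (v : (B ⊗[A] k') ⧸ Q)
  have hv0 : algebraMap (B ⊗[A] k') Q.ResidueField v' ≠ 0 := by
    rw [Ne, Ideal.algebraMap_residueField_eq_zero, ← Ideal.Quotient.eq_zero_iff_mem, hv']
    exact nonZeroDivisors.coe_ne_zero v
  obtain ⟨w, hw⟩ := hfield.mul_inv_cancel (a := (⟨_, hmem v'⟩ : ψ.range)) (fun h ↦ hv0 (congrArg Subtype.val h))
  have hz : z = algebraMap (B ⊗[A] k') Q.ResidueField u * w := by
    have h2 : algebraMap (B ⊗[A] k') Q.ResidueField v' * w = 1 := congrArg Subtype.val hw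
    have h3 : z * algebraMap (B ⊗[A] k') Q.ResidueField v' = algebraMap (B ⊗[A] k') Q.ResidueField u := by
      rw [IsScalarTower.algebraMap_apply (B ⊗[A] k') ((B ⊗[A] k') ⧸ Q) Q.ResidueField,
        IsScalarTower.algebraMap_apply (B ⊗[A] k') ((B ⊗[A] k') ⧸ Q) Q.ResidueField, Ideal.Quotient.algebraMap_eq, hv']
      exact huv
    rw [← h3, mul_assoc, h2, mul_one]
  show z ∈ ψ.range
  exact hz ▸ mul_mem (hmem u) w.2

end finite

variable (p : Ideal A) [p.IsPrime] (k' : Type u) [Field k'] [Algebra A k'] [Algebra p.ResidueField k']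
  [IsScalarTower A p.ResidueField k'] [Module.Finite p.ResidueField k']

include hP p in
/-- The property passes through a composition, given the fibres of the base change of `B → C`. -/
theorem ringP_comp [IsNoetherianRing B] [IsNoetherianRing C] [Module.Flat B C] (hAB : RingP P (k' ⊗[A] B))
    (hBC : ∀ (Q : Ideal (B ⊗[A] k')) [Q.IsPrime], RingP P (Q.ResidueField ⊗[B] C)) :
    RingP P (k' ⊗[A] C) := by
  haveI : Algebra.EssFiniteType A k' := Algebra.EssFiniteType.comp A p.ResidueField k'
  haveI : IsNoetherianRing (B ⊗[A] k') := Algebra.EssFiniteType.isNoetherianRing B (B ⊗[A] k')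
  haveI := isNoetherianRing_bc A B C k'
  refine RingP.congr hP (tensorEquiv A B C k') (RingP.asc hP (B ⊗[A] k') ((B ⊗[A] k') ⊗[B] C)
    (RingP.congr hP (Algebra.TensorProduct.comm A k' B).toRingEquiv hAB) fun Q _ ↦ ?_)
  exact RingP.congr hP
    (Algebra.TensorProduct.cancelBaseChange B (B ⊗[A] k') (B ⊗[A] k') Q.ResidueField C).toRingEquiv.symm (hBC Q)

include hP p in
/-- The property passes to the middle of a composition with faithfully flat second map. -/
theorem ringP_cancel [IsNoetherianRing B] [IsNoetherianRing C] [Module.FaithfullyFlat B C]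
    (hAC : RingP P (k' ⊗[A] C)) : RingP P (k' ⊗[A] B) := by
  haveI : Algebra.EssFiniteType A k' := Algebra.EssFiniteType.comp A p.ResidueField k'
  haveI : IsNoetherianRing (B ⊗[A] k') := Algebra.EssFiniteType.isNoetherianRing B (B ⊗[A] k')
  haveI := isNoetherianRing_bc A B C k'
  exact RingP.congr hP (Algebra.TensorProduct.comm A B k').toRingEquiv
    (RingP.desc hP (B ⊗[A] k') ((B ⊗[A] k') ⊗[B] C) (RingP.congr hP (tensorEquiv A B C k').symm hAC))

end

end GeomRedFibLib
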