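import Groth.Agent.GeomRedFibLib.FiniteCharacter
import Groth.Agent.GeomRedFibLib.Comp
import Groth.Agent.GeomRedFibLib.IntClosedMap
import Mathlib.RingTheory.DiscreteValuationRing.Basic
import Mathlib.RingTheory.TensorProduct.Pi
import Mathlib.RingTheory.Flat.Basic
import Mathlib.RingTheory.FiniteType

/-!
# Base change of a normal domain stays integrally closed
-/

set_option autoImplicit false
set_option synthInstance.maxHeartbeats 400000
set_option maxHeartbeats 800000

universe u

open TensorProduct IsLocalRing Polynomial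

namespace GeomRedFibLib

variable {A : Type u} [CommRing A] [IsNoetherianRing A] {A' : Type u} [CommRing A'] [Algebra A A'] [Module.Flat A A']

theorem exists_fractionField (R : Type u) [CommRing R] [IsDomain R] :
    ∃ (K : Type u) (_ : Field K) (_ : Algebra R K), IsFractionRing R K :=
  ⟨FractionRing R, inferInstance, inferInstance, inferInstance⟩

theorem bc_injective {X Y : Type u} [CommRing X] [CommRing Y] [Algebra A X] [Algebra A Y] (f : X →ₐ[A] Y)
    (hf : Function.Injective f) : Function.Injective (Algebra.TensorProduct.map (AlgHom.id A A') f) :=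
  Module.Flat.lTensor_preserves_injective_linearMap f.toLinearMap hf

theorem exists_mul_eq_map {X Y : Type u} [CommRing X] [IsDomain X] [CommRing Y] [Algebra A X] [Algebra A Y] [Algebra X Y]
    [IsScalarTower A X Y] [IsFractionRing X Y] (z : A' ⊗[A] Y) :
    ∃ d : X, d ≠ 0 ∧ ∃ n : A' ⊗[A] X,
      Algebra.TensorProduct.map (AlgHom.id A A') (IsScalarTower.toAlgHom A X Y) n = (1 ⊗ₜ algebraMap X Y d) * z := by
  induction z using TensorProduct.induction_on with
  | zero => exact ⟨1, one_ne_zero, 0, by rw [map_zero, mul_zero]⟩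
  | tmul a y =>
    obtain ⟨⟨x, s⟩, hxs⟩ := IsLocalization.surj (nonZeroDivisors X) y
    refine ⟨s, nonZeroDivisors.ne_zero s.2, a ⊗ₜ x, ?_⟩
    simp [← hxs, mul_comm]
  | add u v hu hv =>
    obtain ⟨d, hd, n, hn⟩ := hu
    obtain ⟨e, he, m, hm⟩ := hv
    refine ⟨d * e, mul_ne_zero hd he, (1 ⊗ₜ e) * n + (1 ⊗ₜ d) * m, ?_⟩
    have hde : ((1 : A') ⊗ₜ[A] algebraMap X Y (d * e)) = (1 ⊗ₜ algebraMap X Y d) * (1 ⊗ₜ algebraMap X Y e) := by
      rw [Algebra.TensorProduct.tmul_mul_tmul, one_mul, map_mul]
    rw [map_add, map_mul, map_mul, hn, hm, hde, Algebra.TensorProduct.map_tmul, Algebra.TensorProduct.map_tmul]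
    simp only [AlgHom.id_apply, IsScalarTower.toAlgHom_apply]
    ring

/-- A discrete valuation ring stays integrally closed after a base change with geometrically reduced fibres. -/
theorem intClosedMap_bc_dvr (hfib : ∀ (p : Ideal A) [p.IsPrime], Algebra.IsGeometricallyReduced p.ResidueField (p.Fiber A'))
    (W L : Type u) [CommRing W] [IsDomain W] [IsDiscreteValuationRing W] [Field L] [Algebra A W] [Algebra W L]
    [Algebra A L] [IsScalarTower A W L] [IsFractionRing W L] :
    IntClosedMap (Algebra.TensorProduct.map (AlgHom.id A A') (IsScalarTower.toAlgHom A W L)).toRingHom := by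
  let Φ := Algebra.TensorProduct.map (AlgHom.id A A') (IsScalarTower.toAlgHom A W L)
  obtain ⟨ϖ, hϖ⟩ := IsDiscreteValuationRing.exists_irreducible W
  have hinj : Function.Injective Φ := bc_injective _ (IsFractionRing.injective W L)
  have hϖL : algebraMap W L ϖ ≠ 0 := fun h ↦ hϖ.ne_zero ((map_eq_zero_iff _ (IsFractionRing.injective W L)).mp h)
  let t : A' ⊗[A] W := 1 ⊗ₜ ϖ
  have htu : IsUnit (Φ t) := by
    rw [show Φ t = (Algebra.TensorProduct.includeRight : L →ₐ[A] A' ⊗[A] L) (algebraMap W L ϖ) from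
      by simp [Φ, t]]
    exact (isUnit_iff_ne_zero.mpr hϖL).map _
  let κ := ResidueField W
  haveI : IsReduced (A' ⊗[A] κ) := isReduced_tensor A A' κ hfib
  let res := Algebra.TensorProduct.map (AlgHom.id A A') (IsScalarTower.toAlgHom A W κ)
  have hker : ∀ n, res n = 0 → ∃ n', n = t * n' := by
    intro n hn
    let μ : W →ₗ[A] W := (LinearMap.mul A W) ϖ
    let r : W →ₗ[A] κ := (IsScalarTower.toAlgHom A W κ).toLinearMap
    have hex : Function.Exact μ r := fun w ↦ by
      show residue W w = 0 ↔ w ∈ Set.range μ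
      rw [residue_eq_zero_iff, hϖ.maximalIdeal_eq, Ideal.mem_span_singleton']
      exact ⟨fun ⟨a, ha⟩ ↦ ⟨a, by simpa [μ, mul_comm] using ha⟩, fun ⟨a, ha⟩ ↦ ⟨a, by simpa [μ, mul_comm] using ha⟩⟩
    obtain ⟨n', hn'⟩ := (lTensor_exact A' hex (residue_surjective (R := W)) n).mp hn
    refine ⟨n', hn'.symm.trans ?_⟩
    clear hn'
    induction n' using TensorProduct.induction_on with
    | zero => simp
    | add x y hx hy => rw [map_add, hx, hy, mul_add]
    | tmul a w => simp [μ, t]
  intro z hz
  have key : ∀ (j : ℕ) (n : A' ⊗[A] W), Φ n = Φ t ^ j * z → ∃ c, Φ c = z := by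
    intro j
    induction j with
    | zero => exact fun n hn ↦ ⟨n, by rw [hn, pow_zero, one_mul]⟩
    | succ j ih =>
      intro n hn
      obtain ⟨p, hp, hpz⟩ := hz
      have h0 : Polynomial.eval₂ (RingHom.id _) n (p.scaleRoots (t ^ (j + 1))) = 0 := by
        apply hinj
        rw [map_zero]
        change Φ.toRingHom _ = 0
        rw [hom_eval₂, RingHom.comp_id]
        change Polynomial.eval₂ _ (Φ n) _ = 0
        rw [hn, show Φ t ^ (j + 1) = Φ.toRingHom (t ^ (j + 1)) from (map_pow Φ.toRingHom t (j + 1)).symm]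
        exact scaleRoots_eval₂_eq_zero Φ.toRingHom hpz
      have h1 : res n ^ p.natDegree = 0 := by
        rcases subsingleton_or_nontrivial (A' ⊗[A] κ) with _ | _
        · exact Subsingleton.elim _ _
        have h2 := congrArg res.toRingHom h0
        rw [hom_eval₂, map_zero, RingHom.comp_id, ← eval_map] at h2
        have hlc : res.toRingHom p.leadingCoeff ≠ 0 := by rw [hp.leadingCoeff, map_one]; exact one_ne_zero
        have ht0 : res.toRingHom (t ^ (j + 1)) = 0 := by
          have : algebraMap W κ ϖ = 0 := by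
            show residue W ϖ = 0
            rw [residue_eq_zero_iff, hϖ.maximalIdeal_eq]
            exact Ideal.mem_span_singleton_self ϖ
          rw [map_pow]
          simp [res, t, this]
        rw [map_scaleRoots _ _ _ hlc, ht0, scaleRoots_zero, (hp.map _).leadingCoeff, one_smul, hp.natDegree_map,
          eval_pow, eval_X] at h2
        exact h2
      obtain ⟨n', rfl⟩ := hker n (IsNilpotent.eq_zero ⟨_, h1⟩)
      refine ih n' (htu.mul_left_cancel ?_)
      rw [← map_mul, hn, pow_succ]
      ring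
  obtain ⟨d, hd, n, hn⟩ := exists_mul_eq_map (X := W) z
  obtain ⟨j, u, rfl⟩ := IsDiscreteValuationRing.eq_unit_mul_pow_irreducible hd hϖ
  refine key j ((1 ⊗ₜ (↑u⁻¹ : W)) * n) ?_
  rw [map_mul, hn]
  simp only [Φ, t, Algebra.TensorProduct.map_tmul, AlgHom.id_apply, IsScalarTower.toAlgHom_apply,
    Algebra.TensorProduct.tmul_pow, one_pow, ← mul_assoc, Algebra.TensorProduct.tmul_mul_tmul, one_mul, ← map_mul,
    ← map_pow, Units.inv_mul]

/-- A normal local domain stays integrally closed after a base change with geometrically reduced fibres. -/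
theorem intClosedMap_bc_normal (hfib : ∀ (p : Ideal A) [p.IsPrime], Algebra.IsGeometricallyReduced p.ResidueField (p.Fiber A'))
    (B K : Type u) [CommRing B] [IsDomain B] [IsLocalRing B] [IsIntegrallyClosed B] [Field K] [Algebra A B]
    [Algebra B K] [Algebra A K] [IsScalarTower A B K] [IsFractionRing B K] :
    IntClosedMap (Algebra.TensorProduct.map (AlgHom.id A A') (IsScalarTower.toAlgHom A B K)).toRingHom := by
  classical
  intro z hz
  obtain ⟨p, hp, hpz⟩ := hz
  obtain ⟨d, hd, n, hn⟩ := exists_mul_eq_map (X := B) z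
  obtain ⟨N, hN, hs⟩ := TensorProduct.exists_finite_submodule_right_of_setFinite
    ((p.coeffs : Set (A' ⊗[A] B)) ∪ {n}) (p.coeffs.finite_toSet.union (Set.finite_singleton n))
  obtain ⟨s, hs'⟩ := Module.Finite.iff_fg.mp hN
  let B₀ := Algebra.adjoin A ((↑(insert d s) : Set B))
  haveI : Algebra.FiniteType A B₀ := (Subalgebra.fg_iff_finiteType B₀).mp ⟨_, rfl⟩
  haveI : IsNoetherianRing B₀ := Algebra.FiniteType.isNoetherianRing A B₀
  let P₀ := (maximalIdeal B).comap B₀.val.toRingHom
  haveI : P₀.IsPrime := Ideal.IsPrime.comap _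
  let B₁ := Localization.AtPrime P₀
  haveI : IsDomain B₁ := IsLocalization.isDomain_localization P₀.primeCompl_le_nonZeroDivisors
  let i : B₁ →ₐ[A] B := IsLocalization.liftAlgHom (M := P₀.primeCompl) (S := B₁) (f := B₀.val)
    fun y ↦ notMem_maximalIdeal.mp y.2
  have hi : Function.Injective i := by
    rw [injective_iff_map_eq_zero]
    intro x hx
    obtain ⟨⟨a, c⟩, rfl⟩ := IsLocalization.mk'_surjective P₀.primeCompl x
    have h1 := congrArg i (IsLocalization.mk'_spec B₁ a c)
    rw [map_mul, hx, zero_mul] at h1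
    have h2 : (a : B) = 0 := by
      rw [h1]
      exact (IsLocalization.lift_eq (M := P₀.primeCompl) (S := B₁) (g := B₀.val.toRingHom)
        (fun y ↦ notMem_maximalIdeal.mp y.2) a).symm
    show IsLocalization.mk' B₁ a c = 0
    rw [show a = 0 from Subtype.ext h2]
    exact IsLocalization.mk'_zero _
  obtain ⟨K₁, _, _, _⟩ : ∃ (K₁ : Type u) (_ : Field K₁) (_ : Algebra B₁ K₁), IsFractionRing B₁ K₁ :=
    exists_fractionField B₁
  letI : Algebra A K₁ := ((algebraMap B₁ K₁).comp (algebraMap A B₁)).toAlgebra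
  haveI : IsScalarTower A B₁ K₁ := .of_algebraMap_eq fun _ ↦ rfl
  let iK : B₁ →ₐ[A] K := (IsScalarTower.toAlgHom A B K).comp i
  have hiK : Function.Injective iK := (IsFractionRing.injective B K).comp hi
  let j : K₁ →ₐ[A] K := IsLocalization.liftAlgHom (M := nonZeroDivisors B₁) (S := K₁) (f := iK)
    fun y ↦ isUnit_iff_ne_zero.mpr fun h ↦ nonZeroDivisors.ne_zero y.2 (hiK (by rw [h, map_zero]))
  have hj : ∀ b, j (algebraMap B₁ K₁ b) = algebraMap B K (i b) := fun b ↦ IsLocalization.lift_eq (M := nonZeroDivisors B₁) (S := K₁) (g := iK.toRingHom) _ b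
  -- the data over the Noetherian local subring
  have hlift : ∀ w ∈ (p.coeffs : Set (A' ⊗[A] B)) ∪ {n},
      w ∈ Set.range (Algebra.TensorProduct.map (AlgHom.id A A') i) := by
    intro w hw
    obtain ⟨v, rfl⟩ := hs hw
    clear hw
    induction v using TensorProduct.induction_on with
    | zero => exact ⟨0, by rw [map_zero, map_zero]⟩
    | add x y hx hy =>
      obtain ⟨a, ha⟩ := hx; obtain ⟨b, hb⟩ := hy
      exact ⟨a + b, by rw [map_add, map_add, ha, hb]⟩
    | tmul c m =>
      have hm : (m : B) ∈ B₀ := by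
        have h : Submodule.span A (s : Set B) ≤ Subalgebra.toSubmodule B₀ :=
          Submodule.span_le.mpr fun x hx ↦ Algebra.subset_adjoin (Finset.mem_insert_of_mem hx)
        exact h (hs' ▸ m.2)
      refine ⟨c ⊗ₜ algebraMap B₀ B₁ ⟨m, hm⟩, ?_⟩
      simp only [Algebra.TensorProduct.map_tmul, AlgHom.id_apply, LinearMap.lTensor_tmul, Submodule.subtype_apply]
      congr 1
      exact IsLocalization.lift_eq _ _
  obtain ⟨n₁, hn₁⟩ := hlift n (Or.inr rfl)
  let d₁ : B₁ := algebraMap B₀ B₁ ⟨d, Algebra.subset_adjoin (Finset.mem_insert_self d s)⟩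
  have hid : i d₁ = d := IsLocalization.lift_eq _ _
  have hd₁ : d₁ ≠ 0 := fun h ↦ hd (by rw [← hid, h, map_zero])
  let D := integralClosure B₁ K₁
  let Φ₁ := Algebra.TensorProduct.map (AlgHom.id A A') (IsScalarTower.toAlgHom A B₁ K₁)
  let J := Algebra.TensorProduct.map (AlgHom.id A A') j
  let Φ := Algebra.TensorProduct.map (AlgHom.id A A') (IsScalarTower.toAlgHom A B K)
  let I := Algebra.TensorProduct.map (AlgHom.id A A') i
  have hcomm : ∀ v, J (Φ₁ v) = Φ (I v) := fun v ↦ by
    induction v using TensorProduct.induction_on with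
    | zero => simp
    | add x y hx hy => simp only [map_add, hx, hy]
    | tmul a b => simp [J, Φ₁, Φ, I, hj]
  have hJinj : Function.Injective J := bc_injective j j.injective
  let e₁ : A' ⊗[A] K₁ := 1 ⊗ₜ algebraMap B₁ K₁ d₁
  have he₁ : IsUnit e₁ := by
    exact (isUnit_iff_ne_zero.mpr fun h ↦ hd₁ ((map_eq_zero_iff _ (IsFractionRing.injective B₁ K₁)).mp h)).map
      (Algebra.TensorProduct.includeRight : K₁ →ₐ[A] A' ⊗[A] K₁)
  obtain ⟨z₁, hz₁⟩ : ∃ z₁, e₁ * z₁ = Φ₁ n₁ := ⟨↑he₁.unit⁻¹ * Φ₁ n₁, by rw [← mul_assoc, IsUnit.mul_val_inv, one_mul]⟩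
  have hJz : J z₁ = z := by
    refine (he₁.map J).mul_left_cancel ?_
    rw [← map_mul, hz₁, hcomm]
    show Φ (I n₁) = J e₁ * z
    rw [show I n₁ = n from hn₁, show Φ n = _ from hn]
    simp [J, e₁, hj, hid]
  have hint : Φ₁.toRingHom.IsIntegralElem z₁ := by
    have hl : p ∈ Polynomial.lifts I.toRingHom := (Polynomial.lifts_iff_coeff_lifts p).mpr fun m ↦ by
      by_cases hm : p.coeff m = 0
      · exact ⟨0, by rw [hm, map_zero]⟩
      · exact hlift _ (Or.inl (coeff_mem_coeffs hm))
    obtain ⟨p₀, hp₀, -, hp₀m⟩ := Polynomial.lifts_and_natDegree_eq_and_monic hl hp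
    refine ⟨p₀, hp₀m, hJinj ?_⟩
    rw [map_zero, ← hpz, ← hp₀, eval₂_map, ← hJz]
    refine (hom_eval₂ p₀ Φ₁.toRingHom J.toRingHom z₁).trans ?_
    congr 1
    exact RingHom.ext hcomm
  -- divisibility in the integral closure
  obtain ⟨ιW, _, W, _, _, _, g, hg0, hg⟩ := exists_dvr_family B₁ K₁ d₁ hd₁
  letI : ∀ w, Algebra A (W w) := fun w ↦ ((g w).comp (algebraMap A D)).toAlgebra
  let gA : ∀ w, D →ₐ[A] W w := fun w ↦ { g w with commutes' := fun _ ↦ rfl }
  let dD : D := algebraMap B₁ D d₁
  let μ : D →ₗ[A] D := LinearMap.mul A D dD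
  let Q := fun w ↦ W w ⧸ Ideal.span {g w dD}
  let qw : ∀ w, D →ₐ[A] Q w := fun w ↦ (Ideal.Quotient.mkₐ A (Ideal.span {g w dD})).comp (gA w)
  let ψ : D →ₗ[A] ∀ w, Q w := LinearMap.pi fun w ↦ (qw w).toLinearMap
  have hex : Function.Exact μ ψ := fun x ↦ by
    constructor
    · intro hx
      obtain ⟨y, hy⟩ := Ideal.mem_span_singleton'.mp
        (hg x fun w ↦ Ideal.Quotient.eq_zero_iff_mem.mp (congrFun hx w))
      exact ⟨y, by rw [← hy]; exact mul_comm _ _⟩
    · rintro ⟨y, rfl⟩
      funext w
      refine Ideal.Quotient.eq_zero_iff_mem.mpr ?_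
      show g w (dD * y) ∈ _
      rw [map_mul]
      exact Ideal.mul_mem_right _ _ (Ideal.mem_span_singleton_self _)
  let nD : A' ⊗[A] D := Algebra.TensorProduct.map (AlgHom.id A A') (IsScalarTower.toAlgHom A B₁ D) n₁
  have hψ : LinearMap.lTensor A' ψ nD = 0 := by
    haveI : Fintype ιW := Fintype.ofFinite ιW
    apply (TensorProduct.piRight A A A' Q).injective
    rw [map_zero]
    funext w
    have hproj : ∀ v : A' ⊗[A] D, TensorProduct.piRight A A A' Q (LinearMap.lTensor A' ψ v) w =
        LinearMap.lTensor A' (qw w).toLinearMap v := fun v ↦ by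
      induction v using TensorProduct.induction_on with
      | zero => simp
      | add x y hx hy => rw [map_add, map_add, Pi.add_apply, hx, hy, map_add]
      | tmul a b => simp [ψ]
    rw [hproj]
    -- in one valuation ring
    let L := FractionRing (W w)
    let f₀ : B₁ →ₐ[A] W w := (gA w).comp (IsScalarTower.toAlgHom A B₁ D)
    have hf₀ : Function.Injective f₀ := (hg0 w).comp fun x y h ↦ by
      apply IsFractionRing.injective B₁ K₁
      exact congrArg Subtype.val h
    let gK : K₁ →ₐ[A] L := IsLocalization.liftAlgHom (M := nonZeroDivisors B₁) (S := K₁)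
      (f := (IsScalarTower.toAlgHom A (W w) L).comp f₀) fun y ↦ isUnit_iff_ne_zero.mpr fun h ↦
        nonZeroDivisors.ne_zero y.2 (((IsFractionRing.injective (W w) L).comp hf₀) (h.trans (map_zero ((IsScalarTower.toAlgHom A (W w) L).comp f₀)).symm))
    have hgK : ∀ b, gK (algebraMap B₁ K₁ b) = algebraMap (W w) L (f₀ b) := fun b ↦ IsLocalization.lift_eq _ b
    let ΦW := Algebra.TensorProduct.map (AlgHom.id A A') (IsScalarTower.toAlgHom A (W w) L)
    let G := Algebra.TensorProduct.map (AlgHom.id A A') gK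
    let F₀ := Algebra.TensorProduct.map (AlgHom.id A A') f₀
    have hG : ∀ v, G (Φ₁ v) = ΦW (F₀ v) := fun v ↦ by
      induction v using TensorProduct.induction_on with
      | zero => simp
      | add x y hx hy => simp only [map_add, hx, hy]
      | tmul a b => simp [G, Φ₁, ΦW, F₀, hgK]
    obtain ⟨c, hc⟩ := intClosedMap_bc_dvr hfib (W w) L (G z₁)
      (isIntegralElem_of_comm (g := G.toRingHom) (h := F₀.toRingHom) hG hint)
    have hdiv : F₀ n₁ = (1 ⊗ₜ f₀ d₁) * c := by
      apply bc_injective (A' := A') (IsScalarTower.toAlgHom A (W w) L) (IsFractionRing.injective (W w) L)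
      show ΦW (F₀ n₁) = ΦW _
      rw [← hG, ← hz₁, map_mul, map_mul, show ΦW c = G z₁ from hc]
      simp [G, ΦW, e₁, hgK]
    have hqF : ∀ v, LinearMap.lTensor A' (qw w).toLinearMap
        (Algebra.TensorProduct.map (AlgHom.id A A') (IsScalarTower.toAlgHom A B₁ D) v) =
        Algebra.TensorProduct.map (AlgHom.id A A') (Ideal.Quotient.mkₐ A (Ideal.span {g w dD})) (F₀ v) := fun v ↦ by
      induction v using TensorProduct.induction_on with
      | zero => simp
      | add x y hx hy => simp only [map_add, hx, hy]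
      | tmul a b => rfl
    show LinearMap.lTensor A' (qw w).toLinearMap nD = (0 : ∀ w, A' ⊗[A] Q w) w
    rw [hqF, hdiv, map_mul, Algebra.TensorProduct.map_tmul,
      show Ideal.Quotient.mkₐ A (Ideal.span {g w dD}) (f₀ d₁) = 0 from
        Ideal.Quotient.eq_zero_iff_mem.mpr (Ideal.mem_span_singleton_self _),
      TensorProduct.tmul_zero, zero_mul, Pi.zero_apply]
  obtain ⟨nq, hnq⟩ := (lTensor_exact A' (M := D) (N := D) (P := LinearMap.range ψ) (f := μ) (g := ψ.rangeRestrict)
    (fun x ↦ by rw [← hex x]; exact ⟨fun h ↦ congrArg Subtype.val h, fun h ↦ Subtype.ext h⟩)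
    ψ.surjective_rangeRestrict nD).mp (by
      apply Module.Flat.lTensor_preserves_injective_linearMap (LinearMap.range ψ).subtype (Submodule.subtype_injective _)
      rw [map_zero, ← LinearMap.comp_apply, ← LinearMap.lTensor_comp,
        show (LinearMap.range ψ).subtype.comp ψ.rangeRestrict = ψ from rfl, hψ])
  -- back to `B`
  let DK : D →ₐ[A] K := j.comp ((integralClosure B₁ K₁).val.restrictScalars A)
  let iR := i.toRingHom
  have hDB : ∀ x : D, ∃ y : B, algebraMap B K y = DK x := fun x ↦ by
    refine IsIntegrallyClosed.isIntegral_iff.mp ?_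
    exact isIntegralElem_of_comm (f := algebraMap B₁ K₁) (g := j.toRingHom) (h := iR) hj x.2
  choose DBf hDBf using hDB
  let DB : D →ₗ[A] B :=
    { toFun := DBf
      map_add' := fun x y ↦ IsFractionRing.injective B K (by
        rw [map_add, hDBf, hDBf, hDBf, map_add])
      map_smul' := fun a x ↦ IsFractionRing.injective B K (by
        rw [RingHom.id_apply, Algebra.smul_def a (DBf x), map_mul, hDBf, hDBf,
          map_smul, Algebra.smul_def, ← IsScalarTower.algebraMap_apply]) }
  refine ⟨LinearMap.lTensor A' DB nq, ?_⟩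
  have hΨ : ∀ v : A' ⊗[A] D, Φ (LinearMap.lTensor A' DB v) = LinearMap.lTensor A' DK.toLinearMap v := fun v ↦ by
    induction v using TensorProduct.induction_on with
    | zero => simp
    | add x y hx hy => rw [map_add, map_add, hx, hy, map_add]
    | tmul a b =>
      show a ⊗ₜ algebraMap B K (DBf b) = _
      rw [hDBf]
      rfl
  refine (he₁.map J).mul_left_cancel ?_
  show J e₁ * Φ (LinearMap.lTensor A' DB nq) = J e₁ * z
  rw [hΨ]
  have h2 : ∀ v, LinearMap.lTensor A' DK.toLinearMap (LinearMap.lTensor A' μ v) =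
      J e₁ * LinearMap.lTensor A' DK.toLinearMap v := fun v ↦ by
    induction v using TensorProduct.induction_on with
    | zero => simp
    | add x y hx hy => rw [map_add, map_add, hx, hy, map_add, mul_add]
    | tmul a b =>
      simp only [LinearMap.lTensor_tmul, J, e₁, Algebra.TensorProduct.map_tmul, AlgHom.id_apply,
        Algebra.TensorProduct.tmul_mul_tmul, one_mul, AlgHom.toLinearMap_apply]
      congr 1
      show DK (dD * b) = _
      rw [map_mul]
      rfl
  rw [← h2, hnq]
  have h3 : ∀ v, LinearMap.lTensor A' DK.toLinearMap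
      (Algebra.TensorProduct.map (AlgHom.id A A') (IsScalarTower.toAlgHom A B₁ D) v) = J (Φ₁ v) := fun v ↦ by
    induction v using TensorProduct.induction_on with
    | zero => simp
    | add x y hx hy => simp only [map_add, hx, hy]
    | tmul a b => rfl
  rw [h3, ← hz₁, map_mul, hJz]

end GeomRedFibLib
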