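import Groth.Agent.GeomRedFibLib.GeomApps
import Groth.Agent.AdicRingLib.Completion
import Mathlib.RingTheory.AdicCompletion.AsTensorProduct

/-!
# Localisation at `1 + J` and the completion
-/

set_option autoImplicit false
set_option synthInstance.maxHeartbeats 400000

universe u

open TensorProduct IsLocalRing

namespace GeomRedFibLib

noncomputable section

variable {P : ∀ (R : Type u) [CommRing R], Prop} (hP : IsFlatLocalProp P)

include hP in
theorem ringP_submonoid_localization_iff {R : Type u} [CommRing R] (M : Submonoid R) :
    RingP P (Localization M) ↔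
      ∀ (p : Ideal R) [p.IsPrime], Disjoint (M : Set R) (p : Set R) → P (Localization.AtPrime p) := by
  constructor
  · intro h p _ hd
    haveI : (p.map (algebraMap R (Localization M))).IsPrime :=
      IsLocalization.isPrime_of_isPrime_disjoint M _ p ‹_› hd
    let Q := p.map (algebraMap R (Localization M))
    have hQ : Q.comap (algebraMap R (Localization M)) = p :=
      IsLocalization.under_map_of_isPrime_disjoint M (Localization M) ‹_› hd
    haveI : IsLocalization.AtPrime (Localization.AtPrime Q) p := by
      have h := IsLocalization.isLocalization_isLocalization_atPrime_isLocalization M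
        (S := Localization M) (Localization.AtPrime Q) Q
      simpa only [hQ] using h
    exact hP.congr _ _ (IsLocalization.algEquiv p.primeCompl (Localization.AtPrime p) (Localization.AtPrime Q)).toRingEquiv.symm
      (h Q)
  · intro h Q _
    exact hP.congr _ _ (IsLocalization.localizationLocalizationAtPrimeIsoLocalization M Q).toRingEquiv
      (h _ (((IsLocalization.isPrime_iff_isPrime_disjoint M (Localization M) Q).mp ‹_›).2))

include hP in
/-- A property transfers between `(1 + J)⁻¹A` and the completion when the fibres have it. -/
theorem ringP_onePlus_iff (A : Type u) [CommRing A] [IsNoetherianRing A] (J : Ideal A)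
    [Module.Flat A (AdicCompletion J A)]
    (hfib : ∀ (q : Ideal (AdicCompletion J A)) [q.IsPrime], P (EGA4.FibLocRing A (AdicCompletion J A) q))
    (T : Submonoid A) (hT : T = MonoidHom.mker (Ideal.Quotient.mk J)) :
    RingP P (Localization T) ↔ RingP P (AdicCompletion J A) := by
  haveI := AdicRingLib.isNoetherianRing_adicCompletion J
  haveI := AdicRingLib.isAdicComplete_map (C := A) (IsNoetherian.noetherian J)
  have hmem : ∀ t, t ∈ T ↔ t - 1 ∈ J := fun t ↦ by
    rw [hT, MonoidHom.mem_mker]
    show Ideal.Quotient.mk J t = 1 ↔ _
    rw [← map_one (Ideal.Quotient.mk J), Ideal.Quotient.eq]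
  rw [ringP_submonoid_localization_iff hP]
  constructor
  · intro h q _
    refine asc_at hP A (AdicCompletion J A) q (h _ (Set.disjoint_left.mpr fun t ht htq ↦ ?_)) (hfib q)
    have h1 : algebraMap A (AdicCompletion J A) (t - 1) ∈ (⊥ : Ideal (AdicCompletion J A)).jacobson :=
      IsAdicComplete.le_jacobson_bot _ (Ideal.mem_map_of_mem _ ((hmem t).mp ht))
    have h2 : IsUnit (algebraMap A (AdicCompletion J A) t) := by
      have := (Ideal.mem_jacobson_bot.mp h1) 1
      simpa using this
    exact (inferInstance : q.IsPrime).ne_top (Ideal.eq_top_of_isUnit_mem _ htq h2)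
  · intro h p _ hd
    have hne : p ⊔ J ≠ ⊤ := fun hc ↦ by
      obtain ⟨x, hx, y, hy, hxy⟩ := Submodule.mem_sup.mp ((Ideal.eq_top_iff_one _).mp hc)
      refine Set.disjoint_left.mp hd ((hmem x).mpr ?_) hx
      rw [← hxy]
      simpa using neg_mem hy
    obtain ⟨m, hm, hle⟩ := Ideal.exists_le_maximal _ hne
    have hJm : J ≤ m := le_sup_right.trans hle
    haveI : (m.map (Ideal.Quotient.mk J)).IsPrime :=
      Ideal.map_isPrime_of_surjective Ideal.Quotient.mk_surjective (by rwa [Ideal.mk_ker])
    let q := (m.map (Ideal.Quotient.mk J)).comap (AdicCompletion.evalOneₐ J).toRingHom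
    have hq : m = q.comap (algebraMap A (AdicCompletion J A)) := by
      rw [Ideal.comap_comap, AdicCompletion.evalOneₐ_comp_algebraMap_eq_mk, Ideal.comap_map_mk hJm]
    have hm' : RingP P (Localization.AtPrime (q.comap (algebraMap A (AdicCompletion J A)))) :=
      ringP_desc_at hP A (AdicCompletion J A) q ((ringP_localization_iff hP q).mpr fun q' _ _ ↦ h q')
    rw [ringP_localization_iff hP] at hm'
    exact hm' p (hq ▸ le_sup_left.trans hle)

end

end GeomRedFibLib
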